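import Mathlib
import Cfsg.Agent.ClassicalMax.SympThree.Gens
import Cfsg.Agent.ClassicalMax.SympThree.Model

/-!
The effects of normalising elements on the pairs of indices, and the group of order 27.
-/

set_option autoImplicit false

namespace Cfsg.Agent.ClassicalMax.Hessian

open Matrix SympThree

theorem comp_id : ∀ m : M2, comp m m1 = m ∧ comp m1 m = m := by decide +kernel

theorem comp_assoc' (a b c : M2) : comp (comp a b) c = comp a (comp b c) := by
  simp only [SympThree.comp, app, Prod.mk.injEq]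
  refine ⟨⟨?_, ?_⟩, ?_, ?_⟩ <;> ring

theorem det2_comp (a b : M2) : det2 (comp a b) = det2 a * det2 b := by
  simp only [SympThree.comp, app, det2]; ring

/-- powers of effects -/
def npw (m : M2) : ℕ → M2
  | 0 => m1
  | n + 1 => comp m (npw m n)

theorem npw_add (m : M2) (a b : ℕ) : npw m (a + b) = comp (npw m a) (npw m b) := by
  induction a with
  | zero => rw [zero_add, npw, (comp_id _).2]
  | succ a ih => rw [Nat.succ_add, npw, npw, ih, comp_assoc']

theorem det2_npw {m : M2} (hm : det2 m = 1) (n : ℕ) : det2 (npw m n) = 1 := by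
  induction n with
  | zero => exact (by decide : det2 m1 = 1)
  | succ n ih => rw [npw, det2_comp, hm, ih, one_mul]

theorem twelve : ∀ m : M2, det2 m = 1 → npw m 12 = m1 := by decide +kernel

theorem odd_cube : ∀ m : M2, ∀ r : Fin 12, det2 m = 1 → (r : ℕ) % 2 = 1 → npw m r = m1 → npw m 3 = m1 := by
  decide +kernel

theorem cube_of_odd {m : M2} (hm : det2 m = 1) {n : ℕ} (hn : Odd n) (h : npw m n = m1) : npw m 3 = m1 := by
  have h12 : ∀ q : ℕ, npw m (12 * q) = m1 := by
    intro q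
    induction q with
    | zero => rfl
    | succ q ih => rw [Nat.mul_succ, npw_add, ih, twelve m hm, (comp_id _).1]
  refine odd_cube m ⟨n % 12, Nat.mod_lt _ (by norm_num)⟩ hm ?_ ?_
  · rw [Nat.odd_iff] at hn
    show n % 12 % 2 = 1
    omega
  · show npw m (n % 12) = m1
    rw [← Nat.div_add_mod n 12, npw_add, h12, (comp_id _).2] at h
    exact h

/-- the effect of the turned Fourier matrix -/
def mF' : M2 := comp mP (comp mF (comp mP mP))

/-- the inverse effects -/
def inv3 (m : M2) : M2 := comp m m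

theorem q8_turn : ∀ m : M2, det2 m = 1 → npw m 3 = m1 → npw (comp m (comp mF (comp (inv3 m) (npw mF 3)))) 3 = m1 →
    npw (comp m (comp mF' (comp (inv3 m) (npw mF' 3)))) 3 = m1 → m = m1 := by
  decide +kernel

theorem diag_phase : ∀ z b : Z3, (if z = 0 then (1 : Z3) else 0) - (if z - b = 0 then 1 else 0) = b * z + b * b := by
  decide

variable {F : Type*} [Field F] (K : Root F)

theorem Dg_conj (a b : Z3) : K.Dg 1 * K.W a b * (K.Dg 1)⁻¹ = sc (K.e (b * b)) * K.W (a + b) b := by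
  rw [mul_inv_eq_iff_eq_mul]
  refine Units.ext ?_
  rw [Units.val_mul (sc _ * _), val_sc_mul, Units.val_mul, Matrix.smul_mul]
  ext z w
  have hd : ∀ x : Z3, (if x = 0 then ((K.e 1 : Fˣ) : F) else 1) = K.e (if x = 0 then 1 else 0) := fun x => by
    split_ifs
    · rfl
    · rw [Root.eval0]
  have hD : ((K.Dg 1 : GL Z3 F) : Matrix Z3 Z3 F) = Matrix.diagonal fun x => (K.e (if x = 0 then 1 else 0) : F) :=
    Matrix.ext fun x y => by rw [Root.Dg_val, Matrix.diagonal_apply, hd]
  rw [hD, Matrix.diagonal_mul, Matrix.smul_apply, Matrix.mul_diagonal, smul_eq_mul, Root.W_val, Root.W_val]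
  by_cases h : z = w + b
  · rw [if_pos h, if_pos h, ← Units.val_mul, ← Units.val_mul, ← Units.val_mul, ← K.e_add, ← K.e_add, ← K.e_add]
    congr 2
    have := diag_phase z b
    rw [show z - b = w by rw [h, add_sub_cancel_right]] at this
    linear_combination this
  · rw [if_neg h, if_neg h, mul_zero, zero_mul, mul_zero]

theorem img_Dg : K.Img (K.Dg 1) mP := fun a b => ⟨K.e (b * b), by simp [app, mP, Dg_conj]⟩

theorem img_unique {g : GL Z3 F} {m m' : M2} (h : K.Img g m) (h' : K.Img g m') : m = m' := by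
  have key : ∀ a b, app m a b = app m' a b := fun a b => by
    obtain ⟨c, e⟩ := h a b
    obtain ⟨c', e'⟩ := h' a b
    have h1 : K.W (app m a b).1 (app m a b).2 = sc (c⁻¹ * c') * K.W (app m' a b).1 (app m' a b).2 := by
      rw [map_mul, map_inv, mul_assoc, ← e', e, inv_mul_cancel_left]
    exact Prod.ext (K.W_inj h1).1 (K.W_inj h1).2
  have h1 := key 1 0
  have h2 := key 0 1
  simp [app] at h1 h2
  exact Prod.ext h1 h2

theorem img_pow {g : GL Z3 F} {m : M2} (h : K.Img g m) (n : ℕ) : K.Img (g ^ n) (npw m n) := by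
  induction n with
  | zero => rw [pow_zero]; exact K.img_one
  | succ n ih => rw [pow_succ', npw]; exact h.mul K ih

theorem img_inv {g : GL Z3 F} {m : M2} (h : K.Img g m) (hm : det2 m = 1) : K.Img g⁻¹ (npw m 11) := by
  intro a b
  obtain ⟨c, e⟩ := h (app (npw m 11) a b).1 (app (npw m 11) a b).2
  refine ⟨c⁻¹, ?_⟩
  have e2 : app m (app (npw m 11) a b).1 (app (npw m 11) a b).2 = (a, b) := by
    have h12 : comp m (npw m 11) = m1 := twelve m hm
    have : app (comp m (npw m 11)) a b = app m (app (npw m 11) a b).1 (app (npw m 11) a b).2 := by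
      simp only [app, SympThree.comp, Prod.mk.injEq]; constructor <;> ring
    rw [← this, h12]
    simp [app, m1]
  rw [e2] at e
  have h3 : K.W a b = sc c⁻¹ * (g * K.W (app (npw m 11) a b).1 (app (npw m 11) a b).2 * g⁻¹) := by
    rw [e, ← mul_assoc, ← map_mul, inv_mul_cancel, map_one, one_mul]
  rw [h3, conj_sc_mul]
  group

theorem img_Fp : K.Img (K.Dg 1 * K.Fr * (K.Dg 1)⁻¹) mF' := by
  have h := ((img_Dg K).mul K K.img_Fr).mul K (img_inv K (img_Dg K) (by decide))
  rwa [show comp (comp mP mF) (npw mP 11) = mF' by decide] at h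

/-- a normalising element has an effect of determinant one -/
theorem nor_img [Finite F] {k : GL Z3 F} (hk : K.Nor k) : ∃ m, det2 m = 1 ∧ K.Img k m := by
  obtain ⟨u, g, hg, rfl⟩ := K.exists_gen hk
  obtain ⟨m, hm, hi⟩ : ∃ m, det2 m = 1 ∧ K.Img g m := by
    refine Subgroup.closure_induction (p := fun g _ => ∃ m, det2 m = 1 ∧ K.Img g m) ?_ ⟨m1, rfl, K.img_one⟩ ?_ ?_ hg
    · intro x hx
      simp only [Set.mem_insert_iff, Set.mem_singleton_iff] at hx
      rcases hx with rfl | rfl | rfl | rfl | rfl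
      · exact ⟨m1, rfl, fun a b => ⟨K.e (1 * b - a * 0), by simp [app, m1, K.W_conj]⟩⟩
      · exact ⟨m1, rfl, fun a b => ⟨K.e (0 * b - a * 1), by simp [app, m1, K.W_conj]⟩⟩
      · exact ⟨mT, by decide, K.img_T⟩
      · exact ⟨mP, by decide, K.img_P⟩
      · exact ⟨mF, by decide, K.img_Fr⟩
    · rintro x y - - ⟨m, hm, hi⟩ ⟨m', hm', hi'⟩
      exact ⟨comp m m', by rw [det2_comp, hm, hm', one_mul], hi.mul K hi'⟩
    · rintro x - ⟨m, hm, hi⟩
      exact ⟨npw m 11, det2_npw hm 11, img_inv K hi hm⟩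
  refine ⟨m, hm, fun a b => ?_⟩
  obtain ⟨c, e⟩ := hi a b
  exact ⟨c, by rw [sc_mul_conj, e]⟩

/-- the group of order 27 -/
def Rg : Subgroup (GL Z3 F) where
  carrier := {g | ∃ c a b, g = sc (K.e c) * K.W a b}
  one_mem' := ⟨0, 0, 0, by rw [Root.e_zero, map_one, one_mul, K.W_zero]⟩
  mul_mem' := by
    rintro _ _ ⟨c, a, b, rfl⟩ ⟨c', a', b', rfl⟩
    refine ⟨c + c' + -(a' * b), a + a', b + b', ?_⟩
    rw [mul_assoc, ← mul_assoc (K.W a b), ← sc_comm, mul_assoc (sc (K.e c')), K.W_mul, ← mul_assoc, ← mul_assoc,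
      ← map_mul, ← map_mul, ← K.e_add, ← K.e_add]
  inv_mem' := by
    rintro _ ⟨c, a, b, rfl⟩
    refine ⟨-c + -(a * b), -a, -b, ?_⟩
    rw [_root_.mul_inv_rev, K.W_inv, ← map_inv, ← K.e_neg, mul_assoc, ← sc_comm, ← mul_assoc, ← map_mul, ← K.e_add,
      add_comm]

theorem W_mem_Rg (a b : Z3) : K.W a b ∈ Rg K := ⟨0, a, b, by rw [Root.e_zero, map_one, one_mul]⟩

theorem nor_of_mem {g : GL Z3 F} (h : g ∈ Rg K) : K.Nor g := by
  obtain ⟨c, a, b, rfl⟩ := h
  exact K.nor_mul (K.nor_sc _) (K.nor_W _ _)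

theorem card_Rg : Nat.card (Rg K) = 27 := by
  let f : Z3 × Z3 × Z3 → Rg K := fun v => ⟨sc (K.e v.1) * K.W v.2.1 v.2.2, v.1, v.2.1, v.2.2, rfl⟩
  have hf : Function.Bijective f := by
    refine ⟨fun v w h => ?_, fun g => ?_⟩
    · have h' : sc (K.e v.1) * K.W v.2.1 v.2.2 = sc (K.e w.1) * K.W w.2.1 w.2.2 := congrArg Subtype.val h
      have h1 : K.W v.2.1 v.2.2 = sc ((K.e v.1)⁻¹ * K.e w.1) * K.W w.2.1 w.2.2 := by
        rw [map_mul, mul_assoc, ← h', map_inv, inv_mul_cancel_left]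
      obtain ⟨e1, e2⟩ := K.W_inj h1
      rw [e1, e2] at h'
      have h3 := congrArg (fun m : GL Z3 F => (m : Matrix Z3 Z3 F) 0 0) (mul_right_cancel h')
      simp only [sc_val, Matrix.smul_apply, Matrix.one_apply_eq, smul_eq_mul, mul_one] at h3
      exact Prod.ext (K.e_val_inj h3) (Prod.ext e1 e2)
    · obtain ⟨_, c, a, b, rfl⟩ := g
      exact ⟨(c, a, b), rfl⟩
  rw [← Nat.card_eq_of_bijective f hf, Nat.card_prod, Nat.card_prod, Nat.card_zmod]

/-- a determinant one element with trivial effect -/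
theorem mem_Rg_of_img {g : GL Z3 F} (hd : (g : Matrix Z3 Z3 F).det = 1) (h : K.Img g m1) : g ∈ Rg K := by
  obtain ⟨c, e1⟩ := h 1 0
  obtain ⟨d, e2⟩ := h 0 1
  simp [app, m1] at e1 e2
  obtain ⟨u, a, b, rfl⟩ := K.centr e1 e2
  rw [det_sc_mul, K.det_W, mul_one, ZMod.card] at hd
  obtain ⟨c, hc⟩ := K.exists_e hd
  exact ⟨c, a, b, by rw [Units.ext hc]⟩

/-- an element conjugating the group into itself normalises it up to scalars -/
theorem nor_of_conj {g : GL Z3 F} (h : ∀ x ∈ Rg K, g * x * g⁻¹ ∈ Rg K) : K.Nor g := fun a b => by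
  obtain ⟨c, a', b', e⟩ := h _ (W_mem_Rg K a b)
  exact ⟨_, _, _, e⟩

end Cfsg.Agent.ClassicalMax.Hessian
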