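import Mathlib
import Cfsg.Agent.ClassicalMax.Hessian.Effect

/-!
Abelian groups of order prime to three normalised by the normaliser of the group of order 27 are trivial.
-/

set_option autoImplicit false

namespace Cfsg.Agent.ClassicalMax.Hessian

open Matrix SympThree
open scoped MatrixGroups

variable {F : Type*} [Field F] {K : Root F}
variable [NeZero (2 : F)]

theorem nine_identity {A : Type*} [CommMonoid A] (x a b c d e f g h : A) :
    x ^ 3 * (x * c * d * (a * e * g) * (b * h * f)) = (x * a * b) * (x * c * d) * (x * e * f) * (x * g * h) :=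
  Additive.ofMul.injective (by simp only [ofMul_mul, ofMul_pow]; abel)

theorem z3_four : ∀ v : Z3 × Z3, v ≠ 0 → v = (1, 0) ∨ v = (2, 0) ∨ v = (0, 1) ∨ v = (0, 2) ∨ v = (1, 1) ∨
    v = (2, 2) ∨ v = (1, 2) ∨ v = (2, 1) := by decide

/-- abelian subgroups of order prime to three normalised by the normaliser are trivial -/
theorem ab_trivial (A : Subgroup (GL Z3 F)) (hA1 : ∀ g ∈ A, (g : Matrix Z3 Z3 F).det = 1)
    (hA3 : ∀ g ∈ A, g ^ 3 = 1 → g = 1) (hcomm : ∀ x ∈ A, ∀ y ∈ A, x * y = y * x)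
    (hW : ∀ a b, ∀ x ∈ A, K.W a b * x * (K.W a b)⁻¹ ∈ A)
    (hF : ∀ x ∈ A, K.Fr * x * K.Fr⁻¹ ∈ A)
    (hF' : ∀ x ∈ A, K.Dg 1 * K.Fr * (K.Dg 1)⁻¹ * x * (K.Dg 1 * K.Fr * (K.Dg 1)⁻¹)⁻¹ ∈ A) :
    A = ⊥ := by
  classical
  -- commuting with a scaled element
  have hscale : ∀ (x : GL Z3 F) (c : Fˣ) (a b : Z3), x * (sc c * K.W a b) = sc c * K.W a b * x →
      x * K.W a b = K.W a b * x := by
    intro x c a b h
    rw [← mul_assoc, ← sc_comm, mul_assoc, mul_assoc] at h
    exact mul_left_cancel h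
  let Com : Z3 × Z3 → GL Z3 F → Prop := fun v x => x * K.W v.1 v.2 = K.W v.1 v.2 * x
  -- transport
  have tr : ∀ (n : GL Z3 F) (m : M2), K.Img n m → (∀ x ∈ A, n * x * n⁻¹ ∈ A) → ∀ v : Z3 × Z3,
      (∃ x ∈ A, x ≠ 1 ∧ Com v x) → ∃ x ∈ A, x ≠ 1 ∧ Com (app m v.1 v.2) x := by
    rintro n m hn hnA v ⟨x, hx, hx1, hc⟩
    obtain ⟨c, e⟩ := hn v.1 v.2
    refine ⟨n * x * n⁻¹, hnA x hx, fun h => hx1 (conj_eq_one_iff.1 h), hscale _ c _ _ ?_⟩
    rw [← e]
    calc n * x * n⁻¹ * (n * K.W v.1 v.2 * n⁻¹) = n * (x * K.W v.1 v.2) * n⁻¹ := by group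
      _ = n * (K.W v.1 v.2 * x) * n⁻¹ := by rw [show x * K.W v.1 v.2 = K.W v.1 v.2 * x from hc]
      _ = _ := by group
  have neg : ∀ (a b : Z3) x, Com (a, b) x → Com (-a, -b) x := by
    intro a b x h
    refine hscale x (K.e (-(a * b))) _ _ ?_
    rw [← K.W_inv]
    exact (Commute.inv_right (h : Commute x (K.W a b))).eq
  by_contra hne
  -- some line is centralised
  have hex : ∃ v : Z3 × Z3, v ≠ 0 ∧ ∃ x ∈ A, x ≠ 1 ∧ Com v x := by
    by_contra hno
    push Not at hno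
    obtain ⟨a0, ha0, ha01⟩ : ∃ a ∈ A, a ≠ 1 := by
      by_contra h
      push Not at h
      exact hne ((Subgroup.eq_bot_iff_forall _).2 h)
    letI : CommGroup A := { (inferInstance : Group A) with mul_comm := fun x y => Subtype.ext (hcomm x x.2 y y.2) }
    let c : Z3 → Z3 → A → A := fun a b x => ⟨K.W a b * x * (K.W a b)⁻¹, hW a b x x.2⟩
    have c_comp : ∀ a b a' b' x, c a b (c a' b' x) = c (a + a') (b + b') x := by
      intro a b a' b' x
      refine Subtype.ext ?_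
      show K.W a b * (K.W a' b' * x * (K.W a' b')⁻¹) * (K.W a b)⁻¹ = K.W (a + a') (b + b') * x * (K.W (a + a') (b + b'))⁻¹
      rw [show K.W a b * (K.W a' b' * (x : GL Z3 F) * (K.W a' b')⁻¹) * (K.W a b)⁻¹ =
        K.W a b * K.W a' b' * x * (K.W a b * K.W a' b')⁻¹ by group, K.W_mul, sc_mul_conj]
    have c_zero : ∀ x, c 0 0 x = x := fun x => Subtype.ext (by
      show K.W 0 0 * (x : GL Z3 F) * (K.W 0 0)⁻¹ = x
      rw [K.W_zero]; group)
    have c_mul : ∀ a b x y, c a b (x * y) = c a b x * c a b y := fun a b x y => Subtype.ext (by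
      show K.W a b * ((x : GL Z3 F) * y) * (K.W a b)⁻¹ = K.W a b * x * (K.W a b)⁻¹ * (K.W a b * y * (K.W a b)⁻¹)
      group)
    have hN : ∀ a b : Z3, (a, b) ≠ (0, 0) → ∀ x : A, x * c a b x * c (a + a) (b + b) x = 1 := by
      intro a b hv x
      set y := x * c a b x * c (a + a) (b + b) x with hy
      have h3 : ∀ t : Z3, t + (t + t) = 0 := by decide
      have hfix : c a b y = y := by
        rw [hy, c_mul, c_mul, c_comp, c_comp, h3, h3, c_zero, mul_comm, mul_assoc]
      by_contra h1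
      refine hno (a, b) hv y y.2 (fun e => h1 (Subtype.ext e)) ?_
      have := congrArg Subtype.val hfix
      exact (mul_inv_eq_iff_eq_mul.1 this).symm
    set x : A := ⟨a0, ha0⟩
    have h10 := hN 1 0 (by decide) x
    have h01 := hN 0 1 (by decide) x
    have h11 := hN 1 1 (by decide) x
    have h12 := hN 1 2 (by decide) x
    have hall := hN 1 0 (by decide) (x * c 0 1 x * c (0 + 0) (1 + 1) x)
    rw [c_mul, c_mul, c_mul, c_mul, c_comp, c_comp, c_comp, c_comp] at hall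
    simp only [show (1 : Z3) + 1 = 2 by decide, show (2 : Z3) + 2 = 1 by decide, show (2 : Z3) + 1 = 0 by decide,
      show (1 : Z3) + 2 = 0 by decide, add_zero, zero_add] at h10 h01 h11 h12 hall
    have h3 := nine_identity x (c 1 0 x) (c 2 0 x) (c 0 1 x) (c 0 2 x) (c 1 1 x) (c 2 2 x) (c 1 2 x) (c 2 1 x)
    rw [hall, h10, h01, h11, h12] at h3
    simp only [mul_one] at h3
    exact ha01 (hA3 a0 ha0 (by simpa using congrArg Subtype.val h3))
  -- both coordinate lines are centralised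
  obtain ⟨v, hv0, hv⟩ := hex
  have hv' : ∀ w : Z3 × Z3, (∃ x ∈ A, x ≠ 1 ∧ Com w x) → ∃ x ∈ A, x ≠ 1 ∧ Com (-w.1, -w.2) x :=
    fun w ⟨x, hx, hx1, hc⟩ => ⟨x, hx, hx1, neg w.1 w.2 x hc⟩
  have f1 := tr K.Fr mF K.img_Fr hF
  have f2 := tr _ mF' (img_Fp K) hF'
  have to10 : ∀ w : Z3 × Z3, w = (1, 0) → (∃ x ∈ A, x ≠ 1 ∧ Com w x) → ∃ x ∈ A, x ≠ 1 ∧ Com (1, 0) x :=
    fun w e h => e ▸ h
  have h10 : ∃ x ∈ A, x ≠ 1 ∧ Com (1, 0) x := by
    rcases z3_four v hv0 with e | e | e | e | e | e | e | e <;> subst e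
    · exact hv
    · exact to10 _ (by decide) (hv' _ hv)
    · exact to10 _ (by decide) (f1 _ hv)
    · exact to10 _ (by decide) (hv' _ (f1 _ hv))
    · exact to10 _ (by decide) (f2 _ hv)
    · exact to10 _ (by decide) (hv' _ (f2 _ hv))
    · exact to10 _ (by decide) (f1 _ (f2 _ hv))
    · exact to10 _ (by decide) (f2 _ (f1 _ hv))
  have h01 : ∃ x ∈ A, x ≠ 1 ∧ Com (0, 1) x := by
    have := hv' _ (f1 _ h10)
    rwa [show (-(app mF (1 : Z3) 0).1, -(app mF (1 : Z3) 0).2) = (0, 1) by decide] at this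
  obtain ⟨a, ha, ha1, hca⟩ := h10
  obtain ⟨b, hb, hb1, hcb⟩ := h01
  have hscal : ∀ x ∈ A, (∀ z w : Z3, (x : Matrix Z3 Z3 F) z w = if z = w then (x : Matrix Z3 Z3 F) 0 0 else 0) → x = 1 := by
    intro x hx hs
    have hd := hA1 x hx
    rw [det_z3, hs 1 1, hs 2 2, hs 0 1, hs 0 2, hs 1 0, hs 1 2, hs 2 0, hs 2 1] at hd
    simp +decide at hd
    have hxs : (x : Matrix Z3 Z3 F) = ((x : Matrix Z3 Z3 F) 0 0) • 1 := by
      ext z w
      rw [hs z w, Matrix.smul_apply, Matrix.one_apply, smul_eq_mul, mul_ite, mul_one, mul_zero]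
    refine hA3 x hx (Units.ext ?_)
    rw [Units.val_pow_eq_pow_val, hxs, smul_pow, one_pow, Units.val_one]
    rw [show ((x : Matrix Z3 Z3 F) 0 0) ^ 3 = 1 by rw [← hd]; ring, one_smul]
  -- the first is diagonal, the second circulant
  have hdiag : ∀ z w : Z3, z ≠ w → (a : Matrix Z3 Z3 F) z w = 0 := by
    intro z w hzw
    have h := congrArg (fun g : GL Z3 F => (g : Matrix Z3 Z3 F) z w) hca
    simp only [Units.val_mul, Matrix.mul_apply] at h
    rw [Finset.sum_eq_single w (fun x _ hx => by rw [Root.W_val, if_neg (by simpa using hx), mul_zero]) (by simp),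
      Finset.sum_eq_single z (fun x _ hx => by rw [Root.W_val, if_neg (by simpa using Ne.symm hx), zero_mul]) (by simp),
      Root.W_val, Root.W_val, if_pos (add_zero w).symm, if_pos (add_zero z).symm, one_mul, one_mul] at h
    by_contra h0
    exact hzw (K.e_val_inj (mul_left_cancel₀ h0 (h.trans (mul_comm _ _)))).symm
  have hcirc : ∀ z w : Z3, (b : Matrix Z3 Z3 F) (z + 1) (w + 1) = (b : Matrix Z3 Z3 F) z w := by
    intro z w
    have h := congrArg (fun g : GL Z3 F => (g : Matrix Z3 Z3 F) (z + 1) w) hcb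
    simp only [Units.val_mul, Matrix.mul_apply] at h
    rw [Finset.sum_eq_single (w + 1) (fun x _ hx => by rw [Root.W_val, if_neg hx, mul_zero]) (by simp),
      Finset.sum_eq_single z (fun x _ hx => by
        rw [Root.W_val, if_neg (fun e => hx (add_right_cancel e).symm), zero_mul]) (by simp),
      Root.W_val, Root.W_val, if_pos rfl, if_pos rfl, zero_mul, zero_mul, Root.eval0, mul_one, one_mul] at h
    exact h
  have hab : ∀ z w : Z3, (a : Matrix Z3 Z3 F) z z * (b : Matrix Z3 Z3 F) z w =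
      (b : Matrix Z3 Z3 F) z w * (a : Matrix Z3 Z3 F) w w := by
    intro z w
    have h := congrArg (fun g : GL Z3 F => (g : Matrix Z3 Z3 F) z w) (hcomm a ha b hb)
    simp only [Units.val_mul, Matrix.mul_apply] at h
    rwa [Finset.sum_eq_single z (fun x _ hx => by rw [hdiag z x (Ne.symm hx), zero_mul]) (by simp),
      Finset.sum_eq_single w (fun x _ hx => by rw [hdiag x w hx, mul_zero]) (by simp)] at h
  by_cases hoff : (b : Matrix Z3 Z3 F) 0 1 = 0 ∧ (b : Matrix Z3 Z3 F) 0 2 = 0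
  · refine hb1 (hscal b hb fun z w => ?_)
    have c1 := hcirc 0 0
    have c2 := hcirc 1 1
    have c3 := hcirc 0 1
    have c4 := hcirc 0 2
    have c5 := hcirc 1 2
    have c6 := hcirc 1 0
    simp only [show (0 : Z3) + 1 = 1 by decide, show (1 : Z3) + 1 = 2 by decide,
      show (2 : Z3) + 1 = 0 by decide] at c1 c2 c3 c4 c5 c6
    rcases z3_cases z with rfl | rfl | rfl <;> rcases z3_cases w with rfl | rfl | rfl <;>
      simp +decide [c1, c2, c3, c4, c5, c6, hoff.1, hoff.2]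
  · refine ha1 (hscal a ha fun z w => ?_)
    have hstep : (a : Matrix Z3 Z3 F) 0 0 = (a : Matrix Z3 Z3 F) 1 1 ∧ (a : Matrix Z3 Z3 F) 0 0 = (a : Matrix Z3 Z3 F) 2 2 := by
      have key : ∀ z w, (b : Matrix Z3 Z3 F) z w ≠ 0 → (a : Matrix Z3 Z3 F) z z = (a : Matrix Z3 Z3 F) w w :=
        fun z w hne => mul_right_cancel₀ hne ((hab z w).trans (mul_comm _ _))
      rcases not_and_or.1 hoff with h | h
      · refine ⟨key 0 1 h, (key 0 1 h).trans (key 1 2 ?_)⟩
        have := hcirc 0 1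
        simp only [show (0 : Z3) + 1 = 1 by decide, show (1 : Z3) + 1 = 2 by decide] at this
        rwa [this]
      · refine ⟨(key 1 0 ?_).symm, key 0 2 h⟩
        have := hcirc 0 2
        simp only [show (0 : Z3) + 1 = 1 by decide, show (2 : Z3) + 1 = 0 by decide] at this
        rwa [this]
    by_cases hzw : z = w
    · subst hzw
      rcases z3_cases z with rfl | rfl | rfl
      · rw [if_pos rfl]
      · rw [if_pos rfl, hstep.1]
      · rw [if_pos rfl, hstep.2]
    · rw [if_neg hzw, hdiag z w hzw]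

end Cfsg.Agent.ClassicalMax.Hessian
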