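import Mathlib
import Cfsg.Agent.Classical.Dickson2.Main
import Cfsg.Agent.Classical.Dickson2.PGL.Base

/-!
The shapes of the subgroups of order prime to the characteristic of the projective general linear group of degree two,
and the consequences used for the group of order 216 in dimension three.
-/

set_option autoImplicit false

namespace Cfsg.Agent.ClassicalMax.Hessian

open Cfsg.Agent.Classical Cfsg.Agent.Classical.Dickson2
open scoped MatrixGroups

universe u

/-- a subgroup with an abelian part with one involution at most, inverted by the involutions outside it -/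
def Tor {G : Type*} [Group G] (H : Subgroup G) : Prop :=
  ∃ B : Subgroup G, B ≤ H ∧ (∀ a ∈ B, ∀ b ∈ B, a * b = b * a) ∧
    (∀ a ∈ B, ∀ b ∈ B, a * a = 1 → b * b = 1 → a ≠ 1 → b ≠ 1 → a = b) ∧
    (∀ a ∈ H, a ∉ B → a * a = 1 ∧ ∀ b ∈ B, a * b * a⁻¹ = b⁻¹) ∧
    ∀ a ∈ H, ∀ a' ∈ H, a ∉ B → a' ∉ B → a * a' ∈ B

/-- one of the three exceptional groups -/
def Exc {G : Type*} [Group G] (H : Subgroup G) : Prop :=
  Nonempty (H ≃* alternatingGroup (Fin 4)) ∨ Nonempty (H ≃* Equiv.Perm (Fin 4)) ∨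
    Nonempty (H ≃* alternatingGroup (Fin 5))

theorem Tor.of_map {G G' : Type*} [Group G] [Group G'] (f : G →* G') (hf : Function.Injective f) {H : Subgroup G}
    (h : Tor (H.map f)) : Tor H := by
  obtain ⟨B, hBH, hc, hu, hi, hp⟩ := h
  refine ⟨B.comap f, fun a ha => (Subgroup.mem_map_iff_mem hf).1 (hBH ha),
    fun a ha b hb => hf (by rw [map_mul, map_mul, hc _ ha _ hb]),
    fun a ha b hb h1 h2 h3 h4 => hf (hu _ ha _ hb (by rw [← map_mul, h1, map_one]) (by rw [← map_mul, h2, map_one])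
      (fun e => h3 (hf (e.trans (map_one f).symm))) (fun e => h4 (hf (e.trans (map_one f).symm)))),
    fun a ha hn => ?_, fun a ha a' ha' hn hn' => ?_⟩
  · obtain ⟨h1, h2⟩ := hi _ (Subgroup.mem_map_of_mem f ha) hn
    exact ⟨hf (by rw [map_mul, h1, map_one]), fun b hb => hf (by rw [map_mul, map_mul, map_inv, map_inv, h2 _ hb])⟩
  · show f (a * a') ∈ B
    rw [map_mul]
    exact hp _ (Subgroup.mem_map_of_mem f ha) _ (Subgroup.mem_map_of_mem f ha') hn hn'

theorem Exc.of_map {G G' : Type*} [Group G] [Group G'] (f : G →* G') (hf : Function.Injective f) {H : Subgroup G}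
    (h : Exc (H.map f)) : Exc H := by
  have e := Subgroup.equivMapOfInjective H f hf
  rcases h with ⟨⟨g⟩⟩ | ⟨⟨g⟩⟩ | ⟨⟨g⟩⟩
  exacts [Or.inl ⟨e.trans g⟩, Or.inr (Or.inl ⟨e.trans g⟩), Or.inr (Or.inr ⟨e.trans g⟩)]

section PSL

variable {E : Type u} [Field E] [Fintype E] (p : ℕ) [Fact p.Prime] [CharP E p]

/-- the shape inside the projective special linear group -/
theorem shape_psl (hp : 5 ≤ p) (H : Subgroup (Matrix.ProjectiveSpecialLinearGroup (Fin 2) E))
    (hH : ¬ p ∣ Nat.card H) : Tor H ∨ Exc H := by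
  classical
  rcases classify_strong p H with ⟨x, hx, hN⟩ | ⟨x, hx1, hx, hN⟩ | ⟨h, -⟩ | ⟨h, -⟩ | ⟨h, -⟩ | h
  · refine Or.inl ⟨H ⊓ tor x, inf_le_left, fun a ha b hb => tor_comm (ne_one_of_semis p hx) ha.2 hb.2,
      fun a ha b hb h1 h2 h3 h4 => ?_, fun a ha hn => ?_, fun a ha a' ha' hn hn' => ?_⟩
    · haveI := isCyclic_tor p hx
      by_contra hne
      have h5 := IsCyclic.card_pow_eq_one_le (α := tor x) (n := 2) two_pos
      have h6 : ({1, ⟨a, ha.2⟩, ⟨b, hb.2⟩} : Finset (tor x)) ⊆ Finset.univ.filter (fun g : tor x => g ^ 2 = 1) := by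
        intro g hg
        simp only [Finset.mem_insert, Finset.mem_singleton] at hg
        refine Finset.mem_filter.2 ⟨Finset.mem_univ _, ?_⟩
        rcases hg with rfl | rfl | rfl
        · exact one_pow 2
        · exact Subtype.ext (by rw [Subgroup.coe_pow, pow_two, h1]; rfl)
        · exact Subtype.ext (by rw [Subgroup.coe_pow, pow_two, h2]; rfl)
      have h7 := (Finset.card_le_card h6).trans h5
      rw [Finset.card_insert_of_notMem (by
          simp only [Finset.mem_insert, Finset.mem_singleton, not_or]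
          exact ⟨fun e => h3 (congrArg Subtype.val e).symm, fun e => h4 (congrArg Subtype.val e).symm⟩),
        Finset.card_insert_of_notMem (by
          simp only [Finset.mem_singleton]; exact fun e => hne (congrArg Subtype.val e)),
        Finset.card_singleton] at h7
      omega
    · obtain ⟨h1, h2⟩ := inverts_of_not_mem p hx (hN ha) (fun h => hn ⟨ha, h⟩)
      exact ⟨h1, fun b hb => h2 b hb.2⟩
    · obtain ⟨w, -, -, -, -, hc⟩ := normalizer_semis p hx
      have h1 := (hc a (hN ha)).resolve_left (fun h => hn ⟨ha, h⟩)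
      have h2 := (hc a' (hN ha')).resolve_left (fun h => hn' ⟨ha', h⟩)
      have h3 : a⁻¹ = a :=
        inv_eq_of_mul_eq_one_right (inverts_of_not_mem p hx (hN ha) (fun h => hn ⟨ha, h⟩)).1
      have h4 := mul_mem (inv_mem h1) h2
      rw [mul_inv_rev, h3, mul_assoc, inv_mul_cancel_left] at h4
      exact ⟨mul_mem ha ha', h4⟩
  · have hone : ∀ y ∈ H, y ∈ tor x → y = 1 := fun y hy hyt => by
      by_contra hy1
      have h1 : orderOf y = p := orderOf_eq_prime (unip_of_mem p hx1 hx hyt) hy1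
      exact hH (h1 ▸ Subgroup.orderOf_dvd_natCard H hy)
    refine Or.inl ⟨H, le_rfl, fun a ha b hb => ?_, fun a ha b hb h1 h2 h3 h4 => ?_, fun a ha hn => absurd ha hn,
      fun a ha a' _ hn => absurd ha hn⟩
    · have := hone _ (mul_mem (mul_mem (mul_mem ha hb) (inv_mem ha)) (inv_mem hb)) (borel_comm p hx1 hx (hN ha) (hN hb))
      rw [mul_inv_eq_one, mul_inv_eq_iff_eq_mul] at this
      exact this
    · have := hone _ (mul_mem ha hb) (borel_invol p hx1 hx (hN ha) (hN hb) h1 h2 (fun h => h3 (hone a ha h))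
        (fun h => h4 (hone b hb h)))
      exact (eq_inv_of_mul_eq_one_left this).trans (inv_eq_of_mul_eq_one_right h2)
  · exact Or.inr (Or.inl h)
  · exact Or.inr (Or.inr (Or.inl h))
  · exact Or.inr (Or.inr (Or.inr h))
  · exfalso
    obtain ⟨s, m, hm, hs, -, hcard, -⟩ := sub_card p h
    obtain ⟨f, hf0, hf⟩ := Classical.card_field_eq_pow (F := E) p
    have hps : p ∣ s := by
      have hm0 : m ≠ 0 := by
        rintro rfl
        have := Fintype.one_lt_card (α := E)
        simp at hm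
        omega
      obtain ⟨j, -, rfl⟩ := (Nat.dvd_prime_pow Fact.out).1 (show s ∣ p ^ f by rw [← hf, ← hm]; exact dvd_pow_self s hm0)
      rcases Nat.eq_zero_or_pos j with rfl | hj
      · simp at hs
      · exact dvd_pow_self p (by omega)
    rcases hcard with h' | ⟨h', -⟩
    · have h1 : p ∣ Nat.card H * Nat.gcd 2 (s - 1) := h' ▸ Dvd.dvd.mul_right hps _
      rcases (Nat.Prime.dvd_mul Fact.out).1 h1 with h2 | h2
      · exact hH h2
      · have := Nat.le_of_dvd two_pos (h2.trans (Nat.gcd_dvd_left _ _))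
        omega
    · exact hH (h' ▸ Dvd.dvd.mul_right hps _)

end PSL

variable {F : Type u} [Field F] [Fintype F] (p : ℕ) [Fact p.Prime] [CharP F p]

/-- the shapes of the subgroups of order prime to the characteristic -/
theorem shape (hp : 5 ≤ p) (H : Subgroup (Matrix.ProjGenLinGroup (Fin 2) F)) (hH : ¬ p ∣ Nat.card H) :
    Tor H ∨ Exc H := by
  obtain ⟨f, hf0, hf⟩ := Classical.card_field_eq_pow (F := F) p
  haveI : NeZero (f * 2) := ⟨by omega⟩
  let E := GaloisField p (f * 2)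
  haveI : Fintype E := Fintype.ofFinite E
  have hE : Fintype.card F ^ 2 = Fintype.card E := by
    rw [← Nat.card_eq_fintype_card (α := E), GaloisField.card p (f * 2) (by omega), hf, pow_mul]
  obtain ⟨ι⟩ := SubfieldPSL.exists_ringHom (F := E) (K := F) hE
  have h2 : ringChar E ≠ 2 := by rw [ringChar.eq E p]; omega
  obtain ⟨S, ⟨e⟩⟩ := SubfieldPSL.exists_pgl (F := E) (K := F) ι h2 even_two hE
  let Ψ : Matrix.ProjGenLinGroup (Fin 2) F →* Matrix.ProjectiveSpecialLinearGroup (Fin 2) E :=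
    S.subtype.comp e.symm.toMonoidHom
  have hΨ : Function.Injective Ψ := S.subtype_injective.comp e.symm.injective
  rcases shape_psl p hp (H.map Ψ) (by rwa [Subgroup.card_map_of_injective hΨ]) with h | h
  exacts [Or.inl (h.of_map Ψ hΨ), Or.inr (h.of_map Ψ hΨ)]

theorem four_facts :
    (∀ x : Equiv.Perm (Fin 4), x ^ 4 = 1 ∨ x ^ 3 = 1) ∧
    (∀ x y : Equiv.Perm (Fin 4), x ^ 4 = 1 → y ^ 4 = 1 → x ^ 2 * y ^ 2 = y ^ 2 * x ^ 2) ∧
    (∀ x : Equiv.Perm (Fin 4), Equiv.Perm.sign x = 1 → x ^ 2 = 1 ∨ x ^ 3 = 1) ∧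
    (∀ x : Equiv.Perm (Fin 4), Equiv.Perm.sign x = 1 → ∃ y z, x = y * z * y⁻¹ * z⁻¹) ∧
    (∀ a b : Equiv.Perm (Fin 4), Equiv.Perm.sign a = 1 → Equiv.Perm.sign b = 1 → a * a = 1 → b * b = 1 → a ≠ 1 →
      b ≠ 1 → a ≠ b → ∃ g s : Equiv.Perm (Fin 4), g ^ 3 = 1 ∧ g * a * g⁻¹ = b ∧ g * b * g⁻¹ = a * b ∧
        s * g * s⁻¹ = g⁻¹) :=
  ⟨by decide +kernel, by decide +kernel, by decide +kernel, by decide +kernel, fun a b h1 h2 h3 h4 h5 h6 h7 =>
    (by decide +kernel : ∀ a b : Equiv.Perm (Fin 4), (Equiv.Perm.sign a = 1 ∧ Equiv.Perm.sign b = 1 ∧ a * a = 1 ∧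
      b * b = 1 ∧ a ≠ 1 ∧ b ≠ 1 ∧ a ≠ b) → ∃ g, (g ^ 3 = 1 ∧ g * a * g⁻¹ = b ∧ g * b * g⁻¹ = a * b) ∧
        ∃ s, s * g * s⁻¹ = g⁻¹) a b ⟨h1, h2, h3, h4, h5, h6, h7⟩ |>.elim fun g ⟨⟨e1, e2, e3⟩, s, e4⟩ =>
      ⟨g, s, e1, e2, e3, e4⟩⟩

theorem five_facts :
    ∀ x : Equiv.Perm (Fin 5), Equiv.Perm.sign x = 1 → x ^ 2 = 1 ∨ x ^ 3 = 1 ∨ x ^ 5 = 1 := by decide +kernel

theorem alt_facts :
    (∀ x : alternatingGroup (Fin 4), x * x = 1 → ∃ y z, x = y * z * y⁻¹ * z⁻¹) ∧
    (∀ x : alternatingGroup (Fin 5), x * x = 1 → ∃ y z, x = y * z * y⁻¹ * z⁻¹) :=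
  ⟨by decide +kernel, by decide +kernel⟩

/-- an involution killed by an odd power is trivial -/
theorem eq_one_of_sq {G : Type*} [Group G] {j : G} {n : ℕ} (hn : Odd n) (h2 : j * j = 1) (h : j ^ n = 1) : j = 1 := by
  obtain ⟨k, rfl⟩ := hn
  rwa [pow_succ, pow_mul, pow_two, h2, one_pow, one_mul] at h

variable {G : Type*} [Group G] {H : Subgroup G}

/-- two elements of even order at least four have commuting involutions among their powers -/
theorem commute_of_even (h : Tor H ∨ Exc H) {x y : G} (hx : x ∈ H) (hy : y ∈ H) {m n : ℕ} (hx2 : x * x ≠ 1)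
    (hy2 : y * y ≠ 1) (hxj : x ^ m * x ^ m = 1) (hx1 : x ^ m ≠ 1) (hyj : y ^ n * y ^ n = 1) (hy1 : y ^ n ≠ 1) :
    x ^ m * y ^ n = y ^ n * x ^ m := by
  rcases h with ⟨B, -, hc, -, hi, -⟩ | he
  · have hxB : x ∈ B := by by_contra hn'; exact hx2 (hi x hx hn').1
    have hyB : y ∈ B := by by_contra hn'; exact hy2 (hi y hy hn').1
    exact hc _ (pow_mem hxB m) _ (pow_mem hyB n)
  rcases he with ⟨⟨e⟩⟩ | ⟨⟨e⟩⟩ | ⟨⟨e⟩⟩
  · exfalso
    set a : alternatingGroup (Fin 4) := e ⟨x, hx⟩ with ha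
    have hh : ∀ k, a ^ k = 1 → x ^ k = 1 := fun k hk => by
      rw [ha, ← map_pow, e.map_eq_one_iff] at hk
      simpa using congrArg Subtype.val hk
    rcases four_facts.2.2.1 a (Equiv.Perm.mem_alternatingGroup.1 a.2) with h2 | h3
    · exact hx2 (by rw [← pow_two]; exact hh 2 (Subtype.ext (by simpa using h2)))
    · exact hx1 (eq_one_of_sq (n := 3) (by decide) hxj (by
        rw [← pow_mul, mul_comm, pow_mul, hh 3 (Subtype.ext (by simpa using h3)), one_pow]))
  · set a : Equiv.Perm (Fin 4) := e ⟨x, hx⟩ with ha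
    set b : Equiv.Perm (Fin 4) := e ⟨y, hy⟩ with hb
    have hh : ∀ (w : G) (hw : w ∈ H) k, (e ⟨w, hw⟩ : Equiv.Perm (Fin 4)) ^ k = 1 → w ^ k = 1 := fun w hw k hk => by
      rw [← map_pow, e.map_eq_one_iff] at hk
      simpa using congrArg Subtype.val hk
    have key : ∀ (w : G) (hw : w ∈ H) (k : ℕ), w ^ k * w ^ k = 1 → w ^ k ≠ 1 → w * w ≠ 1 →
        (e ⟨w, hw⟩) ^ 4 = 1 ∧ w ^ k = w ^ 2 := by
      intro w hw k hk hk1 hw2
      rcases four_facts.1 (e ⟨w, hw⟩) with h4 | h3
      · refine ⟨h4, ?_⟩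
        have h4' := hh w hw 4 h4
        obtain ⟨r, hr⟩ : 2 ∣ k := by
          by_contra hodd
          obtain ⟨r, rfl⟩ := Nat.odd_iff.2 (Nat.two_dvd_ne_zero.1 hodd)
          apply hw2
          have : (w * w) ^ (2 * r + 1) = 1 := by
            rw [← pow_two, ← pow_mul, mul_comm, pow_mul, pow_two, hk]
          exact eq_one_of_sq (by simp) (by rw [← pow_two, ← pow_two, ← pow_mul, h4']) this
        subst hr
        rcases Nat.even_or_odd r with ⟨s, rfl⟩ | ⟨s, rfl⟩
        · exact absurd (show w ^ (2 * (s + s)) = 1 by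
            rw [show 2 * (s + s) = 4 * s by ring, pow_mul, h4', one_pow]) hk1
        · rw [show 2 * (2 * s + 1) = 4 * s + 2 by ring, pow_add, pow_mul, h4', one_pow, one_mul]
      · exfalso
        exact hk1 (eq_one_of_sq (n := 3) (by decide) hk (by
          rw [← pow_mul, mul_comm, pow_mul, hh w hw 3 h3, one_pow]))
    obtain ⟨ha4, hxe⟩ := key x hx m hxj hx1 hx2
    obtain ⟨hb4, hye⟩ := key y hy n hyj hy1 hy2
    have hab := four_facts.2.1 a b (ha ▸ ha4) (hb ▸ hb4)
    rw [ha, hb, ← map_pow, ← map_pow, ← map_mul, ← map_mul] at hab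
    rw [hxe, hye]
    simpa using congrArg Subtype.val (e.injective hab)
  · exfalso
    set a : alternatingGroup (Fin 5) := e ⟨x, hx⟩ with ha
    have hh : ∀ k, a ^ k = 1 → x ^ k = 1 := fun k hk => by
      rw [ha, ← map_pow, e.map_eq_one_iff] at hk
      simpa using congrArg Subtype.val hk
    rcases five_facts a (Equiv.Perm.mem_alternatingGroup.1 a.2) with h2 | h3 | h5
    · exact hx2 (by rw [← pow_two]; exact hh 2 (Subtype.ext (by simpa using h2)))
    · exact hx1 (eq_one_of_sq (n := 3) (by decide) hxj (by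
        rw [← pow_mul, mul_comm, pow_mul, hh 3 (Subtype.ext (by simpa using h3)), one_pow]))
    · exact hx1 (eq_one_of_sq (n := 5) (by decide) hxj (by
        rw [← pow_mul, mul_comm, pow_mul, hh 5 (Subtype.ext (by simpa using h5)), one_pow]))

/-- a subgroup of odd order is commutative -/
theorem comm_of_odd [Finite G] {H : Subgroup G} (h : Tor H ∨ Exc H) (hodd : Odd (Nat.card H)) :
    ∀ a ∈ H, ∀ b ∈ H, a * b = b * a := by
  rcases h with ⟨B, -, hc, -, hi, -⟩ | he
  · have hB : ∀ a ∈ H, a ∈ B := fun a ha => by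
      by_contra hn
      have h2 : (⟨a, ha⟩ : H) ^ 2 = 1 := Subtype.ext (by simpa [pow_two] using (hi a ha hn).1)
      have h1 : (⟨a, ha⟩ : H) = 1 := eq_one_of_sq hodd (by rwa [← pow_two]) pow_card_eq_one'
      obtain rfl : a = 1 := congrArg Subtype.val h1
      exact hn (one_mem B)
    exact fun a ha b hb => hc a (hB a ha) b (hB b hb)
  · exfalso
    rw [Nat.odd_iff] at hodd
    rcases he with ⟨⟨e⟩⟩ | ⟨⟨e⟩⟩ | ⟨⟨e⟩⟩ <;> rw [Nat.card_congr e.toEquiv] at hodd
    · rw [card_a4] at hodd; omega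
    · rw [card_s4] at hodd; omega
    · rw [card_a5] at hodd; omega

/-- a homomorphism to a commutative group not killing an involution forces a cycle of three normalising a four group
in its kernel and inverted -/
theorem exc_sign (he : Exc H) {A : Type*} [CommGroup A] (f : H →* A) {r : H} (hr2 : r * r = 1)
    (hr : f r ≠ 1) {a b : H} (ha : a * a = 1) (hb : b * b = 1) (ha1 : a ≠ 1) (hb1 : b ≠ 1) (hab : a ≠ b)
    (hfa : f a = 1) (hfb : f b = 1) :
    ∃ g s : H, g ^ 3 = 1 ∧ g * a * g⁻¹ = b ∧ g * b * g⁻¹ = a * b ∧ s * g * s⁻¹ = g⁻¹ := by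
  have hcomm : ∀ y z : H, f (y * z * y⁻¹ * z⁻¹) = 1 := fun y z => by
    rw [map_mul, map_mul, map_mul, map_inv, map_inv, mul_comm (f y) (f z), mul_inv_cancel_right, mul_inv_cancel]
  rcases he with ⟨⟨e⟩⟩ | ⟨⟨e⟩⟩ | ⟨⟨e⟩⟩
  · exfalso
    obtain ⟨y, z, hyz⟩ := alt_facts.1 (e r) (by rw [← map_mul, hr2, map_one])
    apply hr
    rw [show r = e.symm y * e.symm z * (e.symm y)⁻¹ * (e.symm z)⁻¹ by
      rw [← map_inv, ← map_inv, ← map_mul, ← map_mul, ← map_mul, ← hyz, e.symm_apply_apply]]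
    exact hcomm _ _
  · have hpar : ∀ w : H, Equiv.Perm.sign (e w) = 1 → f w = 1 := by
      intro w hw
      obtain ⟨y, z, hyz⟩ := four_facts.2.2.2.1 (e w) hw
      rw [show w = e.symm y * e.symm z * (e.symm y)⁻¹ * (e.symm z)⁻¹ by
        rw [← map_inv, ← map_inv, ← map_mul, ← map_mul, ← map_mul, ← hyz, e.symm_apply_apply]]
      exact hcomm _ _
    have hev : ∀ w : H, f w = 1 → Equiv.Perm.sign (e w) = 1 := by
      intro w hw
      rcases Int.units_eq_one_or (Equiv.Perm.sign (e w)) with h | h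
      · exact h
      · exfalso
        apply hr
        have h2 : Equiv.Perm.sign (e (r * w)) = 1 := by
          rw [map_mul, map_mul, h, (Int.units_eq_one_or _).resolve_left fun h' => hr (hpar r h')]
          rfl
        have := hpar _ h2
        rwa [map_mul, hw, mul_one] at this
    obtain ⟨g, s, h1, h2, h3, h4⟩ := four_facts.2.2.2.2 (e a) (e b) (hev a hfa) (hev b hfb)
      (by rw [← map_mul, ha, map_one]) (by rw [← map_mul, hb, map_one]) (by simpa using ha1) (by simpa using hb1)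
      (fun h => hab (e.injective h))
    refine ⟨e.symm g, e.symm s, by rw [← map_pow, h1, map_one], e.injective ?_, e.injective ?_, e.injective ?_⟩
    · simpa using h2
    · simpa using h3
    · simpa using h4
  · exfalso
    obtain ⟨y, z, hyz⟩ := alt_facts.2 (e r) (by rw [← map_mul, hr2, map_one])
    apply hr
    rw [show r = e.symm y * e.symm z * (e.symm y)⁻¹ * (e.symm z)⁻¹ by
      rw [← map_inv, ← map_inv, ← map_mul, ← map_mul, ← map_mul, ← hyz, e.symm_apply_apply]]
    exact hcomm _ _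

end Cfsg.Agent.ClassicalMax.Hessian
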