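import Mathlib
import Cfsg.Agent.ClassicalMax.SympThree.Model
import Cfsg.Agent.ClassicalMax.Hessian.Plane

/-!
An overgroup of the normaliser of the group of order 27 in dimension three without transvections: the centraliser of
the standard involution.
-/

set_option autoImplicit false

namespace Cfsg.Agent.ClassicalMax.Hessian

open Matrix SympThree
open scoped MatrixGroups

variable {F : Type*} [Field F]
variable [NeZero (2 : F)]

/-- an overgroup without transvections -/
structure Over (K : Root F) (M : Subgroup (GL Z3 F)) : Prop where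
  sl : ∀ g ∈ M, (g : Matrix Z3 Z3 F).det = 1
  hW : ∀ a b, K.W a b ∈ M
  hT : (Root.T : GL Z3 F) ∈ M
  hFr : K.Fr ∈ M
  hF' : K.Dg 1 * K.Fr * (K.Dg 1)⁻¹ ∈ M
  nt : ∀ g ∈ M, ((g : Matrix Z3 Z3 F) - 1) * ((g : Matrix Z3 Z3 F) - 1) = 0 → g = 1

/-- a square of a nilpotent matrix of degree two vanishes -/
theorem sq_zero_of_pow {A : Matrix (Fin 2) (Fin 2) F} {n : ℕ} (h : A ^ n = 0) : A * A = 0 := by
  rcases Nat.eq_zero_or_pos n with rfl | hn
  · exact absurd (congrFun (congrFun h 0) 0) (by simp)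
  have hd : A.det = 0 := eq_zero_of_pow_eq_zero (n := n) (by rw [← Matrix.det_pow, h, Matrix.det_zero])
  rw [Matrix.det_fin_two] at hd
  have hCH : A * A = (A 0 0 + A 1 1) • A := by
    ext i j
    fin_cases i <;> fin_cases j <;> simp [Matrix.mul_apply, Fin.sum_univ_two] <;>
      first | ring1 | linear_combination -hd
  have hp : ∀ k, A ^ (k + 1) = (A 0 0 + A 1 1) ^ k • A := fun k => by
    induction k with
    | zero => simp
    | succ k ih => rw [pow_succ, ih, Matrix.smul_mul, hCH, smul_smul, ← pow_succ]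
  obtain ⟨k, rfl⟩ : ∃ k, n = k + 1 := ⟨n - 1, by omega⟩
  rw [hp] at h
  rcases smul_eq_zero.1 h with h' | h'
  · rw [hCH, eq_zero_of_pow_eq_zero h', zero_smul]
  · rw [h', Matrix.mul_zero]

/-- unipotent of order the characteristic -/
theorem sub_one_pow (p : ℕ) [Fact p.Prime] [CharP F p] {A : Matrix (Fin 2) (Fin 2) F} (h : A ^ p = 1) :
    (A - 1) * (A - 1) = 0 :=
  sq_zero_of_pow (n := p) (by rw [sub_pow_char_of_commute p (Commute.one_right A), h, one_pow, sub_self])

theorem eq_one_of_pow_char (p : ℕ) [Fact p.Prime] [CharP F p] {x : F} (h : x ^ p = 1) : x = 1 :=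
  sub_eq_zero.1 (eq_zero_of_pow_eq_zero (n := p) (by rw [sub_pow_char, h, one_pow, sub_self]))

/-- the centraliser of the involution -/
def cen : Subgroup (GL Z3 F) := Subgroup.centralizer {(Root.T : GL Z3 F)}

theorem mem_cen_iff {g : GL Z3 F} : g ∈ cen ↔ g * Root.T = Root.T * g :=
  Subgroup.mem_centralizer_singleton_iff

theorem cen_entry {g : GL Z3 F} (hg : g ∈ cen) (z w : Z3) :
    (g : Matrix Z3 Z3 F) (-z) w = (g : Matrix Z3 Z3 F) z (-w) := by
  have h := congrArg (fun m : GL Z3 F => (m : Matrix Z3 Z3 F) z w) (mem_cen_iff.1 hg)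
  simp only [Units.val_mul, Matrix.mul_apply] at h
  rw [Finset.sum_eq_single (-w) (fun x _ hx => by rw [Root.T_val, if_neg hx, mul_zero]) (by simp),
    Finset.sum_eq_single (-z) (fun x _ hx => by
      rw [Root.T_val, if_neg (fun e => hx (by rw [e, neg_neg])), zero_mul]) (by simp),
    Root.T_val, Root.T_val, if_pos rfl, if_pos (neg_neg z).symm] at h
  linear_combination h

theorem cen_shape {g : GL Z3 F} (hg : g ∈ cen) :
    (g : Matrix Z3 Z3 F) 0 2 = (g : Matrix Z3 Z3 F) 0 1 ∧ (g : Matrix Z3 Z3 F) 2 0 = (g : Matrix Z3 Z3 F) 1 0 ∧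
      (g : Matrix Z3 Z3 F) 2 2 = (g : Matrix Z3 Z3 F) 1 1 ∧ (g : Matrix Z3 Z3 F) 2 1 = (g : Matrix Z3 Z3 F) 1 2 := by
  have h1 := cen_entry hg 0 2
  have h2 := cen_entry hg 2 0
  have h3 := cen_entry hg 1 1
  have h4 := cen_entry hg 1 2
  simp only [neg_zero, show -(2 : Z3) = 1 by decide, show -(1 : Z3) = 2 by decide] at h1 h2 h3 h4
  exact ⟨h1, h2.symm, by linear_combination h4, by linear_combination h3⟩

/-- the matrix on the plane fixed by the negative of the involution -/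
def psiM (g : GL Z3 F) : Matrix (Fin 2) (Fin 2) F :=
  !![(g : Matrix Z3 Z3 F) 0 0, 2 * (g : Matrix Z3 Z3 F) 0 1;
    (g : Matrix Z3 Z3 F) 1 0, (g : Matrix Z3 Z3 F) 1 1 + (g : Matrix Z3 Z3 F) 1 2]

/-- the eigenvalue on the centre of the involution -/
def chiV (g : GL Z3 F) : F := (g : Matrix Z3 Z3 F) 1 1 - (g : Matrix Z3 Z3 F) 1 2

theorem psiM_mul {g h : GL Z3 F} (hh : h ∈ cen) : psiM (g * h) = psiM g * psiM h ∨ g ∉ cen := by
  by_cases hg : g ∈ cen
  · left
    obtain ⟨g1, g2, g3, g4⟩ := cen_shape hg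
    obtain ⟨h1, h2, h3, h4⟩ := cen_shape hh
    ext i j
    fin_cases i <;> fin_cases j <;>
      simp [psiM, Units.val_mul, Matrix.mul_apply, sum_z3, Fin.sum_univ_two, g1, g2, g3, g4, h1, h2, h3, h4] <;> ring
  · exact Or.inr hg

/-- the homomorphism to the plane -/
def psi : ↥(cen : Subgroup (GL Z3 F)) →* GL (Fin 2) F :=
  MonoidHom.toHomUnits
    { toFun := fun g => psiM (g : GL Z3 F)
      map_one' := by
        ext i j
        fin_cases i <;> fin_cases j <;> simp +decide [psiM]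
      map_mul' := fun g h => (psiM_mul h.2).resolve_right (not_not.2 g.2) }

/-- the character on the centre -/
def chi : ↥(cen : Subgroup (GL Z3 F)) →* Fˣ :=
  MonoidHom.toHomUnits
    { toFun := fun g => chiV (g : GL Z3 F)
      map_one' := by simp +decide [chiV]
      map_mul' := fun g h => by
        obtain ⟨g1, g2, g3, g4⟩ := cen_shape g.2
        obtain ⟨h1, h2, h3, h4⟩ := cen_shape h.2
        simp [chiV, Units.val_mul, Matrix.mul_apply, sum_z3, g1, g2, g3, g4, h1, h2, h3, h4]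
        ring }

theorem psi_val (g : ↥(cen : Subgroup (GL Z3 F))) : (psi g : Matrix (Fin 2) (Fin 2) F) = psiM (g : GL Z3 F) := rfl

theorem chi_val (g : ↥(cen : Subgroup (GL Z3 F))) : (chi g : F) = chiV (g : GL Z3 F) := rfl

theorem det_cen {g : GL Z3 F} (hg : g ∈ cen) : (g : Matrix Z3 Z3 F).det = (psiM g).det * chiV g := by
  obtain ⟨g1, g2, g3, g4⟩ := cen_shape hg
  rw [det_z3, Matrix.det_fin_two, g1, g2, g3, g4]
  simp [psiM, chiV]
  ring

theorem cen_ext (h2 : (2 : F) ≠ 0) {g h : GL Z3 F} (hg : g ∈ cen) (hh : h ∈ cen) (hm : psiM g = psiM h)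
    (hc : chiV g = chiV h) : g = h := by
  obtain ⟨g1, g2, g3, g4⟩ := cen_shape hg
  obtain ⟨h1, h2', h3, h4⟩ := cen_shape hh
  have e := fun i j => congrFun (congrFun hm i) j
  have e00 := e 0 0
  have e01 := e 0 1
  have e10 := e 1 0
  have e11 := e 1 1
  simp [psiM] at e00 e01 e10 e11
  simp only [chiV] at hc
  have a01 : (g : Matrix Z3 Z3 F) 0 1 = (h : Matrix Z3 Z3 F) 0 1 := by
    rcases e01 with e | e
    · exact e
    · exact absurd e h2
  have a11 : (g : Matrix Z3 Z3 F) 1 1 = (h : Matrix Z3 Z3 F) 1 1 :=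
    mul_left_cancel₀ h2 (by linear_combination e11 + hc)
  have a12 : (g : Matrix Z3 Z3 F) 1 2 = (h : Matrix Z3 Z3 F) 1 2 := by linear_combination a11 - hc
  refine Units.ext (Matrix.ext fun z w => ?_)
  rcases z3_cases z with rfl | rfl | rfl <;> rcases z3_cases w with rfl | rfl | rfl <;>
    simp only [g1, g2, g3, g4, h1, h2', h3, h4, e00, e10, a01, a11, a12]

/-- the projective image -/
def pi : ↥(cen : Subgroup (GL Z3 F)) →* Matrix.ProjGenLinGroup (Fin 2) F := Matrix.ProjGenLinGroup.mk.comp psi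

theorem pi_eq_iff (g h : ↥(cen : Subgroup (GL Z3 F))) :
    pi g = pi h ↔ ∃ u : Fˣ, psiM (h : GL Z3 F) = (u : F) • psiM (g : GL Z3 F) := by
  rw [pi, MonoidHom.comp_apply, MonoidHom.comp_apply, Matrix.ProjGenLinGroup.mk_eq_mk_iff]
  refine exists_congr fun u => ⟨fun e => ?_, fun e => Units.ext ?_⟩
  · rw [← psi_val, ← e, Units.val_mul, Matrix.GeneralLinearGroup.coe_scalar, psi_val]
    simp [← Matrix.smul_one_eq_diagonal]
  · rw [Units.val_mul, Matrix.GeneralLinearGroup.coe_scalar, psi_val, psi_val, e]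
    simp [← Matrix.smul_one_eq_diagonal]

theorem pi_eq_one_iff (g : ↥(cen : Subgroup (GL Z3 F))) :
    pi g = 1 ↔ psiM (g : GL Z3 F) 0 1 = 0 ∧ psiM (g : GL Z3 F) 1 0 = 0 ∧
      psiM (g : GL Z3 F) 0 0 = psiM (g : GL Z3 F) 1 1 := by
  rw [← map_one pi, eq_comm, pi_eq_iff]
  constructor
  · rintro ⟨u, e⟩
    rw [e]
    simp +decide [psiM]
  · rintro ⟨e01, e10, e00⟩
    have h0 : psiM (g : GL Z3 F) 0 0 ≠ 0 := fun h => by
      have hd := (Matrix.GeneralLinearGroup.det (psi g)).ne_zero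
      rw [Matrix.GeneralLinearGroup.val_det_apply, Matrix.det_fin_two, psi_val, e01, h] at hd
      simp at hd
    refine ⟨Units.mk0 _ h0, ?_⟩
    ext i j
    fin_cases i <;> fin_cases j <;> simp +decide [psiM] at e01 e10 e00 ⊢ <;> simp_all [psiM]

/-- the elements of the overgroup in the centraliser -/
def CC (M : Subgroup (GL Z3 F)) : Subgroup ↥(cen : Subgroup (GL Z3 F)) := M.comap (cen : Subgroup (GL Z3 F)).subtype

variable {K : Root F} {M : Subgroup (GL Z3 F)}

theorem T_cen : (Root.T : GL Z3 F) ∈ cen := mem_cen_iff.2 rfl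

theorem psiM_T : psiM (Root.T : GL Z3 F) = -1 := by
  ext i j
  fin_cases i <;> fin_cases j <;> simp +decide [psiM, Root.T_val]

theorem chiV_T : chiV (Root.T : GL Z3 F) = 1 := by simp +decide [chiV, Root.T_val]

theorem sc_cen (c : Fˣ) : (sc c : GL Z3 F) ∈ cen := mem_cen_iff.2 (sc_comm c _)

theorem psiM_sc (c : Fˣ) : psiM (sc c : GL Z3 F) = (c : F) • 1 := by
  ext i j
  fin_cases i <;> fin_cases j <;> simp +decide [psiM, sc_val, Matrix.one_apply]

theorem chiV_sc (c : Fˣ) : chiV (sc c : GL Z3 F) = c := by simp +decide [chiV, sc_val, Matrix.one_apply]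

theorem Over.sc_mem (hM : Over K M) (a : Z3) : (sc (K.e a) : GL Z3 F) ∈ M := by
  have h := K.W_comm a 0 0 1
  rw [mul_one, zero_mul, sub_zero] at h
  have h1 := mul_mem (mul_mem (hM.hW a 0) (hM.hW 0 1)) (inv_mem (mul_mem (hM.hW 0 1) (hM.hW a 0)))
  rw [h, mul_inv_cancel_right] at h1
  exact h1

/-! ### The group is of order prime to the characteristic on the centraliser -/

variable (p : ℕ) [Fact p.Prime] [CharP F p] [Fintype F]

theorem Over.not_dvd_CC (hM : Over K M) : ¬ p ∣ Nat.card (CC M) := by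
  intro h
  obtain ⟨⟨⟨g, hg⟩, hgM⟩, hord⟩ := exists_prime_orderOf_dvd_card' (G := CC M) p h
  have h2 := congrArg (fun x : CC M => (x : ↥(cen : Subgroup (GL Z3 F)))) (hord ▸ pow_orderOf_eq_one (⟨⟨g, hg⟩, hgM⟩ : CC M))
  simp only [SubmonoidClass.coe_pow, OneMemClass.coe_one] at h2
  have hp1 := congrArg psi h2
  have hc1 := congrArg chi h2
  rw [map_pow, map_one] at hp1 hc1
  have hp2 : (psiM g - 1) * (psiM g - 1) = 0 := sub_one_pow p (by
    have := congrArg (fun x : GL (Fin 2) F => (x : Matrix (Fin 2) (Fin 2) F)) hp1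
    simpa [psi_val] using this)
  have hc2 : chiV g = 1 := eq_one_of_pow_char p (by
    have := congrArg (fun x : Fˣ => (x : F)) hc1
    simpa [chi_val] using this)
  have hz : ((g : Matrix Z3 Z3 F) - 1) * ((g : Matrix Z3 Z3 F) - 1) = 0 := by
    obtain ⟨g1, g2, g3, g4⟩ := cen_shape hg
    simp only [chiV] at hc2
    have e00 := congrFun (congrFun hp2 0) 0
    have e01 := congrFun (congrFun hp2 0) 1
    have e10 := congrFun (congrFun hp2 1) 0
    have e11 := congrFun (congrFun hp2 1) 1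
    simp [psiM, Matrix.mul_apply, Fin.sum_univ_two] at e00 e01 e10 e11
    have h12 : (g : Matrix Z3 Z3 F) 1 2 = (g : Matrix Z3 Z3 F) 1 1 - 1 := by linear_combination -hc2
    have hh : (2 : F) ≠ 0 := K.two
    rw [h12] at e01 e10 e11 g4
    ext z w
    rw [Matrix.mul_apply, sum_z3]
    rcases z3_cases z with rfl | rfl | rfl <;> rcases z3_cases w with rfl | rfl | rfl <;>
      simp +decide [Matrix.one_apply, g1, g2, g3, g4, h12] <;>
      first
        | linear_combination e00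
        | linear_combination e10
        | exact mul_left_cancel₀ hh (by linear_combination e01)
        | exact mul_left_cancel₀ hh (by linear_combination e11)
  have := hM.nt g hgM hz
  subst this
  rw [show (⟨⟨(1 : GL Z3 F), hg⟩, hgM⟩ : CC M) = 1 from rfl, orderOf_one] at hord
  exact (Fact.out : p.Prime).one_lt.ne hord

theorem Over.shape (hM : Over K M) (hp : 5 ≤ p) : Tor ((CC M).map pi) ∨ Exc ((CC M).map pi) :=
  Hessian.shape p hp _ fun h => hM.not_dvd_CC p (h.trans (Subgroup.card_map_dvd _ _))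

/-! ### Elements preserving the first coordinate line and its complement -/

/-- the elements preserving the first coordinate line and the other two coordinates -/
def Blk : Subgroup (GL Z3 F) :=
  (Subgroup.centralizer {x : GL Z3 F | ∃ u : Fˣ, (x : Matrix Z3 Z3 F) = Matrix.diagonal fun z => if z = 0 then (u : F) else 1})

theorem blk_entry {g : GL Z3 F} (hg : g ∈ (Blk : Subgroup (GL Z3 F))) (h2 : (2 : F) ≠ 0) :
    (g : Matrix Z3 Z3 F) 0 1 = 0 ∧ (g : Matrix Z3 Z3 F) 0 2 = 0 ∧ (g : Matrix Z3 Z3 F) 1 0 = 0 ∧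
      (g : Matrix Z3 Z3 F) 2 0 = 0 := by
  let d : Z3 → F := fun z => if z = 0 then -1 else 1
  have hdd : Matrix.diagonal d * Matrix.diagonal d = 1 := by
    rw [Matrix.diagonal_mul_diagonal, ← Matrix.diagonal_one]
    exact congrArg _ (funext fun z => by simp only [d]; split_ifs <;> simp)
  have h := Subgroup.mem_centralizer_iff.1 hg ⟨Matrix.diagonal d, Matrix.diagonal d, hdd, hdd⟩
    ⟨-1, by simp only [d, Units.val_neg, Units.val_one]⟩
  have e := fun z w => congrArg (fun m : GL Z3 F => (m : Matrix Z3 Z3 F) z w) h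
  have key : ∀ {x : F}, x = -x → x = 0 := fun {x} hx =>
    (mul_eq_zero.1 (show (2 : F) * x = 0 by linear_combination hx)).resolve_left h2
  have e1 := e 0 1
  have e2 := e 0 2
  have e3 := e 1 0
  have e4 := e 2 0
  simp +decide [d, Matrix.diagonal_mul, Matrix.mul_diagonal] at e1 e2 e3 e4
  exact ⟨key e1.symm, key e2.symm, key e3, key e4⟩

theorem mem_blk {g : GL Z3 F} (h1 : (g : Matrix Z3 Z3 F) 0 1 = 0) (h2 : (g : Matrix Z3 Z3 F) 0 2 = 0)
    (h3 : (g : Matrix Z3 Z3 F) 1 0 = 0) (h4 : (g : Matrix Z3 Z3 F) 2 0 = 0) : g ∈ (Blk : Subgroup (GL Z3 F)) := by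
  rw [Blk, Subgroup.mem_centralizer_iff]
  rintro x ⟨u, hu⟩
  refine Units.ext (Matrix.ext fun z w => ?_)
  rw [Units.val_mul, Units.val_mul, hu, Matrix.diagonal_mul, Matrix.mul_diagonal]
  rcases z3_cases z with rfl | rfl | rfl <;> rcases z3_cases w with rfl | rfl | rfl <;>
    simp +decide [h1, h2, h3, h4, mul_comm]

/-- the lower block -/
def lowM (g : GL Z3 F) : Matrix (Fin 2) (Fin 2) F :=
  !![(g : Matrix Z3 Z3 F) 1 1, (g : Matrix Z3 Z3 F) 1 2; (g : Matrix Z3 Z3 F) 2 1, (g : Matrix Z3 Z3 F) 2 2]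

/-- the homomorphism to the lower block -/
def low (h2 : (2 : F) ≠ 0) : ↥(Blk : Subgroup (GL Z3 F)) →* GL (Fin 2) F :=
  MonoidHom.toHomUnits
    { toFun := fun g => lowM (g : GL Z3 F)
      map_one' := by
        ext i j
        fin_cases i <;> fin_cases j <;> simp +decide [lowM]
      map_mul' := fun g h => by
        obtain ⟨g1, g2, g3, g4⟩ := blk_entry g.2 h2
        obtain ⟨k1, k2, k3, k4⟩ := blk_entry h.2 h2
        ext i j
        fin_cases i <;> fin_cases j <;>
          simp [lowM, Units.val_mul, Matrix.mul_apply, sum_z3, Fin.sum_univ_two, g1, g2, g3, g4, k1, k2, k3, k4] }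

theorem low_val (h2 : (2 : F) ≠ 0) (g : ↥(Blk : Subgroup (GL Z3 F))) :
    (low h2 g : Matrix (Fin 2) (Fin 2) F) = lowM (g : GL Z3 F) := rfl

theorem Over.not_dvd_blk (hM : Over K M) : ¬ p ∣ Nat.card (M.subgroupOf Blk) := by
  intro h
  obtain ⟨⟨⟨g, hg⟩, hgM⟩, hord⟩ := exists_prime_orderOf_dvd_card' (G := M.subgroupOf Blk) p h
  have hpow := congrArg (fun x : M.subgroupOf Blk => (x : ↥(Blk : Subgroup (GL Z3 F))))
    (hord ▸ pow_orderOf_eq_one (⟨⟨g, hg⟩, hgM⟩ : M.subgroupOf Blk))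
  simp only [SubmonoidClass.coe_pow, OneMemClass.coe_one] at hpow
  have hl : (lowM g - 1) * (lowM g - 1) = 0 := sub_one_pow p (by
    have := congrArg (fun x : GL (Fin 2) F => (x : Matrix (Fin 2) (Fin 2) F)) (congrArg (low K.two) hpow)
    simp only [map_pow, map_one, Units.val_pow_eq_pow_val, low_val, Units.val_one] at this
    exact this)
  obtain ⟨g1, g2, g3, g4⟩ := blk_entry hg K.two
  have h00 : ∀ n : ℕ, ((g ^ n : GL Z3 F) : Matrix Z3 Z3 F) 0 0 = ((g : Matrix Z3 Z3 F) 0 0) ^ n := fun n => by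
    induction n with
    | zero => simp
    | succ n ih =>
      rw [pow_succ, Units.val_mul, Matrix.mul_apply, sum_z3, ih, g3, g4, mul_zero, mul_zero, add_zero, add_zero, ← pow_succ]
  have hc : (g : Matrix Z3 Z3 F) 0 0 = 1 := eq_one_of_pow_char p (by
    rw [← h00 p, show g ^ p = 1 from by simpa using congrArg Subtype.val hpow, Units.val_one, Matrix.one_apply_eq])
  have hz : ((g : Matrix Z3 Z3 F) - 1) * ((g : Matrix Z3 Z3 F) - 1) = 0 := by
    have e00 := congrFun (congrFun hl 0) 0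
    have e01 := congrFun (congrFun hl 0) 1
    have e10 := congrFun (congrFun hl 1) 0
    have e11 := congrFun (congrFun hl 1) 1
    simp [lowM, Matrix.mul_apply, Fin.sum_univ_two] at e00 e01 e10 e11
    ext z w
    rw [Matrix.mul_apply, sum_z3]
    rcases z3_cases z with rfl | rfl | rfl <;> rcases z3_cases w with rfl | rfl | rfl <;>
      simp +decide [Matrix.one_apply, g1, g2, g3, g4, hc] <;>
      first
        | linear_combination e00
        | linear_combination e01
        | linear_combination e10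
        | linear_combination e11
  have := hM.nt g hgM hz
  subst this
  rw [show (⟨⟨(1 : GL Z3 F), hg⟩, hgM⟩ : M.subgroupOf Blk) = 1 from rfl, orderOf_one] at hord
  exact (Fact.out : p.Prime).one_lt.ne hord

/-- the key lemma: an element of the centraliser that is diagonal on the plane has equal squares of eigenvalues -/
theorem Over.sq_eq (hM : Over K M) (hp : 5 ≤ p) {g : GL Z3 F} (hgM : g ∈ M) (hg : g ∈ cen) (h01 : psiM g 0 1 = 0)
    (h10 : psiM g 1 0 = 0) : (psiM g 1 1) ^ 2 = (chiV g) ^ 2 := by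
  have h2 := K.two
  by_contra hne
  obtain ⟨g1, g2, g3, g4⟩ := cen_shape hg
  have hd : psiM g 1 1 ≠ 0 ∧ chiV g ≠ 0 := by
    have := hM.sl g hgM
    rw [det_cen hg, Matrix.det_fin_two, h01, zero_mul, sub_zero] at this
    exact ⟨fun h => by rw [h] at this; simp at this, fun h => by rw [h] at this; simp at this⟩
  obtain ⟨lam, hlam⟩ : ∃ u : Fˣ, (u : F) = psiM g 1 1 := ⟨Units.mk0 _ hd.1, rfl⟩
  obtain ⟨mu, hmu⟩ : ∃ u : Fˣ, (u : F) = chiV g := ⟨Units.mk0 _ hd.2, rfl⟩
  -- a modification of even order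
  obtain ⟨ε, hε, m, hm⟩ : ∃ ε : Fˣ, (ε = 1 ∨ ε = -1) ∧ ∃ m : ℕ, (ε * (mu / lam)) ^ m = -1 := by
    rcases Nat.even_or_odd (orderOf (mu / lam)) with ⟨m, hm⟩ | hodd
    · refine ⟨1, Or.inl rfl, m, ?_⟩
      have hpos := orderOf_pos (mu / lam)
      have h1 : ((mu / lam) ^ m) ^ 2 = 1 := by rw [← pow_mul, mul_two, ← hm, pow_orderOf_eq_one]
      have h1' : ((((mu / lam) ^ m : Fˣ) : F)) * (((mu / lam) ^ m : Fˣ) : F) = 1 := by
        rw [← Units.val_mul, ← pow_two, h1, Units.val_one]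
      rw [one_mul]
      rcases mul_self_eq_one_iff.1 h1' with e | e
      · exact absurd (Units.ext (e.trans Units.val_one.symm)) (pow_ne_one_of_lt_orderOf (by omega) (by omega))
      · exact Units.ext (e.trans (by simp))
    · exact ⟨-1, Or.inr rfl, orderOf (mu / lam), by rw [neg_one_mul, hodd.neg_pow, pow_orderOf_eq_one]⟩
  obtain ⟨g', hg'M, hg', h'01, h'10, h'lam, h'mu⟩ : ∃ g' : GL Z3 F, g' ∈ M ∧ g' ∈ cen ∧ psiM g' 0 1 = 0 ∧
      psiM g' 1 0 = 0 ∧ psiM g' 1 1 = (ε : F) * lam ∧ chiV g' = mu := by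
    rcases hε with rfl | rfl
    · exact ⟨g, hgM, hg, h01, h10, by rw [Units.val_one, one_mul, hlam], hmu.symm⟩
    · refine ⟨g * Root.T, mul_mem hgM hM.hT, mul_mem hg T_cen, ?_, ?_, ?_, ?_⟩
      · rw [(psiM_mul T_cen).resolve_right (not_not.2 hg), psiM_T, Matrix.mul_neg, Matrix.mul_one, Matrix.neg_apply,
          h01, neg_zero]
      · rw [(psiM_mul T_cen).resolve_right (not_not.2 hg), psiM_T, Matrix.mul_neg, Matrix.mul_one, Matrix.neg_apply,
          h10, neg_zero]
      · rw [(psiM_mul T_cen).resolve_right (not_not.2 hg), psiM_T, Matrix.mul_neg, Matrix.mul_one, Matrix.neg_apply,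
          Units.val_neg, Units.val_one, neg_one_mul, hlam]
      · have := congrArg (fun u : Fˣ => (u : F)) (map_mul chi ⟨g, hg⟩ ⟨_, T_cen⟩)
        simp only [Units.val_mul, chi_val] at this
        rw [hmu]
        exact this.trans (by rw [chiV_T, mul_one])
  have hblk : ∀ k : GL Z3 F, k ∈ cen → psiM k 0 1 = 0 → psiM k 1 0 = 0 → k ∈ (Blk : Subgroup (GL Z3 F)) := by
    intro k hk e1 e2
    obtain ⟨k1, k2, -, -⟩ := cen_shape hk
    simp [psiM] at e1 e2
    have e1' := e1.resolve_left h2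
    exact mem_blk e1' (k1.trans e1') e2 (k2.trans e2)
  have hb := hblk g' hg' h'01 h'10
  set X : ↥(Blk : Subgroup (GL Z3 F)) := ⟨g', hb⟩ with hX
  have hu : K.W 1 0 ∈ (Blk : Subgroup (GL Z3 F)) := by
    apply mem_blk <;> simp +decide [Root.W_val]
  set U : ↥(Blk : Subgroup (GL Z3 F)) := ⟨K.W 1 0, hu⟩ with hU
  let Φ : ↥(Blk : Subgroup (GL Z3 F)) →* Matrix.ProjGenLinGroup (Fin 2) F :=
    Matrix.ProjGenLinGroup.mk.comp (low h2)
  have hXM : X ∈ M.subgroupOf Blk := hg'M
  have hYM : U * X * U⁻¹ ∈ M.subgroupOf Blk := mul_mem (mul_mem (hM.hW 1 0) hg'M) (inv_mem (hM.hW 1 0))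
  -- powers
  have hpowent : ∀ n : ℕ, ((g' ^ n : GL Z3 F) : Matrix Z3 Z3 F) 1 1 + ((g' ^ n : GL Z3 F) : Matrix Z3 Z3 F) 1 2 =
      ((ε : F) * lam) ^ n ∧
      ((g' ^ n : GL Z3 F) : Matrix Z3 Z3 F) 1 1 - ((g' ^ n : GL Z3 F) : Matrix Z3 Z3 F) 1 2 = (mu : F) ^ n := by
    intro n
    induction n with
    | zero => simp +decide
    | succ n ih =>
      have hn : g' ^ n ∈ cen := pow_mem hg' n
      have e1 := congrFun (congrFun ((psiM_mul (g := g' ^ n) hg').resolve_right (not_not.2 hn)) 1) 1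
      have e2 := congrArg (fun u : Fˣ => (u : F)) (map_mul chi ⟨g' ^ n, hn⟩ ⟨g', hg'⟩)
      rw [pow_succ g' n]
      simp only [Units.val_mul, chi_val, Subgroup.coe_mul] at e2
      rw [Matrix.mul_apply, Fin.sum_univ_two, h'01, mul_zero, zero_add, h'lam] at e1
      simp only [chiV] at e2 h'mu
      constructor
      · rw [pow_succ, ← ih.1]
        exact e1
      · rw [pow_succ, ← ih.2, e2, h'mu]
  have hmv : ((ε : F) * lam) ^ m = -((mu : F) ^ m) := by
    have h := congrArg (fun u : Fˣ => (u : F)) hm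
    simp only [Units.val_pow_eq_pow_val, Units.val_mul, Units.val_div_eq_div_val, Units.val_neg, Units.val_one] at h
    have hl : ((lam : F)) ^ m ≠ 0 := pow_ne_zero _ lam.ne_zero
    rw [mul_pow, div_pow] at h
    have hε2 : ((ε : F)) ^ m * (ε : F) ^ m = 1 := by
      rcases hε with rfl | rfl
      · simp
      · rw [← mul_pow]; simp
    field_simp at h
    linear_combination (ε : F) ^ m * h - (mu : F) ^ m * hε2
  -- the involution
  set b : F := ((g' ^ m : GL Z3 F) : Matrix Z3 Z3 F) 1 2 with hb'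
  have ha : ((g' ^ m : GL Z3 F) : Matrix Z3 Z3 F) 1 1 = 0 :=
    (mul_eq_zero.1 (show (2 : F) * _ = 0 by linear_combination (hpowent m).1 + (hpowent m).2 + hmv)).resolve_left h2
  have hlowm : lowM (g' ^ m) = !![0, b; b, 0] := by
    obtain ⟨k1, k2, k3, k4⟩ := cen_shape (pow_mem hg' m)
    ext i j
    fin_cases i <;> fin_cases j <;> simp [lowM, ha, k3, k4, hb']
  have hlow2 : lowM (g' ^ 2) 0 1 ≠ 0 := by
    intro h
    apply hne
    have h' : ((g' ^ 2 : GL Z3 F) : Matrix Z3 Z3 F) 1 2 = 0 := h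
    have e := hpowent 2
    rw [h', add_zero, sub_zero] at e
    rw [← hlam, ← hmu, ← e.2, e.1]
    rcases hε with rfl | rfl <;> simp
  have hb0 : b ≠ 0 := fun h => by
    have hd := (Matrix.GeneralLinearGroup.det (low h2 (X ^ m))).ne_zero
    rw [Matrix.GeneralLinearGroup.val_det_apply, low_val, SubmonoidClass.coe_pow, hlowm, h] at hd
    simp [Matrix.det_fin_two] at hd
  have hPhi1 : ∀ k : ↥(Blk : Subgroup (GL Z3 F)), Φ k = 1 → lowM (k : GL Z3 F) 0 1 = 0 ∧
      lowM (k : GL Z3 F) 0 0 = lowM (k : GL Z3 F) 1 1 := by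
    intro k hk
    rw [MonoidHom.comp_apply, ← map_one Matrix.ProjGenLinGroup.mk, Matrix.ProjGenLinGroup.mk_eq_mk_iff] at hk
    obtain ⟨u, hu⟩ := hk
    have hv := congrArg (fun x : GL (Fin 2) F => (x : Matrix (Fin 2) (Fin 2) F)) hu
    simp only [Units.val_mul, low_val, Matrix.GeneralLinearGroup.coe_scalar, Units.val_one] at hv
    have e01 := congrFun (congrFun hv 0) 1
    have e00 := congrFun (congrFun hv 0) 0
    have e11 := congrFun (congrFun hv 1) 1
    simp [Matrix.mul_apply, Fin.sum_univ_two] at e01 e00 e11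
    exact ⟨e01, mul_right_cancel₀ u.ne_zero (e00.trans e11.symm)⟩
  have hsh := Hessian.shape p hp ((M.subgroupOf Blk).map Φ)
    (fun h => hM.not_dvd_blk p (h.trans (Subgroup.card_map_dvd _ _)))
  have hXX : Φ X * Φ X ≠ 1 := fun h => hlow2 (by
    rw [← map_mul, ← pow_two] at h
    simpa [hX] using (hPhi1 _ h).1)
  have hj1 : Φ X ^ m ≠ 1 := fun h => hb0 (by
    rw [← map_pow] at h
    have := (hPhi1 _ h).1
    simpa [hX, hlowm] using this)
  have hjj : Φ X ^ m * Φ X ^ m = 1 := by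
    rw [← map_pow, ← map_mul, MonoidHom.comp_apply, ← map_one Matrix.ProjGenLinGroup.mk,
      Matrix.ProjGenLinGroup.mk_eq_mk_iff]
    refine ⟨Units.mk0 (b * b)⁻¹ (inv_ne_zero (mul_ne_zero hb0 hb0)), Units.ext ?_⟩
    rw [Units.val_mul, map_mul, Units.val_mul, low_val, SubmonoidClass.coe_pow, hlowm,
      Matrix.GeneralLinearGroup.coe_scalar]
    ext i j
    fin_cases i <;> fin_cases j <;> simp [Matrix.mul_apply, Fin.sum_univ_two, hb0] <;> field_simp
  have hconj : ∀ n : ℕ, Φ (U * X * U⁻¹) ^ n = Φ U * Φ X ^ n * (Φ U)⁻¹ := fun n => by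
    rw [map_mul, map_mul, map_inv, conj_pow]
  have key := commute_of_even hsh (Subgroup.mem_map_of_mem Φ hXM) (Subgroup.mem_map_of_mem Φ hYM) (m := m) (n := m) hXX
    (fun h => hXX (by
      rw [← pow_two, hconj 2, conj_eq_one_iff, pow_two] at h
      exact h)) hjj hj1
    (by rw [hconj, show Φ U * Φ X ^ m * (Φ U)⁻¹ * (Φ U * Φ X ^ m * (Φ U)⁻¹) = Φ U * (Φ X ^ m * Φ X ^ m) * (Φ U)⁻¹ by
      group, hjj, mul_one, mul_inv_cancel])
    (fun h => hj1 (by rwa [hconj, conj_eq_one_iff] at h))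
  rw [hconj, ← map_pow, ← map_inv, ← map_mul, ← map_mul, ← map_mul, ← map_mul, MonoidHom.comp_apply,
    MonoidHom.comp_apply, Matrix.ProjGenLinGroup.mk_eq_mk_iff] at key
  obtain ⟨u, hu'⟩ := key
  have hv := congrArg (fun x : GL (Fin 2) F => (x : Matrix (Fin 2) (Fin 2) F)) hu'
  have hUl : (low h2 U : Matrix (Fin 2) (Fin 2) F) = !![(K.l : F), 0; 0, (K.l : F) * K.l] := by
    rw [low_val]
    ext i j
    fin_cases i <;> fin_cases j <;> simp +decide [lowM, hU, Root.W_val, K.eval1, K.eval2]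
  have hUi : (low h2 U⁻¹ : Matrix (Fin 2) (Fin 2) F) = !![(K.l : F) * K.l, 0; 0, (K.l : F)] := by
    rw [map_inv, Matrix.coe_units_inv, hUl]
    refine Matrix.inv_eq_right_inv ?_
    ext i j
    fin_cases i <;> fin_cases j <;> simp [Matrix.mul_apply, Fin.sum_univ_two] <;> linear_combination K.cube
  simp only [map_mul, Units.val_mul, hUl, hUi, Matrix.GeneralLinearGroup.coe_scalar] at hv
  rw [low_val, SubmonoidClass.coe_pow, hX] at hv
  simp only [hlowm] at hv
  have e0 := congrFun (congrFun hv 0) 0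
  have e1 := congrFun (congrFun hv 1) 1
  simp [Matrix.mul_apply, Fin.sum_univ_two] at e0 e1
  have hl : (K.l : F) ≠ 0 := K.l.ne_zero
  apply K.ne_one
  have hcube := K.cube
  have hbb : b * b ≠ 0 := mul_ne_zero hb0 hb0
  have f0 : (K.l : F) * u = (K.l : F) * K.l := mul_left_cancel₀ hbb (by
    linear_combination e0 - b * b * (K.l : F) * u * hcube)
  have f1 : (K.l : F) * K.l * u = (K.l : F) := mul_left_cancel₀ hbb (by linear_combination e1 + b * b * (K.l : F) * hcube)
  have fu : (u : F) = K.l := mul_left_cancel₀ hl f0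
  rw [fu, hcube] at f1
  exact f1.symm

end Cfsg.Agent.ClassicalMax.Hessian
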