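import Mathlib
import Cfsg.Agent.ClassicalMax.Hessian.Basic

/-!
The structure of the centraliser of the standard involution when it contains a further involution.
-/

set_option autoImplicit false

namespace Cfsg.Agent.ClassicalMax.Hessian

open Matrix SympThree
open scoped MatrixGroups

variable {F : Type*} [Field F] (K : Root F)
variable [NeZero (2 : F)]

/-- the scalar of the Fourier matrix -/
noncomputable def fs : F := (1 - (K.l : F))⁻¹

theorem fs_ne : fs K ≠ 0 := inv_ne_zero (sub_ne_zero.2 K.ne_one.symm)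

theorem Fr_cen : K.Fr ∈ (cen : Subgroup (GL Z3 F)) := by
  refine mem_cen_iff.2 (Units.ext (Matrix.ext fun z w => ?_))
  rw [Units.val_mul, Units.val_mul, Matrix.mul_apply, Matrix.mul_apply, Finset.sum_eq_single (-w),
    Finset.sum_eq_single (-z)]
  · rw [Root.T_val, Root.T_val, if_pos rfl, if_pos (neg_neg z).symm, Root.Fr_val, Root.Fr_val, mul_neg, neg_mul]
    ring_nf
  · intro x _ hx
    rw [Root.T_val, if_neg (fun e => hx (by rw [e, neg_neg])), zero_mul]
  · exact fun h => absurd (Finset.mem_univ _) h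
  · intro x _ hx
    rw [Root.T_val, if_neg hx, mul_zero]
  · exact fun h => absurd (Finset.mem_univ _) h

theorem Dg_cen (x : Z3) : K.Dg x ∈ (cen : Subgroup (GL Z3 F)) := by
  refine mem_cen_iff.2 (Units.ext (Matrix.ext fun z w => ?_))
  rw [Units.val_mul, Units.val_mul, Matrix.mul_apply, Matrix.mul_apply, sum_z3, sum_z3]
  rcases z3_cases z with rfl | rfl | rfl <;> rcases z3_cases w with rfl | rfl | rfl <;>
    simp +decide [Root.Dg_val, Root.T_val]

/-- the Fourier matrix in the centraliser -/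
noncomputable def cFr : ↥(cen : Subgroup (GL Z3 F)) := ⟨K.Fr, Fr_cen K⟩

/-- the diagonal phase in the centraliser -/
def cDg : ↥(cen : Subgroup (GL Z3 F)) := ⟨K.Dg 1, Dg_cen K 1⟩

/-- the turned Fourier matrix -/
noncomputable def cFp : ↥(cen : Subgroup (GL Z3 F)) := cDg K * cFr K * (cDg K)⁻¹

theorem psiM_Fr : psiM K.Fr = fs K • !![1, 2; 1, -1] := by
  ext i j
  fin_cases i <;> fin_cases j <;>
    simp +decide [psiM, Root.Fr_val, fs, K.eval1, K.eval2, Root.eval0, mul_comm (2 : F)]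
  rw [← mul_add, show (K.l : F) + K.l * K.l = -1 by linear_combination K.eqn, mul_neg_one]

theorem chiV_Fr : chiV K.Fr = (K.l : F) := by
  have h1 : (1 - (K.l : F)) ≠ 0 := sub_ne_zero.2 K.ne_one.symm
  simp +decide [chiV, Root.Fr_val, K.eval1, K.eval2]
  field_simp

theorem psiM_Dg : psiM (K.Dg 1) = !![(K.l : F), 0; 0, 1] := by
  ext i j
  fin_cases i <;> fin_cases j <;> simp +decide [psiM, Root.Dg_val, K.eval1]

theorem chiV_Dg : chiV (K.Dg 1) = 1 := by simp +decide [chiV, Root.Dg_val]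

theorem psiM_Dg_inv : psiM ((cDg K)⁻¹ : ↥(cen : Subgroup (GL Z3 F))).1 = !![(K.l : F) * K.l, 0; 0, 1] := by
  rw [← psi_val, map_inv, Matrix.coe_units_inv, psi_val]
  refine Matrix.inv_eq_right_inv ?_
  rw [show ((cDg K : ↥(cen : Subgroup (GL Z3 F))) : GL Z3 F) = K.Dg 1 from rfl, psiM_Dg]
  ext i j
  fin_cases i <;> fin_cases j <;> simp [Matrix.mul_apply, Fin.sum_univ_two]
  linear_combination K.cube

theorem psiM_Fp : psiM (cFp K).1 = fs K • !![1, 2 * (K.l : F); (K.l : F) * K.l, -1] := by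
  rw [← psi_val, cFp, map_mul, map_mul, Units.val_mul, Units.val_mul, psi_val, psi_val, psi_val, psiM_Dg_inv,
    show ((cDg K : ↥(cen : Subgroup (GL Z3 F))) : GL Z3 F) = K.Dg 1 from rfl,
    show ((cFr K : ↥(cen : Subgroup (GL Z3 F))) : GL Z3 F) = K.Fr from rfl, psiM_Dg, psiM_Fr]
  ext i j
  fin_cases i <;> fin_cases j <;> simp [Matrix.mul_apply, Fin.sum_univ_two] <;>
    first | ring1 | linear_combination fs K * K.cube

theorem chi_Fr : (chi (cFr K) : Fˣ) = K.l := Units.ext (chiV_Fr K)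

theorem chi_Fp : (chi (cFp K) : Fˣ) = K.l := by
  rw [cFp, map_mul, map_mul, map_inv, mul_comm (chi (cDg K)), mul_inv_cancel_right, chi_Fr]

theorem pi_Fr_ne : pi (cFr K) ≠ 1 := fun h => by
  have e : psiM K.Fr 1 0 = 0 := ((pi_eq_one_iff _).1 h).2.1
  rw [psiM_Fr] at e
  simp [fs_ne K] at e

theorem pi_Fr_sq : pi (cFr K) * pi (cFr K) = 1 := by
  rw [← map_mul, eq_comm, ← map_one pi, pi_eq_iff]
  refine ⟨Units.mk0 (3 * (fs K * fs K)) (mul_ne_zero K.three (mul_ne_zero (fs_ne K) (fs_ne K))), ?_⟩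
  rw [Subgroup.coe_mul, Subgroup.coe_one, show ((cFr K : ↥(cen : Subgroup (GL Z3 F))) : GL Z3 F) = K.Fr from rfl,
    (psiM_mul (Fr_cen K)).resolve_right (not_not.2 (Fr_cen K)), psiM_Fr]
  ext i j
  fin_cases i <;> fin_cases j <;> simp +decide [psiM, Matrix.mul_apply, Fin.sum_univ_two] <;> ring

theorem pi_Fp_eq : pi (cFp K) = pi (cDg K) * pi (cFr K) * (pi (cDg K))⁻¹ := by rw [cFp, map_mul, map_mul, map_inv]

theorem pi_Fp_ne : pi (cFp K) ≠ 1 := fun h => pi_Fr_ne K (by
  rwa [pi_Fp_eq, conj_eq_one_iff] at h)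

theorem pi_Fp_sq : pi (cFp K) * pi (cFp K) = 1 := by
  rw [pi_Fp_eq, show pi (cDg K) * pi (cFr K) * (pi (cDg K))⁻¹ * (pi (cDg K) * pi (cFr K) * (pi (cDg K))⁻¹) =
    pi (cDg K) * (pi (cFr K) * pi (cFr K)) * (pi (cDg K))⁻¹ by group, pi_Fr_sq, mul_one, mul_inv_cancel]

theorem pi_Fr_ne_Fp : pi (cFr K) ≠ pi (cFp K) := fun h => by
  obtain ⟨u, hu⟩ := (pi_eq_iff _ _).1 h
  rw [psiM_Fp, show ((cFr K : ↥(cen : Subgroup (GL Z3 F))) : GL Z3 F) = K.Fr from rfl, psiM_Fr] at hu
  have e00 := congrFun (congrFun hu 0) 0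
  have e01 := congrFun (congrFun hu 0) 1
  simp at e00 e01
  apply K.ne_one
  have hu1 : (u : F) = 1 := mul_left_cancel₀ (fs_ne K) (by linear_combination -e00)
  rw [hu1] at e01
  exact mul_left_cancel₀ (mul_ne_zero (fs_ne K) K.two) (by linear_combination e01)

theorem pi_comm : pi (cFr K) * pi (cFp K) = pi (cFp K) * pi (cFr K) := by
  rw [← map_mul, ← map_mul, pi_eq_iff]
  refine ⟨-1, ?_⟩
  rw [Subgroup.coe_mul, Subgroup.coe_mul, (psiM_mul (cFr K).2).resolve_right (not_not.2 (cFp K).2),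
    (psiM_mul (cFp K).2).resolve_right (not_not.2 (cFr K).2), psiM_Fp,
    show ((cFr K : ↥(cen : Subgroup (GL Z3 F))) : GL Z3 F) = K.Fr from rfl, psiM_Fr]
  ext i j
  fin_cases i <;> fin_cases j <;> simp [Matrix.mul_apply, Fin.sum_univ_two] <;>
    first | ring1 | linear_combination 2 * fs K * fs K * K.eqn | linear_combination -(2 * fs K * fs K * K.eqn)

theorem pi_turn : pi (cDg K) * pi (cFp K) * (pi (cDg K))⁻¹ = pi (cFr K) * pi (cFp K) := by
  rw [← map_inv, ← map_mul, ← map_mul, ← map_mul, eq_comm, pi_eq_iff]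
  have hc : fs K * (1 + 2 * (K.l : F) * K.l) ≠ 0 := mul_ne_zero (fs_ne K) fun h => K.three (by
    linear_combination (2 * (K.l : F) + 1) * h - 4 * K.cube - 2 * K.eqn)
  refine ⟨(Units.mk0 _ hc)⁻¹, ?_⟩
  rw [Subgroup.coe_mul, Subgroup.coe_mul, Subgroup.coe_mul,
    (psiM_mul (cFp K).2).resolve_right (not_not.2 (cFr K).2),
    (psiM_mul ((cDg K)⁻¹).2).resolve_right (not_not.2 (mul_mem (cDg K).2 (cFp K).2)),
    (psiM_mul (cFp K).2).resolve_right (not_not.2 (cDg K).2), psiM_Dg_inv, psiM_Fp,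
    show ((cFr K : ↥(cen : Subgroup (GL Z3 F))) : GL Z3 F) = K.Fr from rfl,
    show ((cDg K : ↥(cen : Subgroup (GL Z3 F))) : GL Z3 F) = K.Dg 1 from rfl, psiM_Fr, psiM_Dg, Units.val_inv_eq_inv_val,
    Units.val_mk0, eq_inv_smul_iff₀ hc]
  ext i j
  fin_cases i <;> fin_cases j <;> simp [Matrix.mul_apply, Fin.sum_univ_two]
  · first
      | linear_combination (fs K * fs K * (1 + 2 * (K.l : F) * K.l)) * K.cube
      | linear_combination -((fs K * fs K * (1 + 2 * (K.l : F) * K.l)) * K.cube)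
  · first
      | linear_combination (fs K * fs K * 2) * K.eqn + (fs K * fs K * 4 * (K.l : F)) * K.cube
      | linear_combination -((fs K * fs K * 2) * K.eqn + (fs K * fs K * 4 * (K.l : F)) * K.cube)
  · first
      | linear_combination fs K * fs K * K.eqn + fs K * fs K * ((K.l : F) + 2 * ((K.l : F) * K.l * K.l + 1)) * K.cube
      | linear_combination -(fs K * fs K * K.eqn + fs K * fs K * ((K.l : F) + 2 * ((K.l : F) * K.l * K.l + 1)) * K.cube)
  · first
      | linear_combination fs K * fs K * 2 * K.eqn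
      | linear_combination -(fs K * fs K * 2 * K.eqn)

/-- an element commuting projectively with the four group lies in it -/
theorem four_centr {k : ↥(cen : Subgroup (GL Z3 F))} (ha : pi k * pi (cFr K) = pi (cFr K) * pi k)
    (hb : pi k * pi (cFp K) = pi (cFp K) * pi k) :
    pi k = 1 ∨ pi k = pi (cFr K) ∨ pi k = pi (cFp K) ∨ pi k = pi (cFr K) * pi (cFp K) := by
  rw [← map_mul, ← map_mul, pi_eq_iff] at ha hb
  obtain ⟨u, hu⟩ := ha
  obtain ⟨v, hv⟩ := hb
  rw [Subgroup.coe_mul, Subgroup.coe_mul, (psiM_mul (cFr K).2).resolve_right (not_not.2 k.2),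
    (psiM_mul k.2).resolve_right (not_not.2 (cFr K).2),
    show ((cFr K : ↥(cen : Subgroup (GL Z3 F))) : GL Z3 F) = K.Fr from rfl, psiM_Fr, Matrix.mul_smul, Matrix.smul_mul,
    smul_comm (u : F)] at hu
  rw [Subgroup.coe_mul, Subgroup.coe_mul, (psiM_mul (cFp K).2).resolve_right (not_not.2 k.2),
    (psiM_mul k.2).resolve_right (not_not.2 (cFp K).2), psiM_Fp, Matrix.mul_smul, Matrix.smul_mul,
    smul_comm (v : F)] at hv
  have hu' := (smul_right_injective _ (fs_ne K)) hu
  have hv' := (smul_right_injective _ (fs_ne K)) hv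
  have hdet : (psiM (k : GL Z3 F)).det ≠ 0 := by
    rw [← psi_val]
    exact (Matrix.GeneralLinearGroup.det (psi k)).ne_zero
  have sq : ∀ (w : Fˣ) (N : Matrix (Fin 2) (Fin 2) F), N.det ≠ 0 →
      N * psiM (k : GL Z3 F) = (w : F) • (psiM (k : GL Z3 F) * N) → (w : F) = 1 ∨ (w : F) = -1 := by
    intro w N hN h
    have h' := congrArg Matrix.det h
    rw [Matrix.det_smul, Matrix.det_mul, Matrix.det_mul, Fintype.card_fin] at h'
    refine mul_self_eq_one_iff.1 (mul_left_cancel₀ (mul_ne_zero hN hdet) ?_)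
    linear_combination -h'
  have hu1 := sq u _ (by simp [Matrix.det_fin_two]; intro h; exact K.three (by linear_combination -h)) hu'
  have hv1 := sq v _ (by
    simp [Matrix.det_fin_two]
    intro h
    exact K.three (by linear_combination -h - 2 * K.cube)) hv'
  obtain ⟨a, b, c, d, hA⟩ : ∃ a b c d, psiM (k : GL Z3 F) = !![a, b; c, d] :=
    ⟨_, _, _, _, Matrix.eta_fin_two _⟩
  rw [hA, Matrix.det_fin_two] at hdet
  simp at hdet
  rw [hA] at hu' hv'
  have p00 := congrFun (congrFun hu' 0) 0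
  have p10 := congrFun (congrFun hu' 1) 0
  have q00 := congrFun (congrFun hv' 0) 0
  have q10 := congrFun (congrFun hv' 1) 0
  simp [Matrix.mul_apply, Fin.sum_univ_two] at p00 p10 q00 q10
  have hl : (K.l : F) ≠ 0 := K.l.ne_zero
  have hl1 : (1 : F) - K.l ≠ 0 := sub_ne_zero.2 K.ne_one.symm
  have h2 := K.two
  have mk : ∀ (h : ↥(cen : Subgroup (GL Z3 F))) (e f g i w : F), psiM (h : GL Z3 F) = w • !![e, f; g, i] → w ≠ 0 →
      e ≠ 0 → a ≠ 0 → b * e = a * f → c * e = a * g → d * e = a * i → pi k = pi h := by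
    intro h e f g i w hh hw he ha0 e1 e2 e3
    refine (pi_eq_iff _ _).2 ⟨Units.mk0 (w * e / a) (div_ne_zero (mul_ne_zero hw he) ha0), ?_⟩
    rw [hh, hA, Units.val_mk0]
    ext r s
    fin_cases r <;> fin_cases s <;> simp <;> field_simp
    · linear_combination -e1
    · linear_combination -e2
    · linear_combination -e3
  rcases hu1 with hu1 | hu1 <;> rcases hv1 with hv1 | hv1 <;> rw [hu1] at p00 p10 <;> rw [hv1] at q00 q10
  · left
    have e1 : b = 2 * c := by linear_combination -p00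
    have e2 : b = 0 := by
      have : (K.l : F) * (1 - K.l) * b = 0 := by linear_combination q00 + (K.l : F) * e1
      exact (mul_eq_zero.1 this).resolve_left (mul_ne_zero hl hl1)
    have e3 : c = 0 := (mul_eq_zero.1 (show (2 : F) * c = 0 by linear_combination e2 - e1)).resolve_left h2
    rw [pi_eq_one_iff, hA]
    refine ⟨by simpa using e2, by simpa using e3, ?_⟩
    simp
    linear_combination p10 + 2 * e3
  · right; left
    have e1 : b = 2 * c := by linear_combination -p00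
    have e2 : b = 2 * a := by linear_combination -q00 + b * K.eqn - (K.l : F) * e1
    have e3 : c = a := mul_left_cancel₀ h2 (by linear_combination e2 - e1)
    have e4 : d = -a := by linear_combination (-1 : F) * p10 - 2 * e3
    refine mk _ 1 2 1 (-1) (fs K) (psiM_Fr K) (fs_ne K) one_ne_zero ?_ ?_ ?_ ?_
    · rintro rfl; exact hdet (by rw [e2, e3, e4]; ring)
    · linear_combination e2
    · linear_combination e3
    · linear_combination e4
  · right; right; left
    have e1 : b = -2 * a - 2 * c := by linear_combination p00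
    have e0 : (K.l : F) * K.l * b = 2 * (K.l : F) * c := by linear_combination -q00
    have e3 : c = (K.l : F) * K.l * a := by
      refine mul_left_cancel₀ h2 ?_
      linear_combination e0 - (K.l : F) * K.l * e1 + (2 * c) * K.eqn
    have e2 : b = 2 * (K.l : F) * a := by linear_combination e1 - 2 * e3 - 2 * a * K.eqn
    have e4 : d = -a := by linear_combination p10
    refine mk _ 1 (2 * (K.l : F)) ((K.l : F) * K.l) (-1) (fs K) (psiM_Fp K) (fs_ne K) one_ne_zero ?_ ?_ ?_ ?_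
    · rintro rfl; exact hdet (by rw [e2, e3, e4]; ring)
    · linear_combination e2
    · linear_combination e3
    · linear_combination e4
  · right; right; right
    have e1 : b = -2 * a - 2 * c := by linear_combination p00
    have e0 : 2 * a + (K.l : F) * K.l * b + 2 * (K.l : F) * c = 0 := by linear_combination q00
    have e3 : c = (K.l : F) * a := by
      refine mul_left_cancel₀ (mul_ne_zero (mul_ne_zero h2 hl) hl1) ?_
      linear_combination e0 - (K.l : F) * K.l * e1 + (2 * a) * K.cube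
    have e2 : b = 2 * ((K.l : F) * K.l) * a := by linear_combination e1 - 2 * e3 - 2 * a * K.eqn
    have e4 : d = -a := by linear_combination p10
    rw [← map_mul]
    refine mk _ 1 (2 * ((K.l : F) * K.l)) (K.l : F) (-1) (fs K * fs K * (1 + 2 * ((K.l : F) * K.l))) ?_ ?_ one_ne_zero
      ?_ ?_ ?_ ?_
    · rw [Subgroup.coe_mul, (psiM_mul (cFp K).2).resolve_right (not_not.2 (cFr K).2), psiM_Fp,
        show ((cFr K : ↥(cen : Subgroup (GL Z3 F))) : GL Z3 F) = K.Fr from rfl, psiM_Fr]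
      ext r s
      fin_cases r <;> fin_cases s <;> simp [Matrix.mul_apply, Fin.sum_univ_two] <;>
        first
          | ring1
          | linear_combination (fs K * fs K) * 2 * K.eqn
          | linear_combination -((fs K * fs K) * 2 * K.eqn)
          | linear_combination -(fs K * fs K * 2) * K.eqn - (fs K * fs K * 4 * (K.l : F)) * K.cube
          | linear_combination -(fs K * fs K) * K.eqn - (fs K * fs K * 2) * K.cube
    · refine mul_ne_zero (mul_ne_zero (fs_ne K) (fs_ne K)) fun h => K.three ?_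
      linear_combination (2 * (K.l : F) + 1) * h - 4 * K.cube - 2 * K.eqn
    · rintro rfl; exact hdet (by rw [e2, e3, e4]; ring)
    · linear_combination e2
    · linear_combination e3
    · linear_combination e4

variable {K} {M : Subgroup (GL Z3 F)} (p : ℕ) [Fact p.Prime] [CharP F p] [Fintype F]

theorem Over.cFr_mem (hM : Over K M) : cFr K ∈ CC M := hM.hFr
theorem Over.cFp_mem (hM : Over K M) : cFp K ∈ CC M := hM.hF'

theorem Over.cT_mem (hM : Over K M) : (⟨Root.T, T_cen⟩ : ↥(cen : Subgroup (GL Z3 F))) ∈ CC M := hM.hT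

/-- the elements of the overgroup projectively trivial on the plane -/
theorem Over.ker_cases (hM : Over K M) (hp : 5 ≤ p) {g : ↥(cen : Subgroup (GL Z3 F))} (hg : g ∈ CC M)
    (h1 : pi g = 1) : ∃ a, (g : GL Z3 F) = sc (K.e a) ∨ (g : GL Z3 F) = sc (K.e a) * Root.T := by
  obtain ⟨h01, h10, h00⟩ := (pi_eq_one_iff g).1 h1
  have hsq : psiM (g : GL Z3 F) 1 1 ^ 2 = chiV (g : GL Z3 F) ^ 2 := hM.sq_eq p hp hg g.2 h01 h10
  have hdet : (g.1 : Matrix Z3 Z3 F).det = 1 := hM.sl _ hg
  rw [det_cen g.2, Matrix.det_fin_two, h01, zero_mul, sub_zero, h00] at hdet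
  set m := psiM (g : GL Z3 F) 1 1
  set c := chiV (g : GL Z3 F)
  have hm : psiM (g : GL Z3 F) = m • 1 := by
    ext i j
    fin_cases i <;> fin_cases j <;> simp [m, h01, h10, h00]
  rcases sq_eq_sq_iff_eq_or_eq_neg.1 hsq with e | e
  · obtain ⟨a, ha⟩ := K.exists_e (c := c) (by linear_combination hdet - c * (m + c) * e)
    refine ⟨a, Or.inl (cen_ext K.two g.2 (sc_cen _) ?_ ?_)⟩
    · rw [psiM_sc, hm, e, ha]
    · rw [chiV_sc, ← ha]
  · obtain ⟨a, ha⟩ := K.exists_e (c := c) (by linear_combination hdet - c * (m - c) * e)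
    refine ⟨a, Or.inr (cen_ext K.two g.2 (mul_mem (sc_cen _) T_cen) ?_ ?_)⟩
    · rw [(psiM_mul T_cen).resolve_right (not_not.2 (sc_cen _)), psiM_sc, psiM_T, hm, e, ha]
      simp
    · have := congrArg (fun u : Fˣ => (u : F)) (map_mul chi ⟨_, sc_cen (K.e a)⟩ ⟨_, T_cen⟩)
      simp only [Units.val_mul, chi_val, Subgroup.coe_mul] at this
      rw [this, chiV_sc, chiV_T, mul_one, ← ha]

theorem Over.chi_ker (hM : Over K M) (hp : 5 ≤ p) {g : ↥(cen : Subgroup (GL Z3 F))} (hg : g ∈ CC M)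
    (h1 : pi g = 1) : chi g ^ 3 = 1 := by
  obtain ⟨a, e | e⟩ := hM.ker_cases p hp hg h1
  · rw [show g = ⟨_, sc_cen (K.e a)⟩ from Subtype.ext e, show chi (⟨_, sc_cen (K.e a)⟩ : ↥(cen : Subgroup (GL Z3 F))) =
      K.e a from Units.ext (chiV_sc _), K.e_cube]
  · rw [show g = ⟨_, sc_cen (K.e a)⟩ * ⟨_, T_cen⟩ from Subtype.ext e, map_mul,
      show chi (⟨_, sc_cen (K.e a)⟩ : ↥(cen : Subgroup (GL Z3 F))) = K.e a from Units.ext (chiV_sc _),
      show chi (⟨Root.T, T_cen⟩ : ↥(cen : Subgroup (GL Z3 F))) = 1 from Units.ext chiV_T, mul_one, K.e_cube]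

theorem Over.chi_congr (hM : Over K M) (hp : 5 ≤ p) {g g' : ↥(cen : Subgroup (GL Z3 F))} (hg : g ∈ CC M)
    (hg' : g' ∈ CC M) (h : pi g = pi g') : chi g ^ 3 = chi g' ^ 3 := by
  have := hM.chi_ker p hp (mul_mem hg (inv_mem hg')) (by rw [map_mul, map_inv, h, mul_inv_cancel])
  rwa [map_mul, map_inv, mul_pow, inv_pow, mul_inv_eq_one] at this

/-- a cycle of three on the four group has a character of order nine -/
theorem Over.cycle_chi (hM : Over K M) (hp : 5 ≤ p) {g : ↥(cen : Subgroup (GL Z3 F))} (hg : g ∈ CC M)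
    (h1 : pi g * pi (cFr K) * (pi g)⁻¹ = pi (cFp K))
    (h2 : pi g * pi (cFp K) * (pi g)⁻¹ = pi (cFr K) * pi (cFp K)) : chi g ^ 6 ≠ 1 := by
  set k := (cDg K)⁻¹ * g with hk
  have hgk : g = cDg K * k := by rw [hk, mul_inv_cancel_left]
  rw [hgk, map_mul] at h1 h2
  rw [pi_Fp_eq] at h1
  rw [← pi_turn] at h2
  have ha : pi k * pi (cFr K) = pi (cFr K) * pi k := by
    have := mul_left_cancel (mul_right_cancel (show pi (cDg K) * (pi k * pi (cFr K) * (pi k)⁻¹) * (pi (cDg K))⁻¹ =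
      pi (cDg K) * pi (cFr K) * (pi (cDg K))⁻¹ by rw [← h1]; group))
    rwa [mul_inv_eq_iff_eq_mul] at this
  have hb : pi k * pi (cFp K) = pi (cFp K) * pi k := by
    have := mul_left_cancel (mul_right_cancel (show pi (cDg K) * (pi k * pi (cFp K) * (pi k)⁻¹) * (pi (cDg K))⁻¹ =
      pi (cDg K) * pi (cFp K) * (pi (cDg K))⁻¹ by rw [← h2]; group))
    rwa [mul_inv_eq_iff_eq_mul] at this
  obtain ⟨q, hq, hqk, hq3⟩ : ∃ q ∈ CC M, pi k = pi q ∧ chi q ^ 3 = 1 := by
    rcases four_centr K ha hb with e | e | e | e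
    · exact ⟨1, one_mem _, by rw [e, map_one], by rw [map_one, one_pow]⟩
    · exact ⟨_, hM.cFr_mem, e, by rw [chi_Fr, K.cubeU]⟩
    · exact ⟨_, hM.cFp_mem, e, by rw [chi_Fp, K.cubeU]⟩
    · exact ⟨_, mul_mem hM.cFr_mem hM.cFp_mem, by rw [e, map_mul], by
        rw [map_mul, chi_Fr, chi_Fp, mul_pow, K.cubeU, one_mul]⟩
  set g' := g * q⁻¹ with hg'
  have hg'M : g' ∈ CC M := mul_mem hg (inv_mem hq)
  have hpi : pi g' = pi (cDg K) := by rw [hg', hgk, map_mul, map_mul, map_inv, hqk, mul_inv_cancel_right]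
  obtain ⟨u, hu⟩ := (pi_eq_iff _ _).1 hpi.symm
  rw [show ((cDg K : ↥(cen : Subgroup (GL Z3 F))) : GL Z3 F) = K.Dg 1 from rfl, psiM_Dg] at hu
  have hsq : psiM (g' : GL Z3 F) 1 1 ^ 2 = chiV (g' : GL Z3 F) ^ 2 :=
    hM.sq_eq p hp hg'M g'.2 (show psiM (g' : GL Z3 F) 0 1 = 0 by rw [hu]; simp)
      (show psiM (g' : GL Z3 F) 1 0 = 0 by rw [hu]; simp)
  have hdet : (g'.1 : Matrix Z3 Z3 F).det = 1 := hM.sl _ hg'M
  rw [det_cen g'.2, hu, Matrix.det_fin_two] at hdet
  rw [hu] at hsq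
  simp at hdet hsq
  intro h6
  have h6' : chi g' ^ 6 = 1 := by
    rw [hg', map_mul, map_inv, mul_pow, h6, inv_pow, show chi q ^ 6 = (chi q ^ 3) ^ 2 by rw [← pow_mul], hq3,
      one_pow, inv_one, one_mul]
  have h6v := congrArg (fun u : Fˣ => (u : F)) h6'
  simp only [Units.val_pow_eq_pow_val, Units.val_one, chi_val] at h6v
  apply K.ne_one
  have hlc : (K.l : F) * (chiV (g' : GL Z3 F)) ^ 3 = 1 := by
    rw [show (chiV (g' : GL Z3 F)) ^ 3 = chiV (g' : GL Z3 F) ^ 2 * chiV (g' : GL Z3 F) by ring, ← hsq]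
    linear_combination hdet
  have hl2 : (K.l : F) * K.l = 1 := by
    linear_combination ((K.l : F) * chiV (g' : GL Z3 F) ^ 3 + 1) * hlc - (K.l : F) * K.l * h6v
  linear_combination K.cube - (K.l : F) * hl2

end Cfsg.Agent.ClassicalMax.Hessian
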