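import Mathlib
import Cfsg.Agent.ClassicalMax.Hessian.Cent

/-!
The centraliser of the standard involution with a further involution: order, squares, conjugacy.
-/

set_option autoImplicit false

namespace Cfsg.Agent.ClassicalMax.Hessian

open Matrix SympThree
open scoped MatrixGroups

variable {F : Type*} [Field F]
variable [NeZero (2 : F)]

/-- a scalar cube root of unity -/
def IsSc (K : Root F) (g : GL Z3 F) : Prop := ∃ a, g = sc (K.e a)

theorem card_preimage {G H : Type*} [Group G] [Group H] [Finite G] (f : G →* H) (S : Set H)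
    (hS : S ⊆ f.range) : Nat.card {g : G // f g ∈ S} = Nat.card f.ker * Nat.card S := by
  choose s hs using fun x : S => hS x.2
  rw [← Nat.card_prod]
  refine Nat.card_congr
    { toFun := fun g => (⟨(g : G) * (s ⟨f g, g.2⟩)⁻¹, by
        rw [MonoidHom.mem_ker, map_mul, map_inv, hs, mul_inv_cancel]⟩, ⟨f g, g.2⟩)
      invFun := fun kx => ⟨(kx.1 : G) * s kx.2, by
        rw [map_mul, MonoidHom.mem_ker.1 kx.1.2, one_mul, hs]; exact kx.2.2⟩
      left_inv := fun g => Subtype.ext (inv_mul_cancel_right _ _)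
      right_inv := fun kx => ?_ }
  have e : (⟨f ((kx.1 : G) * s kx.2), by
      rw [map_mul, MonoidHom.mem_ker.1 kx.1.2, one_mul, hs]; exact kx.2.2⟩ : S) = kx.2 :=
    Subtype.ext (by
      show f ((kx.1 : G) * s kx.2) = (kx.2 : H)
      rw [map_mul, MonoidHom.mem_ker.1 kx.1.2, one_mul, hs])
  refine Prod.ext (Subtype.ext ?_) e
  show (kx.1 : G) * s kx.2 * (s ⟨f ((kx.1 : G) * s kx.2), _⟩)⁻¹ = kx.1
  rw [e, mul_inv_cancel_right]

variable {K : Root F} {M : Subgroup (GL Z3 F)}

theorem sc_e_mul (a b : Z3) : (sc (K.e a) : GL Z3 F) * sc (K.e b) = sc (K.e (a + b)) := by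
  rw [← map_mul, K.e_add]

theorem z3_double : ∀ a : Z3, a + a = 0 → a = 0 := by decide

theorem sc_e_inj {a b : Z3} (h : (sc (K.e a) : GL Z3 F) = sc (K.e b)) : a = b := by
  have := congrArg (fun m : GL Z3 F => (m : Matrix Z3 Z3 F) 0 0) h
  simp only [sc_val, Matrix.smul_apply, Matrix.one_apply_eq, smul_eq_mul, mul_one] at this
  exact K.e_val_inj this

theorem T_sq : (Root.T : GL Z3 F) * Root.T = 1 := Units.ext (Root.T : GL Z3 F).val_inv

theorem T_not_sc (K : Root F) (a : Z3) : (Root.T : GL Z3 F) ≠ sc (K.e a) := fun h => by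
  have := congrArg (fun m : GL Z3 F => (m : Matrix Z3 Z3 F) 1 1) h
  simp +decide only [Root.T_val, sc_val, Matrix.smul_apply, Matrix.one_apply_eq, smul_eq_mul, mul_one, if_false] at this
  exact (K.e a).ne_zero this.symm

theorem neg_ne_cube {x : F} (K : Root F) {a : Z3} (hx : x = -(K.e a : F)) (h : x ^ 3 = 1) : False := by
  apply K.two
  have := congrArg (fun u : Fˣ => (u : F)) (K.e_cube a)
  simp only [Units.val_pow_eq_pow_val, Units.val_one] at this
  rw [hx] at h
  linear_combination -h - this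

/-- a projective involution has trace zero -/
theorem trace_zero {g : ↥(cen : Subgroup (GL Z3 F))} (h2 : pi g * pi g = 1) (h1 : pi g ≠ 1) :
    psiM (g : GL Z3 F) 0 0 + psiM (g : GL Z3 F) 1 1 = 0 := by
  rw [← map_mul, pi_eq_one_iff, Subgroup.coe_mul, (psiM_mul g.2).resolve_right (not_not.2 g.2)] at h2
  obtain ⟨e01, e10, e00⟩ := h2
  simp only [Matrix.mul_apply, Fin.sum_univ_two] at e01 e10 e00
  by_contra ht
  apply h1
  rw [pi_eq_one_iff]
  refine ⟨(mul_eq_zero.1 (show psiM (g : GL Z3 F) 0 1 * (psiM (g : GL Z3 F) 0 0 + psiM (g : GL Z3 F) 1 1) = 0 by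
      linear_combination e01)).resolve_right ht,
    (mul_eq_zero.1 (show psiM (g : GL Z3 F) 1 0 * (psiM (g : GL Z3 F) 0 0 + psiM (g : GL Z3 F) 1 1) = 0 by
      linear_combination e10)).resolve_right ht, ?_⟩
  exact sub_eq_zero.1 ((mul_eq_zero.1 (show (psiM (g : GL Z3 F) 0 0 - psiM (g : GL Z3 F) 1 1) *
      (psiM (g : GL Z3 F) 0 0 + psiM (g : GL Z3 F) 1 1) = 0 by linear_combination e00)).resolve_right ht)

/-- projectively distinct involutions do not commute -/
theorem anticommute (h2 : (2 : F) ≠ 0) {g h : ↥(cen : Subgroup (GL Z3 F))} (hg2 : pi g * pi g = 1) (hg1 : pi g ≠ 1)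
    (hh2 : pi h * pi h = 1) (hh1 : pi h ≠ 1) (hne : pi g ≠ pi h) : g * h ≠ h * g := by
  intro hc
  have tg := trace_zero hg2 hg1
  have th := trace_zero hh2 hh1
  have hc' : psiM ((g * h : ↥(cen : Subgroup (GL Z3 F))) : GL Z3 F) = psiM ((h * g : ↥(cen : Subgroup (GL Z3 F))) : GL Z3 F) := by
    rw [hc]
  rw [Subgroup.coe_mul, Subgroup.coe_mul, (psiM_mul h.2).resolve_right (not_not.2 g.2),
    (psiM_mul g.2).resolve_right (not_not.2 h.2)] at hc'
  have dg := (Matrix.GeneralLinearGroup.det (psi g)).ne_zero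
  have dh := (Matrix.GeneralLinearGroup.det (psi h)).ne_zero
  rw [Matrix.GeneralLinearGroup.val_det_apply, psi_val] at dg dh
  obtain ⟨a, b, c, d, hA⟩ : ∃ a b c d, psiM (g : GL Z3 F) = !![a, b; c, d] := ⟨_, _, _, _, Matrix.eta_fin_two _⟩
  obtain ⟨a', b', c', d', hB⟩ : ∃ a b c d, psiM (h : GL Z3 F) = !![a, b; c, d] := ⟨_, _, _, _, Matrix.eta_fin_two _⟩
  rw [hA] at tg dg
  rw [hB] at th dh
  rw [hA, hB] at hc'
  simp at tg th
  rw [Matrix.det_fin_two] at dg dh
  simp at dg dh
  obtain rfl : d = -a := by linear_combination tg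
  obtain rfl : d' = -a' := by linear_combination th
  have k1 := congrFun (congrFun hc' 0) 0
  have k2 := congrFun (congrFun hc' 0) 1
  have k3 := congrFun (congrFun hc' 1) 0
  simp [Matrix.mul_apply, Fin.sum_univ_two] at k1 k2 k3
  have e1 : b * c' = b' * c := by linear_combination k1
  have e2 : a * b' = b * a' := mul_left_cancel₀ h2 (by linear_combination k2)
  have e3 : a' * c = c' * a := mul_left_cancel₀ h2 (by linear_combination k3)
  apply hne
  by_cases ha : a = 0
  · subst ha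
    have hb : b ≠ 0 := fun e => dg (by rw [e]; ring)
    have hc0 : c ≠ 0 := fun e => dg (by rw [e]; ring)
    have ha' : a' = 0 := (mul_eq_zero.1 (show b * a' = 0 by linear_combination -e2)).resolve_left hb
    subst ha'
    have hb' : b' ≠ 0 := fun e => dh (by rw [e]; ring)
    refine (pi_eq_iff _ _).2 ⟨Units.mk0 (b' / b) (div_ne_zero hb' hb), ?_⟩
    rw [hA, hB, Units.val_mk0]
    ext i j
    fin_cases i <;> fin_cases j <;> simp <;> field_simp
    linear_combination e1
  · have ha' : a' ≠ 0 := by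
      intro e
      subst e
      have h1 : b' = 0 := (mul_eq_zero.1 (show a * b' = 0 by linear_combination e2)).resolve_left ha
      have h3 : c' = 0 := (mul_eq_zero.1 (show c' * a = 0 by linear_combination -e3)).resolve_right ha
      exact dh (by rw [h1, h3]; ring)
    refine (pi_eq_iff _ _).2 ⟨Units.mk0 (a' / a) (div_ne_zero ha' ha), ?_⟩
    rw [hA, hB, Units.val_mk0]
    ext i j
    fin_cases i <;> fin_cases j <;> simp <;> field_simp
    · linear_combination e2
    · linear_combination -e3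

variable (p : ℕ) [Fact p.Prime] [CharP F p] [Fintype F]

/-- the centraliser data attached to a further involution, which is not invariant under the diagonal phase -/
theorem Over.cent_struct_turn (hM : Over K M) (hp : 5 ≤ p) {r : ↥(cen : Subgroup (GL Z3 F))} (hr : r ∈ CC M)
    (hr2 : r * r = 1) (hr1 : r ≠ 1) (hrT : (r : GL Z3 F) ≠ Root.T) :
    (¬ ∀ g ∈ CC M, cDg K * g * (cDg K)⁻¹ ∈ CC M) ∧
    (∀ g ∈ CC M, chi g ^ 6 = 1) ∧
    (∃ n, 0 < n ∧ Even n ∧ Nat.card (CC M) = 24 * n ∧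
      Nat.card {g : CC M // IsSc K (((g : ↥(cen : Subgroup (GL Z3 F))) : GL Z3 F) * (g : ↥(cen : Subgroup (GL Z3 F))))} =
        6 * n + 6) ∧
    (∀ g ∈ CC M, g * r = r * g → IsSc K ((g : GL Z3 F) * g)) ∧
    (∀ r' ∈ CC M, r' * r' = 1 → r' ≠ 1 → (r' : GL Z3 F) ≠ Root.T → ∃ g ∈ CC M, g * r * g⁻¹ = r') := by
  classical
  -- further involutions lie outside the kernel and have character minus one
  have hout : ∀ g ∈ CC M, g * g = 1 → g ≠ 1 → (g : GL Z3 F) ≠ Root.T → pi g ≠ 1 ∧ chi g ^ 3 ≠ 1 := by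
    intro g hg hg2 hg1 hgT
    have hk : pi g ≠ 1 := by
      intro h
      obtain ⟨a, e | e⟩ := hM.ker_cases p hp hg h
      · have h' := congrArg (fun x : ↥(cen : Subgroup (GL Z3 F)) => (x : GL Z3 F)) hg2
        simp only [Subgroup.coe_mul, Subgroup.coe_one, e, sc_e_mul] at h'
        have : a + a = 0 := sc_e_inj (K := K) (by rw [h', Root.e_zero, map_one])
        have ha : a = 0 := z3_double a this
        exact hg1 (Subtype.ext (by rw [e, ha, Root.e_zero, map_one]; rfl))
      · have h' := congrArg (fun x : ↥(cen : Subgroup (GL Z3 F)) => (x : GL Z3 F)) hg2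
        simp only [Subgroup.coe_mul, Subgroup.coe_one, e] at h'
        rw [show sc (K.e a) * Root.T * (sc (K.e a) * (Root.T : GL Z3 F)) =
          sc (K.e a) * (Root.T * sc (K.e a)) * Root.T by group, ← sc_comm, mul_assoc, mul_assoc, T_sq, mul_one,
          sc_e_mul] at h'
        have : a + a = 0 := sc_e_inj (K := K) (by rw [h', Root.e_zero, map_one])
        have ha : a = 0 := z3_double a this
        exact hgT (by rw [e, ha, Root.e_zero, map_one, one_mul])
    refine ⟨hk, fun h3 => ?_⟩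
    have hc : chi g * chi g = 1 := by rw [← map_mul, hg2, map_one]
    have hc1 : chi g = 1 := by rw [← h3, pow_succ, pow_two, hc, one_mul]
    have ht := trace_zero (by rw [← map_mul, hg2, map_one]) hk
    have hp2 : psiM (g : GL Z3 F) * psiM (g : GL Z3 F) = 1 := by
      rw [← (psiM_mul g.2).resolve_right (not_not.2 g.2), ← Subgroup.coe_mul, hg2, Subgroup.coe_one]
      exact (psi_val 1).symm.trans (by rw [map_one]; rfl)
    have hd := hM.sl _ (show (g : GL Z3 F) ∈ M from hg)
    rw [det_cen g.2, show chiV (g : GL Z3 F) = 1 by rw [← chi_val, hc1, Units.val_one], mul_one, Matrix.det_fin_two] at hd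
    have e00 := congrFun (congrFun hp2 0) 0
    simp [Matrix.mul_apply, Fin.sum_univ_two] at e00
    exact K.two (by linear_combination -e00 - hd + psiM (g : GL Z3 F) 0 0 * ht)
  obtain ⟨hρ1, hrc⟩ := hout r hr hr2 hr1 hrT
  have hρ2 : pi r * pi r = 1 := by rw [← map_mul, hr2, map_one]
  -- the character on the image
  let H := (CC M).map pi
  have hsec : ∀ x : H, ∃ g ∈ CC M, pi g = x := fun x => Subgroup.mem_map.1 x.2
  choose s hsM hs using hsec
  let f : H →* Fˣ := MonoidHom.mk' (fun x => chi (s x) ^ 3) fun x y => by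
    rw [← mul_pow, ← map_mul]
    exact hM.chi_congr p hp (hsM _) (mul_mem (hsM x) (hsM y)) (by rw [hs, map_mul, hs, hs]; rfl)
  have hf : ∀ (g : ↥(cen : Subgroup (GL Z3 F))) (hg : g ∈ CC M), f ⟨pi g, g, hg, rfl⟩ = chi g ^ 3 := fun g hg =>
    hM.chi_congr p hp (hsM _) hg (hs _)
  set a : H := ⟨pi (cFr K), _, hM.cFr_mem, rfl⟩ with ha
  set b : H := ⟨pi (cFp K), _, hM.cFp_mem, rfl⟩ with hb
  set ρ : H := ⟨pi r, _, hr, rfl⟩ with hρ
  have hfa : f a = 1 := by rw [ha, hf _ hM.cFr_mem, chi_Fr, K.cubeU]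
  have hfb : f b = 1 := by rw [hb, hf _ hM.cFp_mem, chi_Fp, K.cubeU]
  have hfρ : f ρ ≠ 1 := by rw [hρ, hf _ hr]; exact hrc
  have hT : Tor H := by
    refine (hM.shape p hp).resolve_right fun he => ?_
    obtain ⟨g, t, -, h2, h3, h4⟩ := exc_sign he f (r := ρ) (Subtype.ext hρ2) hfρ (a := a) (b := b)
      (Subtype.ext (pi_Fr_sq K)) (Subtype.ext (pi_Fp_sq K)) (fun h => pi_Fr_ne K (congrArg Subtype.val h))
      (fun h => pi_Fp_ne K (congrArg Subtype.val h)) (fun h => pi_Fr_ne_Fp K (congrArg Subtype.val h)) hfa hfb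
    obtain ⟨g0, hg0, e0⟩ := Subgroup.mem_map.1 g.2
    refine hM.cycle_chi p hp hg0 (by rw [e0]; exact congrArg Subtype.val h2)
      (by rw [e0]; exact congrArg Subtype.val h3) ?_
    have h5 : f g = (f g)⁻¹ := by
      rw [← map_inv, ← h4, map_mul, map_mul, map_inv, mul_comm (f t), mul_inv_cancel_right]
    have h6 : f g = chi g0 ^ 3 := by rw [← hf g0 hg0]; congr 1; exact Subtype.ext e0.symm
    rw [h6, eq_inv_iff_mul_eq_one, ← pow_add] at h5
    exact h5
  obtain ⟨B, hBH, hBc, hBu, hBi, hBp⟩ := hT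
  have hzB : ∃ z : H, (z : Matrix.ProjGenLinGroup (Fin 2) F) ∈ B ∧ z * z = 1 ∧ z ≠ 1 ∧ f z = 1 := by
    by_cases h1 : (a : Matrix.ProjGenLinGroup (Fin 2) F) ∈ B
    · exact ⟨a, h1, Subtype.ext (pi_Fr_sq K), fun h => pi_Fr_ne K (congrArg Subtype.val h), hfa⟩
    by_cases h2 : (b : Matrix.ProjGenLinGroup (Fin 2) F) ∈ B
    · exact ⟨b, h2, Subtype.ext (pi_Fp_sq K), fun h => pi_Fp_ne K (congrArg Subtype.val h), hfb⟩
    refine ⟨a * b, hBp _ a.2 _ b.2 h1 h2, Subtype.ext ?_, fun h => ?_, by rw [map_mul, hfa, hfb, one_mul]⟩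
    · show pi (cFr K) * pi (cFp K) * (pi (cFr K) * pi (cFp K)) = 1
      rw [show pi (cFr K) * pi (cFp K) * (pi (cFr K) * pi (cFp K)) = pi (cFr K) * (pi (cFp K) * pi (cFr K)) * pi (cFp K) by
        group, ← pi_comm, ← mul_assoc, pi_Fr_sq, one_mul, pi_Fp_sq]
    · have h' := congrArg Subtype.val h
      rw [Subgroup.coe_mul, Subgroup.coe_one, mul_eq_one_iff_eq_inv, inv_eq_of_mul_eq_one_right (pi_Fp_sq K)] at h'
      exact pi_Fr_ne_Fp K h'
  obtain ⟨z, hzB, hz2, hz1, hfz⟩ := hzB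
  have hinvB : ∀ x : H, x * x = 1 → x ≠ 1 → (x : Matrix.ProjGenLinGroup (Fin 2) F) ∈ B → x = z := fun x h2 h1 hx =>
    Subtype.ext (hBu _ hx _ hzB (congrArg Subtype.val h2) (congrArg Subtype.val hz2)
      (fun e => h1 (Subtype.ext e)) (fun e => hz1 (Subtype.ext e)))
  have hρB : (ρ : Matrix.ProjGenLinGroup (Fin 2) F) ∉ B := fun h =>
    hfρ (by rw [hinvB ρ (Subtype.ext hρ2) (fun e => hρ1 (congrArg Subtype.val e)) h, hfz])
  -- the character has order dividing two on the image
  have hsq : ∀ x : H, f x * f x = 1 := by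
    intro x
    rw [← map_mul]
    by_cases hx : (x : Matrix.ProjGenLinGroup (Fin 2) F) ∈ B
    · have h := (hBi _ ρ.2 hρB).2 _ hx
      have h' : ρ * x * ρ⁻¹ = x⁻¹ := Subtype.ext h
      have h'' : f x = (f x)⁻¹ := by rw [← map_inv, ← h', map_mul, map_mul, map_inv, mul_comm (f ρ), mul_inv_cancel_right]
      rw [map_mul]
      nth_rw 2 [h'']
      rw [mul_inv_cancel]
    · rw [show x * x = 1 from Subtype.ext (hBi _ x.2 hx).1, map_one]
  have h6 : ∀ g ∈ CC M, chi g ^ 6 = 1 := fun g hg => by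
    have := hsq ⟨pi g, g, hg, rfl⟩
    rwa [hf g hg, ← pow_add] at this
  -- two values only
  have hval : ∀ x y : H, f x ≠ 1 → f y ≠ 1 → f (x * y) = 1 := by
    intro x y hx hy
    have hm : ∀ w : H, f w ≠ 1 → ((f w : Fˣ) : F) = -1 := fun w hw =>
      (mul_self_eq_one_iff.1 (show ((f w : Fˣ) : F) * (f w : Fˣ) = 1 by rw [← Units.val_mul, hsq, Units.val_one])).resolve_left
        fun e => hw (Units.ext e)
    refine Units.ext ?_
    rw [map_mul, Units.val_mul, hm x hx, hm y hy, neg_mul_neg, one_mul, Units.val_one]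
  let B' : Subgroup H := B.subgroupOf H
  let P' : Subgroup H := B' ⊓ f.ker
  have hB'i : B'.index = 2 := by
    rw [Subgroup.index_eq_two_iff]
    refine ⟨ρ, fun x => ?_⟩
    by_cases hx : x ∈ B'
    · exact Or.inr ⟨hx, fun h => hρB (by simpa using mul_mem (inv_mem (show (x : Matrix.ProjGenLinGroup (Fin 2) F) ∈ B from hx)) (show ((x * ρ : H) : Matrix.ProjGenLinGroup (Fin 2) F) ∈ B from h))⟩
    · exact Or.inl ⟨hBp _ x.2 _ ρ.2 hx hρB, hx⟩
  -- an element of the abelian part outside the kernel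
  obtain ⟨b0, hb0B, hfb0⟩ : ∃ b0 : H, b0 ∈ B' ∧ f b0 ≠ 1 := by
    obtain ⟨q, hqB, hfq⟩ : ∃ q : H, q ∉ B' ∧ f q = 1 := by
      by_cases h1 : a ∈ B'
      · refine ⟨b, fun h2 => ?_, hfb⟩
        have e1 := hinvB a (Subtype.ext (pi_Fr_sq K)) (fun h => pi_Fr_ne K (congrArg Subtype.val h)) h1
        have e2 := hinvB b (Subtype.ext (pi_Fp_sq K)) (fun h => pi_Fp_ne K (congrArg Subtype.val h)) h2
        exact pi_Fr_ne_Fp K (congrArg Subtype.val (e1.trans e2.symm))
      · exact ⟨a, h1, hfa⟩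
    exact ⟨q * ρ, hBp _ q.2 _ ρ.2 hqB hρB, by rwa [map_mul, hfq, one_mul]⟩
  refine ⟨fun hd => ?_, h6, ?_⟩
  · set d := pi (cDg K) with hddef
    have hdH : ∀ w : H, d * (w : Matrix.ProjGenLinGroup (Fin 2) F) * d⁻¹ ∈ H := by
      rintro ⟨_, g, hg, rfl⟩
      exact ⟨_, hd g hg, by rw [map_mul, map_mul, map_inv]⟩
    have hxx : b0 * b0 ≠ 1 := fun h2 => hfb0 (by
      by_cases h1 : b0 = 1
      · rw [h1, map_one]
      · rw [hinvB b0 h2 h1 hb0B, hfz])
    have hb0' : d * (b0 : Matrix.ProjGenLinGroup (Fin 2) F) * d⁻¹ ∈ B := by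
      by_contra h
      have h2 := (hBi _ (hdH b0) h).1
      rw [show d * (b0 : Matrix.ProjGenLinGroup (Fin 2) F) * d⁻¹ * (d * b0 * d⁻¹) =
        d * (b0 * b0) * d⁻¹ by group, conj_eq_one_iff] at h2
      exact hxx (Subtype.ext h2)
    have hzd : d * (z : Matrix.ProjGenLinGroup (Fin 2) F) * d⁻¹ ∈ B := by
      by_contra h
      have h2 := (hBi _ (hdH z) h).2 _ hb0'
      rw [show d * (z : Matrix.ProjGenLinGroup (Fin 2) F) * d⁻¹ * (d * b0 * d⁻¹) * (d * z * d⁻¹)⁻¹ =
          d * (z * b0 * (z : Matrix.ProjGenLinGroup (Fin 2) F)⁻¹) * d⁻¹ by group,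
        show (z : Matrix.ProjGenLinGroup (Fin 2) F) * b0 = b0 * z from hBc _ hzB _ hb0B,
        mul_inv_cancel_right, eq_inv_iff_mul_eq_one,
        show d * (b0 : Matrix.ProjGenLinGroup (Fin 2) F) * d⁻¹ * (d * b0 * d⁻¹) =
        d * (b0 * b0) * d⁻¹ by group, conj_eq_one_iff] at h2
      exact hxx (Subtype.ext h2)
    have hzfix : d * (z : Matrix.ProjGenLinGroup (Fin 2) F) * d⁻¹ = z := by
      refine congrArg Subtype.val (hinvB ⟨_, hdH z⟩ (Subtype.ext ?_) (fun e => hz1 (Subtype.ext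
        (conj_eq_one_iff.1 (congrArg Subtype.val e)))) hzd)
      show d * (z : Matrix.ProjGenLinGroup (Fin 2) F) * d⁻¹ * (d * z * d⁻¹) = 1
      rw [show d * (z : Matrix.ProjGenLinGroup (Fin 2) F) * d⁻¹ * (d * z * d⁻¹) = d * (z * z) * d⁻¹ by group,
        ← Subgroup.coe_mul, hz2, Subgroup.coe_one, mul_one, mul_inv_cancel]
    by_cases h1 : (a : Matrix.ProjGenLinGroup (Fin 2) F) ∈ B
    · rw [← hinvB a (Subtype.ext (pi_Fr_sq K)) (fun h => pi_Fr_ne K (congrArg Subtype.val h)) h1] at hzfix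
      exact pi_Fr_ne_Fp K ((pi_Fp_eq K).trans hzfix).symm
    by_cases h2 : (b : Matrix.ProjGenLinGroup (Fin 2) F) ∈ B
    · rw [← hinvB b (Subtype.ext (pi_Fp_sq K)) (fun h => pi_Fp_ne K (congrArg Subtype.val h)) h2] at hzfix
      have e := (pi_turn K).symm.trans hzfix
      exact pi_Fr_ne K (mul_eq_right.1 e)
    have hab : (a * b : H) * (a * b) = 1 := Subtype.ext (by
      show pi (cFr K) * pi (cFp K) * (pi (cFr K) * pi (cFp K)) = 1
      rw [show pi (cFr K) * pi (cFp K) * (pi (cFr K) * pi (cFp K)) =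
          pi (cFr K) * (pi (cFp K) * pi (cFr K)) * pi (cFp K) by group, ← pi_comm, ← mul_assoc, pi_Fr_sq, one_mul,
        pi_Fp_sq])
    rw [← hinvB (a * b) hab (fun h => by
      have h' := congrArg Subtype.val h
      rw [Subgroup.coe_mul, Subgroup.coe_one, mul_eq_one_iff_eq_inv, inv_eq_of_mul_eq_one_right (pi_Fp_sq K)] at h'
      exact pi_Fr_ne_Fp K h') (hBp _ a.2 _ b.2 h1 h2)] at hzfix
    refine pi_Fp_ne K (mul_eq_left.1 (hzfix.symm.trans ?_))
    show d * (pi (cFr K) * pi (cFp K)) * d⁻¹ = pi (cFr K)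
    rw [show d * (pi (cFr K) * pi (cFp K)) * d⁻¹ = d * pi (cFr K) * d⁻¹ * (d * pi (cFp K) * d⁻¹) by group,
      ← pi_Fp_eq, pi_turn, ← mul_assoc, ← pi_comm, mul_assoc, pi_Fp_sq, mul_one]
  have hP'i : (f.ker).relIndex B' = 2 := by
    show ((f.ker).subgroupOf B').index = 2
    rw [Subgroup.index_eq_two_iff]
    refine ⟨⟨b0, hb0B⟩, fun x => ?_⟩
    simp only [Subgroup.mem_subgroupOf, MonoidHom.mem_ker, Subgroup.coe_mul]
    by_cases hx : f (x : H) = 1
    · exact Or.inr ⟨hx, by rw [map_mul, hx, one_mul]; exact hfb0⟩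
    · exact Or.inl ⟨hval _ _ hx hfb0, hx⟩
  set n := Nat.card P' with hn
  have hB'card : Nat.card B' = 2 * n := by
    have h1 := ((f.ker).subgroupOf B').card_mul_index
    rw [show ((f.ker).subgroupOf B').index = 2 from hP'i, ← Subgroup.inf_subgroupOf_right,
      Nat.card_congr (Subgroup.subgroupOfEquivOfLe (inf_le_right : f.ker ⊓ B' ≤ B')).toEquiv] at h1
    rw [← h1, inf_comm, mul_comm]
  have hHcard : Nat.card H = 4 * n := by
    rw [← B'.card_mul_index, hB'i, hB'card]; ring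
  have heven : Even n := by
    have h := orderOf_dvd_natCard (⟨z, hzB, hfz⟩ : P')
    rw [orderOf_eq_prime (p := 2) (Subtype.ext (by rw [Subgroup.coe_pow, pow_two]; exact hz2))
      (fun h => hz1 (congrArg Subtype.val h))] at h
    exact even_iff_two_dvd.2 h
  -- the kernel
  let φ : CC M →* Matrix.ProjGenLinGroup (Fin 2) F := pi.comp (CC M).subtype
  have hker : Nat.card φ.ker = 6 := by
    have hmem : ∀ v : Z3 × Bool, (⟨(if v.2 then sc (K.e v.1) * Root.T else sc (K.e v.1) : GL Z3 F), by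
        split_ifs
        exacts [mul_mem (sc_cen _) T_cen, sc_cen _]⟩ : ↥(cen : Subgroup (GL Z3 F))) ∈ CC M := fun v => by
      show (if v.2 then sc (K.e v.1) * Root.T else sc (K.e v.1) : GL Z3 F) ∈ M
      split_ifs
      exacts [mul_mem (hM.sc_mem _) hM.hT, hM.sc_mem _]
    let g : Z3 × Bool → φ.ker := fun v => ⟨⟨_, hmem v⟩, by
      show pi _ = 1
      rw [pi_eq_one_iff]
      obtain ⟨c, bb⟩ := v
      cases bb
      · simp [psiM_sc]
      · simp [(psiM_mul T_cen).resolve_right (not_not.2 (sc_cen (K.e c))), psiM_sc, psiM_T]⟩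
    have hgb : Function.Bijective g := by
      refine ⟨fun v w h => ?_, fun k => ?_⟩
      · have h' := congrArg (fun x : φ.ker => (((x : CC M) : ↥(cen : Subgroup (GL Z3 F))) : GL Z3 F)) h
        obtain ⟨c, bb⟩ := v
        obtain ⟨d, cc⟩ := w
        cases bb <;> cases cc <;> simp only [g, Bool.false_eq_true, if_false, if_true] at h'
        · rw [sc_e_inj (K := K) h']
        · refine absurd ?_ (T_not_sc K (-d + c))
          rw [← sc_e_mul, h', ← mul_assoc, sc_e_mul, neg_add_cancel, Root.e_zero, map_one, one_mul]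
        · refine absurd ?_ (T_not_sc K (-c + d))
          rw [← sc_e_mul, ← h', ← mul_assoc, sc_e_mul, neg_add_cancel, Root.e_zero, map_one, one_mul]
        · rw [sc_e_inj (K := K) (mul_right_cancel h')]
      · obtain ⟨c, e | e⟩ := hM.ker_cases p hp k.1.2 k.2
        · exact ⟨(c, false), Subtype.ext (Subtype.ext (Subtype.ext (by simp [g, ← e])))⟩
        · exact ⟨(c, true), Subtype.ext (Subtype.ext (Subtype.ext (by simp [g, ← e])))⟩
    rw [← Nat.card_eq_of_bijective g hgb, Nat.card_prod, Nat.card_zmod, Nat.card_eq_fintype_card, Fintype.card_bool]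
  have hrange : φ.range = H := by rw [MonoidHom.range_comp, Subgroup.range_subtype]
  have hCC : Nat.card (CC M) = 24 * n := by
    rw [← φ.ker.card_mul_index, hker, Subgroup.index_ker, hrange, hHcard]; ring
  -- which elements square to scalars
  have hSq : ∀ g : CC M, IsSc K (((g : ↥(cen : Subgroup (GL Z3 F))) : GL Z3 F) * (g : ↥(cen : Subgroup (GL Z3 F)))) ↔
      φ g = 1 ∨ (φ g * φ g = 1 ∧ chi (g : ↥(cen : Subgroup (GL Z3 F))) ^ 3 ≠ 1) := by
    intro g
    obtain ⟨g, hg⟩ := g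
    show IsSc K ((g : GL Z3 F) * g) ↔ pi g = 1 ∨ (pi g * pi g = 1 ∧ chi g ^ 3 ≠ 1)
    constructor
    · rintro ⟨c, hc⟩
      have hc' : g * g = ⟨_, sc_cen (K.e c)⟩ := Subtype.ext hc
      by_cases h1 : pi g = 1
      · exact Or.inl h1
      refine Or.inr ⟨?_, fun h3 => ?_⟩
      · rw [← map_mul, hc', pi_eq_one_iff]; simp [psiM_sc]
      · have ht := trace_zero (by rw [← map_mul, hc', pi_eq_one_iff]; simp [psiM_sc]) h1
        have hd := hM.sl _ (show (g : GL Z3 F) ∈ M from hg)
        rw [det_cen g.2, Matrix.det_fin_two] at hd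
        have e00 := congrFun (congrFun (congrArg psiM hc) 0) 0
        rw [(psiM_mul g.2).resolve_right (not_not.2 g.2), psiM_sc] at e00
        simp [Matrix.mul_apply, Fin.sum_univ_two] at e00
        refine neg_ne_cube K (a := -c) ?_ (show chiV (g : GL Z3 F) ^ 3 = 1 by
          rw [← chi_val, ← Units.val_pow_eq_pow_val, h3, Units.val_one])
        rw [K.e_neg, Units.val_inv_eq_inv_val, ← inv_neg]
        refine eq_inv_of_mul_eq_one_left ?_
        linear_combination hd + chiV (g : GL Z3 F) * e00 - psiM (g : GL Z3 F) 0 0 * chiV (g : GL Z3 F) * ht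
    · rintro (h1 | ⟨h2, h3⟩)
      · obtain ⟨c, e | e⟩ := hM.ker_cases p hp hg h1
        · exact ⟨c + c, by rw [e, sc_e_mul]⟩
        · refine ⟨c + c, ?_⟩
          rw [e, show sc (K.e c) * Root.T * (sc (K.e c) * (Root.T : GL Z3 F)) =
            sc (K.e c) * (Root.T * sc (K.e c)) * Root.T by group, ← sc_comm, mul_assoc, mul_assoc, T_sq, mul_one,
            sc_e_mul]
      · have hk : pi (g * g) = 1 := by rw [map_mul, h2]
        obtain ⟨c, e | e⟩ := hM.ker_cases p hp (mul_mem hg hg) hk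
        · exact ⟨c, e⟩
        · exfalso
          have h1 : pi g ≠ 1 := fun h => h3 (hM.chi_ker p hp hg h)
          have ht := trace_zero h2 h1
          have hd := hM.sl _ (show (g : GL Z3 F) ∈ M from hg)
          rw [det_cen g.2, Matrix.det_fin_two] at hd
          have e00 := congrFun (congrFun (congrArg psiM e) 0) 0
          rw [Subgroup.coe_mul, (psiM_mul g.2).resolve_right (not_not.2 g.2),
            (psiM_mul T_cen).resolve_right (not_not.2 (sc_cen _)), psiM_sc, psiM_T] at e00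
          simp [Matrix.mul_apply, Fin.sum_univ_two] at e00
          apply h3
          have hx : chiV (g : GL Z3 F) * (K.e c : F) = 1 := by
            linear_combination hd + chiV (g : GL Z3 F) * e00 - psiM (g : GL Z3 F) 0 0 * chiV (g : GL Z3 F) * ht
          have : chi g = (K.e c)⁻¹ := eq_inv_of_mul_eq_one_left (Units.ext hx)
          rw [this, inv_pow, K.e_cube, inv_one]
  let X : Set H := {x | x * x = 1 ∧ f x ≠ 1}
  have hX : Nat.card X = n := by
    have hout' : ∀ x : X, (x : H) ∉ B' := fun x h => x.2.2 (by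
      rw [hinvB x x.2.1 (fun e => x.2.2 (by rw [e, map_one])) h, hfz])
    rw [hn]
    refine Nat.card_congr
      { toFun := fun x => ⟨ρ * x, hBp _ ρ.2 _ (x : H).2 hρB (hout' x), hval _ _ hfρ x.2.2⟩
        invFun := fun c => ⟨ρ * c, ?_, ?_⟩
        left_inv := fun x => Subtype.ext (by
          show ρ * (ρ * (x : H)) = x
          rw [← mul_assoc, show ρ * ρ = 1 from Subtype.ext hρ2, one_mul])
        right_inv := fun c => Subtype.ext (by
          show ρ * (ρ * (c : H)) = c
          rw [← mul_assoc, show ρ * ρ = 1 from Subtype.ext hρ2, one_mul]) }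
    · have hnot : ((ρ * c : H) : Matrix.ProjGenLinGroup (Fin 2) F) ∉ B := fun h => hρB (by
        simpa using mul_mem h (inv_mem (show ((c : H) : Matrix.ProjGenLinGroup (Fin 2) F) ∈ B from c.2.1)))
      exact Subtype.ext (hBi _ (ρ * c : H).2 hnot).1
    · rw [map_mul, show f (c : H) = 1 from c.2.2, mul_one]; exact hfρ
  refine ⟨⟨n, Nat.card_pos, heven, hCC, ?_⟩, ?_, ?_⟩
  · let S : Set (Matrix.ProjGenLinGroup (Fin 2) F) := insert 1 (Subtype.val '' X)
    have hS : Nat.card S = n + 1 := by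
      rw [Nat.card_coe_set_eq, Set.ncard_insert_of_notMem (by
          rintro ⟨x, hx, e⟩
          exact hx.2 (by rw [show x = 1 from Subtype.ext e, map_one])) (Set.toFinite _),
        Set.ncard_image_of_injective _ Subtype.val_injective, ← Nat.card_coe_set_eq, hX]
    have hc := card_preimage φ S (by
      rw [hrange]
      rintro _ (rfl | ⟨x, -, rfl⟩)
      exacts [one_mem _, x.2])
    rw [hker, hS] at hc
    rw [show 6 * n + 6 = 6 * (n + 1) by ring, ← hc]
    refine Nat.card_congr (Equiv.subtypeEquivRight fun g => ?_)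
    rw [hSq]
    constructor
    · rintro (h | ⟨h2, h3⟩)
      · exact Or.inl h
      · exact Or.inr ⟨⟨φ g, _, g.2, rfl⟩, ⟨Subtype.ext h2, fun e => h3 ((hf _ g.2).symm.trans e)⟩, rfl⟩
    · rintro (h | ⟨x, ⟨hx2, hx3⟩, e⟩)
      · exact Or.inl h
      · refine Or.inr ⟨by rw [← e, ← Subgroup.coe_mul, hx2, Subgroup.coe_one], ?_⟩
        rw [← hf _ g.2]
        exact (show x = ⟨pi g, _, g.2, rfl⟩ from Subtype.ext e) ▸ hx3
  · intro g hg hcomm
    set x : H := ⟨pi g, g, hg, rfl⟩ with hx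
    have hxρ : x * ρ = ρ * x := Subtype.ext (by show pi g * pi r = pi r * pi g; rw [← map_mul, hcomm, map_mul])
    have key : ∀ y : H, y ∈ B' → y * ρ = ρ * y → y = 1 ∨ y = z := by
      intro y hy hc
      by_cases h1 : y = 1
      · exact Or.inl h1
      refine Or.inr (hinvB y ?_ h1 hy)
      have h := (hBi _ ρ.2 hρB).2 _ hy
      have h' : ρ * y * ρ⁻¹ = y⁻¹ := Subtype.ext h
      rw [← hc, mul_inv_cancel_right] at h'
      calc y * y = y * y⁻¹ := by nth_rw 2 [h']
        _ = 1 := mul_inv_cancel y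
    have hnz : ∀ (q : ↥(cen : Subgroup (GL Z3 F))), q * r = r * q → pi q ≠ (z : Matrix.ProjGenLinGroup (Fin 2) F) :=
      fun q hq e => anticommute K.two (g := q) (h := r) (by rw [e, ← Subgroup.coe_mul, hz2, Subgroup.coe_one])
        (fun h => hz1 (Subtype.ext (e.symm.trans h))) hρ2 hρ1
        (fun h => hρB (by show pi r ∈ B; rw [← h, e]; exact hzB)) hq
    have hx01 : x = 1 ∨ x = ρ := by
      by_cases hxB : x ∈ B'
      · rcases key x hxB hxρ with e | e
        · exact Or.inl e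
        · exact absurd (congrArg Subtype.val e) (hnz g hcomm)
      · have hm : x * ρ ∈ B' := hBp _ x.2 _ ρ.2 hxB hρB
        rcases key _ hm (by rw [hxρ, mul_assoc, hxρ, ← mul_assoc]) with e | e
        · exact Or.inr (by rw [eq_inv_of_mul_eq_one_left e, show ρ⁻¹ = ρ from inv_eq_of_mul_eq_one_right (Subtype.ext hρ2)])
        · refine absurd ?_ (hnz (g * r) (by rw [mul_assoc, hr2, mul_one, ← mul_assoc, ← hcomm, mul_assoc, hr2, mul_one]))
          rw [map_mul]
          exact congrArg Subtype.val e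
    refine (hSq ⟨g, hg⟩).2 ?_
    rcases hx01 with e | e
    · exact Or.inl (congrArg Subtype.val e)
    · refine Or.inr ⟨?_, ?_⟩
      · show pi g * pi g = 1
        rw [show pi g = pi r from congrArg Subtype.val e, hρ2]
      · show chi g ^ 3 ≠ 1
        rw [← hf g hg, ← hx, e]
        exact hfρ
  · intro r' hr' hr'2 hr'1 hr'T
    obtain ⟨h'1, h'c⟩ := hout r' hr' hr'2 hr'1 hr'T
    set ρ' : H := ⟨pi r', _, hr', rfl⟩ with hρ'
    have hfρ' : f ρ' ≠ 1 := by rw [hρ', hf _ hr']; exact h'c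
    have hρ'2 : ρ' * ρ' = 1 := Subtype.ext (by show pi r' * pi r' = 1; rw [← map_mul, hr'2, map_one])
    have hρ'B : ρ' ∉ B' := fun h => hfρ' (by
      rw [hinvB ρ' hρ'2 (fun e => h'1 (congrArg Subtype.val e)) h, hfz])
    have hcP : ρ' * ρ ∈ P' := ⟨hBp _ ρ'.2 _ ρ.2 hρ'B hρB, hval _ _ hfρ' hfρ⟩
    -- squares of the abelian part fill the kernel part
    have hcomm : ∀ u v : B', u * v = v * u := fun u v => Subtype.ext (Subtype.ext (hBc _ u.2 _ v.2))
    let sq : B' →* P' := MonoidHom.mk' (fun u => ⟨(u : H) * u, mul_mem u.2 u.2, by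
      show f ((u : H) * u) = 1
      rw [map_mul, hsq]⟩) fun u v => Subtype.ext (by
        show ((u * v : B') : H) * (u * v : B') = (u : H) * u * ((v : H) * v)
        have := congrArg Subtype.val (hcomm v u)
        simp only [Subgroup.coe_mul] at this ⊢
        rw [show (u : H) * v * ((u : H) * v) = (u : H) * ((v : H) * u) * v by group, this]
        group)
    have hsurj : Function.Surjective sq := by
      have h1 := sq.ker.card_mul_index
      rw [Subgroup.index_ker, hB'card] at h1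
      have h2 : Nat.card sq.ker = 2 := by
        have hs2 : (sq.ker : Set B') = {1, ⟨z, hzB⟩} := by
          ext u
          simp only [SetLike.mem_coe, MonoidHom.mem_ker, Set.mem_insert_iff, Set.mem_singleton_iff]
          constructor
          · intro h
            by_cases hu : u = 1
            · exact Or.inl hu
            · exact Or.inr (Subtype.ext (hinvB u (congrArg Subtype.val h) (fun e => hu (Subtype.ext e)) u.2))
          · rintro (rfl | rfl)
            · exact map_one sq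
            · exact Subtype.ext hz2
        rw [← SetLike.coe_sort_coe, hs2, Nat.card_coe_set_eq, Set.ncard_pair fun e => hz1 (congrArg Subtype.val e).symm]
      rw [h2] at h1
      rw [← MonoidHom.range_eq_top]
      exact Subgroup.eq_top_of_card_eq _ (Nat.eq_of_mul_eq_mul_left two_pos h1)
    obtain ⟨v, hv⟩ := hsurj ⟨_, hcP⟩
    obtain ⟨g0, hg0, e0⟩ := Subgroup.mem_map.1 (v : H).2
    have hconj : (v : H) * ρ * (v : H)⁻¹ = ρ' := by
      have h := (hBi _ ρ.2 hρB).2 _ v.2
      have h' : ρ * (v : H) * ρ⁻¹ = (v : H)⁻¹ := Subtype.ext h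
      have hv' : (v : H) * v = ρ' * ρ := congrArg Subtype.val hv
      have hρi : ρ⁻¹ = ρ := inv_eq_of_mul_eq_one_right (Subtype.ext hρ2)
      calc (v : H) * ρ * (v : H)⁻¹ = (v : H) * ρ * (ρ * (v : H) * ρ⁻¹) := by rw [h']
        _ = (v : H) * (ρ * ρ) * v * ρ⁻¹ := by group
        _ = (v : H) * v * ρ⁻¹ := by rw [show ρ * ρ = 1 from Subtype.ext hρ2, mul_one]
        _ = ρ' := by rw [hv', mul_inv_cancel_right]
    obtain ⟨q, hq, eq⟩ := Subgroup.mem_map.1 z.2
    have hqr : pi (q * r * q⁻¹) = pi r := by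
      have h := (hBi _ ρ.2 hρB).2 _ hzB
      have h' : ρ * z * ρ⁻¹ = z⁻¹ := Subtype.ext h
      rw [inv_eq_of_mul_eq_one_right hz2, mul_inv_eq_iff_eq_mul] at h'
      rw [map_mul, map_mul, map_inv, eq, mul_inv_eq_iff_eq_mul]
      exact (congrArg Subtype.val h').symm
    -- lifts of one image differing by the involution
    have lift : ∀ u ∈ CC M, ∀ w ∈ CC M, u * u = 1 → w * w = 1 → pi u = pi w → pi u ≠ 1 →
        w = u ∨ (w : GL Z3 F) = (u : GL Z3 F) * Root.T := by
      intro u hu w hw hu2 hw2 e hne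
      obtain ⟨c, hc⟩ := hM.ker_cases p hp (mul_mem hu hw) (by
        rw [map_mul, ← e, ← map_mul, hu2, map_one])
      have hwuw : (w : GL Z3 F) = (u : GL Z3 F) * ((u * w : ↥(cen : Subgroup (GL Z3 F))) : GL Z3 F) := by
        rw [← Subgroup.coe_mul, ← mul_assoc, hu2, one_mul]
      have hw2' := congrArg (fun x : ↥(cen : Subgroup (GL Z3 F)) => (x : GL Z3 F)) hw2
      have hu2' := congrArg (fun x : ↥(cen : Subgroup (GL Z3 F)) => (x : GL Z3 F)) hu2
      simp only [Subgroup.coe_mul, Subgroup.coe_one] at hw2' hu2'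
      have hTu : Root.T * (u : GL Z3 F) = (u : GL Z3 F) * Root.T := (mem_cen_iff.1 u.2).symm
      have hcc : c + c = 0 := sc_e_inj (K := K) (by
        rw [Root.e_zero, map_one, ← sc_e_mul]
        rcases hc with e' | e' <;> rw [hwuw, e'] at hw2'
        · rw [show (u : GL Z3 F) * sc (K.e c) * ((u : GL Z3 F) * sc (K.e c)) =
            (u : GL Z3 F) * (sc (K.e c) * (u : GL Z3 F)) * sc (K.e c) by group, sc_comm, ← mul_assoc (u : GL Z3 F) (u : GL Z3 F), hu2', one_mul] at hw2'
          exact hw2'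
        · rw [show (u : GL Z3 F) * (sc (K.e c) * Root.T) * ((u : GL Z3 F) * (sc (K.e c) * Root.T)) =
            (u : GL Z3 F) * (sc (K.e c) * (Root.T * (u : GL Z3 F))) * (sc (K.e c) * Root.T) by group, hTu,
            ← mul_assoc (sc (K.e c)), sc_comm (K.e c) (u : GL Z3 F),
            show (u : GL Z3 F) * ((u : GL Z3 F) * sc (K.e c) * Root.T) * (sc (K.e c) * Root.T) =
              ((u : GL Z3 F) * (u : GL Z3 F)) * (sc (K.e c) * (Root.T * sc (K.e c)) * Root.T) by group, hu2', one_mul,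
            ← sc_comm (K.e c) Root.T, mul_assoc, mul_assoc (sc (K.e c)) Root.T, T_sq, mul_one] at hw2'
          exact hw2')
      have hc0 : c = 0 := z3_double c hcc
      subst hc0
      rcases hc with e' | e' <;> rw [e', Root.e_zero, map_one] at hwuw
      · exact Or.inl (Subtype.ext (by rwa [mul_one] at hwuw))
      · exact Or.inr (by rwa [one_mul] at hwuw)
    have h0M : g0 * r * g0⁻¹ ∈ CC M := mul_mem (mul_mem hg0 hr) (inv_mem hg0)
    have e0' : pi (g0 * r * g0⁻¹) = pi r' := by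
      rw [map_mul, map_mul, map_inv, e0]
      exact congrArg Subtype.val hconj
    have h02 : g0 * r * g0⁻¹ * (g0 * r * g0⁻¹) = 1 := by
      rw [show g0 * r * g0⁻¹ * (g0 * r * g0⁻¹) = g0 * (r * r) * g0⁻¹ by group, hr2, mul_one, mul_inv_cancel]
    rcases lift _ h0M _ hr' h02 hr'2 e0' (by rw [e0']; exact h'1) with h | h
    · exact ⟨g0, hg0, h.symm⟩
    · have hq2 : q * r * q⁻¹ * (q * r * q⁻¹) = 1 := by
        rw [show q * r * q⁻¹ * (q * r * q⁻¹) = q * (r * r) * q⁻¹ by group, hr2, mul_one, mul_inv_cancel]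
      refine ⟨g0 * q, mul_mem hg0 hq, ?_⟩
      rcases lift _ hr _ (mul_mem (mul_mem hq hr) (inv_mem hq)) hr2 hq2 hqr.symm hρ1 with h' | h'
      · exfalso
        rw [mul_inv_eq_iff_eq_mul] at h'
        exact anticommute K.two (g := q) (h := r) (by rw [eq, ← Subgroup.coe_mul, hz2, Subgroup.coe_one])
          (fun e => hz1 (Subtype.ext (eq.symm.trans e))) hρ2 hρ1
          (fun e => hρB (by show pi r ∈ B; rw [← e, eq]; exact hzB)) h'
      · refine Subtype.ext ?_
        rw [h, show g0 * q * r * (g0 * q)⁻¹ = g0 * (q * r * q⁻¹) * g0⁻¹ by group]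
        simp only [Subgroup.coe_mul] at h' ⊢
        rw [h', mul_assoc (g0 : GL Z3 F), mul_assoc (g0 : GL Z3 F), mul_assoc, mul_assoc, mul_assoc]
        congr 2
        exact (mem_cen_iff.1 (inv_mem g0.2)).symm

/-- the centraliser data attached to a further involution -/
theorem Over.cent_struct (hM : Over K M) (hp : 5 ≤ p) {r : ↥(cen : Subgroup (GL Z3 F))} (hr : r ∈ CC M)
    (hr2 : r * r = 1) (hr1 : r ≠ 1) (hrT : (r : GL Z3 F) ≠ Root.T) :
    (∀ g ∈ CC M, chi g ^ 6 = 1) ∧
    (∃ n, 0 < n ∧ Even n ∧ Nat.card (CC M) = 24 * n ∧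
      Nat.card {g : CC M // IsSc K (((g : ↥(cen : Subgroup (GL Z3 F))) : GL Z3 F) * (g : ↥(cen : Subgroup (GL Z3 F))))} =
        6 * n + 6) ∧
    (∀ g ∈ CC M, g * r = r * g → IsSc K ((g : GL Z3 F) * g)) ∧
    (∀ r' ∈ CC M, r' * r' = 1 → r' ≠ 1 → (r' : GL Z3 F) ≠ Root.T → ∃ g ∈ CC M, g * r * g⁻¹ = r') :=
  (hM.cent_struct_turn p hp hr hr2 hr1 hrT).2

end Cfsg.Agent.ClassicalMax.Hessian
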