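import Mathlib
import Cfsg.Agent.ClassicalMax.Hessian.Basic
import Cfsg.Agent.ClassicalMax.Hessian.Effect
import Cfsg.Agent.ClassicalMax.Hessian.AbTrivial
import Cfsg.Agent.ClassicalMax.Hessian.Struct
import Cfsg.Agent.Core.PCore
import Cfsg.Agent.Invol.ZStar

/-!
A normal subgroup of odd order containing the group of order 27 is that group; the case of an isolated involution.
-/

set_option autoImplicit false

namespace Cfsg.Agent.ClassicalMax.Hessian

open Matrix SympThree
open scoped MatrixGroups Pointwise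

theorem det_mF : det2 mF = 1 := by decide +kernel

theorem det_mF' : det2 mF' = 1 := by decide +kernel

theorem npw_mF : npw mF 11 = npw mF 3 ∧ npw mF' 11 = npw mF' 3 := by decide +kernel

variable {F : Type*} [Field F] [Finite F] {K : Root F} {M : Subgroup (GL Z3 F)}
variable [NeZero (2 : F)]

theorem Over.Rg_le (hM : Over K M) : Rg K ≤ M := by
  rintro _ ⟨c, a, b, rfl⟩
  exact mul_mem (hM.sc_mem c) (hM.hW a b)

/-- a normal subgroup of odd order containing the group of order 27 -/
theorem Over.odd_normal (hM : Over K M) (O : Subgroup (GL Z3 F)) (hOM : O ≤ M)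
    (hn : ∀ g ∈ M, ∀ x ∈ O, g * x * g⁻¹ ∈ O) (hodd : Odd (Nat.card O)) (hR : Rg K ≤ O) : ∀ g ∈ M, K.Nor g := by
  classical
  haveI : Fact (Nat.Prime 3) := ⟨Nat.prime_three⟩
  have hsl : ∀ g ∈ O, (g : Matrix Z3 Z3 F).det = 1 := fun g hg => hM.sl g (hOM hg)
  -- the normalising elements of O
  have hnor : ∀ g ∈ O, K.Nor g → g ∈ Rg K := by
    intro g hg hgn
    obtain ⟨m, hm, hi⟩ := nor_img K hgn
    have hpow1 : ∀ x ∈ O, ∀ m' : M2, K.Img x m' → det2 m' = 1 → npw m' 3 = m1 := by
      intro x hx m' hi' hm'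
      refine cube_of_odd hm' hodd (img_unique K (g := (1 : GL Z3 F)) ?_ K.img_one)
      have h1 := img_pow K hi' (Nat.card O)
      rwa [show x ^ Nat.card O = 1 by
        have h2 := congrArg Subtype.val (pow_card_eq_one' (x := (⟨x, hx⟩ : O)))
        simp only [Subgroup.coe_pow, Subgroup.coe_one] at h2
        exact h2] at h1
    have h3 := hpow1 g hg m hi hm
    have hm11 : npw m 11 = inv3 m := by
      have h9 : ∀ q, npw m (3 * q) = m1 := by
        intro q
        induction q with
        | zero => rfl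
        | succ q ih => rw [Nat.mul_succ, npw_add, ih, h3, (comp_id _).1]
      rw [show (11 : ℕ) = 3 * 3 + 2 from rfl, npw_add, h9, (comp_id _).2, inv3]
      show comp m (comp m m1) = _
      rw [(comp_id m).1]
    have key : ∀ (y : GL Z3 F) (n : M2), y ∈ M → K.Img y n → det2 n = 1 → npw n 11 = npw n 3 →
        npw (comp m (comp n (comp (inv3 m) (npw n 3)))) 3 = m1 := by
      intro y n hy hyn hn1 hn3
      refine hpow1 (g * (y * g⁻¹ * y⁻¹)) (mul_mem hg (hn y hy _ (inv_mem hg))) _ ?_
        (by simp only [det2_comp, det2_npw hn1, hm, hn1, inv3, one_mul, mul_one])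
      have := hi.mul K ((hyn.mul K (img_inv K hi hm)).mul K (img_inv K hyn hn1))
      rwa [hm11, hn3, comp_assoc'] at this
    have hm1 : m = m1 := q8_turn m hm h3 (key _ mF hM.hFr K.img_Fr det_mF npw_mF.1)
      (key _ mF' hM.hF' (img_Fp K) det_mF' npw_mF.2)
    subst hm1
    exact mem_Rg_of_img K (hsl g hg) hi
  -- a Sylow subgroup
  let R' : Subgroup O := (Rg K).subgroupOf O
  have hR'27 : Nat.card R' = 27 := by
    rw [Nat.card_congr (Subgroup.subgroupOfEquivOfLe hR).toEquiv, card_Rg]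
  have hR'N : ∀ x : O, x ∈ Subgroup.normalizer (R' : Set O) → x ∈ R' := by
    intro x hx
    refine hnor _ x.2 (nor_of_conj K fun y hy => ?_)
    exact ((Subgroup.mem_normalizer_iff.1 hx) ⟨y, hR hy⟩).1 hy
  obtain ⟨P, hP⟩ := (IsPGroup.of_card (p := 3) (n := 3) (G := R') (by rw [hR'27]; norm_num)).exists_le_sylow
  have hPR : (P : Subgroup O) = R' := by
    by_contra hne
    haveI : Group.IsNilpotent (P : Subgroup O) := P.2.isNilpotent
    have hlt : R'.subgroupOf (P : Subgroup O) < ⊤ := lt_top_iff_ne_top.2 fun e => hne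
      (le_antisymm (Subgroup.subgroupOf_eq_top.1 e) hP)
    have h := normalizerCondition_of_isNilpotent (R'.subgroupOf (P : Subgroup O)) hlt
    obtain ⟨x, hx, hxn⟩ := SetLike.exists_of_lt h
    refine hxn (hR'N _ ?_)
    rw [Subgroup.mem_normalizer_iff] at hx ⊢
    intro y
    constructor
    · intro hy
      exact (hx ⟨y, hP hy⟩).1 hy
    · intro hy
      have hy' : y ∈ (P : Subgroup O) := by
        have h1 := mul_mem (mul_mem (inv_mem x.2) (hP hy)) x.2
        simpa [mul_assoc] using h1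
      exact (hx ⟨y, hy'⟩).2 hy
  -- the scalars
  let Z' : Subgroup O := (Subgroup.closure {(sc (K.e 1) : GL Z3 F)}).subgroupOf O
  have hscl : ∀ g ∈ Subgroup.closure {(sc (K.e 1) : GL Z3 F)}, ∃ c, g = sc (K.e c) := by
    intro g hg
    rw [← Subgroup.zpowers_eq_closure, mem_zpowers_iff_mem_range_orderOf] at hg
    simp only [Finset.mem_image] at hg
    obtain ⟨i, -, rfl⟩ := hg
    refine ⟨(i : Z3), ?_⟩
    rw [← map_pow]
    congr 1
    induction i with
    | zero => simp [Root.e_zero]
    | succ i ih => rw [pow_succ, ih, ← K.e_add, Nat.cast_succ]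
  have hscm : ∀ c, (sc (K.e c) : GL Z3 F) ∈ Subgroup.closure {(sc (K.e 1) : GL Z3 F)} := by
    intro c
    have h : ∀ n : ℕ, (sc (K.e (n : Z3)) : GL Z3 F) ∈ Subgroup.closure {(sc (K.e 1) : GL Z3 F)} := by
      intro n
      induction n with
      | zero => rw [Nat.cast_zero, Root.e_zero, map_one]; exact one_mem _
      | succ n ih =>
        rw [Nat.cast_succ, K.e_add, map_mul]
        exact mul_mem ih (Subgroup.mem_closure_singleton_self _)
    have := h c.val
    rwa [ZMod.natCast_zmod_val] at this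
  have hZc : Z' ≤ Subgroup.center O := fun z hz => Subgroup.mem_center_iff.2 fun g => by
    obtain ⟨c, e⟩ := hscl _ hz
    refine Subtype.ext ?_
    show (g : GL Z3 F) * z = z * g
    have e' : ((z : O) : GL Z3 F) = sc (K.e c) := e
    rw [e', sc_comm]
  haveI : Z'.Normal := ⟨fun z hz g => by
    rw [Subgroup.mem_center_iff.1 (hZc hz) g, mul_inv_cancel_right]; exact hz⟩
  have hZR : Z' ≤ R' := fun z hz => by
    obtain ⟨c, e⟩ := hscl _ hz
    exact ⟨c, 0, 0, by rw [K.W_zero, mul_one]; exact e⟩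
  let π := QuotientGroup.mk' Z'
  let E : Sylow 3 (O ⧸ Z') := P.mapSurjective (QuotientGroup.mk'_surjective Z')
  have hE : (E : Subgroup (O ⧸ Z')) = R'.map π := by rw [← hPR]; rfl
  have hcm : ∀ x y : O, x ∈ R' → y ∈ R' → π x * π y = π y * π x := by
    intro x y hx hy
    obtain ⟨c, a, b, ex⟩ := hx
    obtain ⟨c', a', b', ey⟩ := hy
    rw [← map_mul, ← map_mul]
    refine (QuotientGroup.mk'_eq_mk' Z').2 ⟨(x * y)⁻¹ * (y * x), ?_, by group⟩
    show (((x * y)⁻¹ * (y * x) : O) : GL Z3 F) ∈ Subgroup.closure {(sc (K.e 1) : GL Z3 F)}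
    have ex' : ((x : O) : GL Z3 F) = sc (K.e c) * K.W a b := ex
    have ey' : ((y : O) : GL Z3 F) = sc (K.e c') * K.W a' b' := ey
    simp only [Subgroup.coe_mul, Subgroup.coe_inv, ex', ey']
    have h := K.W_comm a' b' a b
    have hh : ∀ (u v : Fˣ) (X Y : GL Z3 F) (w : Fˣ), Y * X = sc w * (X * Y) →
        (sc u * X * (sc v * Y))⁻¹ * (sc v * Y * (sc u * X)) = sc w := by
      intro u v X Y w hw
      have h1 : ∀ (c d : Fˣ) (x y : GL Z3 F), sc c * x * (sc d * y) = sc (c * d) * (x * y) := fun c d x y => by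
        rw [map_mul, mul_assoc, ← mul_assoc x, ← sc_comm d x]; simp only [mul_assoc]
      rw [inv_mul_eq_iff_eq_mul, h1, h1, hw, ← sc_comm]
      simp only [← mul_assoc, ← map_mul]
      congr 3
      simp [mul_comm, mul_left_comm]
    rw [hh _ _ _ _ _ h]
    exact hscm _
  have hEN : Subgroup.normalizer ((E : Subgroup (O ⧸ Z')) : Set (O ⧸ Z')) ≤
      Subgroup.centralizer ((E : Subgroup (O ⧸ Z')) : Set (O ⧸ Z')) := by
    intro q hq
    obtain ⟨g, rfl⟩ := QuotientGroup.mk'_surjective Z' q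
    have hg : g ∈ R' := by
      refine hR'N g (Subgroup.mem_normalizer_iff.2 fun y => ?_)
      have h := Subgroup.mem_normalizer_iff.1 hq (π y)
      rw [hE, ← map_inv, ← map_mul, ← map_mul] at h
      have hcl : ∀ w : O, π w ∈ R'.map π ↔ w ∈ R' := fun w => by
        rw [← Subgroup.mem_comap, Subgroup.comap_map_eq, QuotientGroup.ker_mk', sup_eq_left.2 hZR]
      rwa [hcl, hcl] at h
    rw [Subgroup.mem_centralizer_iff]
    intro y hy
    rw [hE] at hy
    obtain ⟨x, hx, rfl⟩ := hy
    exact hcm x g hx hg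
  let N := (MonoidHom.transferSylow E hEN).ker
  have hN3 : ¬ 3 ∣ Nat.card N := MonoidHom.not_dvd_card_ker_transferSylow E hEN
  let H : Subgroup O := N.comap π
  have hZ3 : Nat.card Z' = 3 := by
    have hord : orderOf (sc (K.e 1) : GL Z3 F) = 3 := orderOf_eq_prime
      (by rw [← map_pow, K.e_cube, map_one])
      (fun h => one_ne_zero (sc_e_inj (K := K) (a := (1 : Z3)) (b := 0) (h.trans (by rw [Root.e_zero, map_one]))))
    rw [Nat.card_congr (Subgroup.subgroupOfEquivOfLe (((Subgroup.closure_le _).2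
      (Set.singleton_subset_iff.2 (hR ⟨1, 0, 0, by rw [K.W_zero, mul_one]⟩))))).toEquiv,
      ← Subgroup.zpowers_eq_closure, Nat.card_zpowers, hord]
  have hHcard : Nat.card H = 3 * Nat.card N := by
    have h1 := H.card_mul_index
    rw [Subgroup.index_comap_of_surjective _ (QuotientGroup.mk'_surjective Z'), Z'.card_eq_card_quotient_mul_card_subgroup,
      ← N.card_mul_index, hZ3] at h1
    refine Nat.eq_of_mul_eq_mul_right (Nat.pos_of_ne_zero Subgroup.index_ne_zero_of_finite) (h1.trans ?_)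
    ring
  haveI : H.Normal := Subgroup.Normal.comap inferInstance _
  -- no further primes
  have hprime : ∀ l : ℕ, l.Prime → l ∣ Nat.card O → l = 3 := by
    intro l hl hdl
    by_contra hl3
    haveI : Fact l.Prime := ⟨hl⟩
    have hlH : ∀ Q : Sylow l O, (Q : Subgroup O) ≤ H := by
      intro Q x hx
      have hx1 : π x ^ N.index ∈ N := Subgroup.pow_index_mem N _
      obtain ⟨j, hj⟩ := Q.2 ⟨x, hx⟩
      have hj' : x ^ l ^ j = 1 := by simpa using congrArg Subtype.val hj
      have hco : Nat.Coprime (l ^ j) N.index := by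
        refine Nat.Coprime.pow_left j ((Nat.Prime.coprime_iff_not_dvd hl).2 fun h => hl3 ?_)
        have hi : N.index = Nat.card (E : Subgroup (O ⧸ Z')) :=
          (MonoidHom.ker_transferSylow_isComplement' E hEN).symm.index_eq_card
        obtain ⟨i, hi'⟩ := IsPGroup.iff_card.1 E.2
        rw [hi, hi'] at h
        exact (Nat.prime_dvd_prime_iff_eq hl Nat.prime_three).1 (hl.dvd_of_dvd_pow h)
      show π x ∈ N
      have h1 : π x ^ l ^ j = 1 := by rw [← map_pow, hj', map_one]
      have := hco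
      obtain ⟨u, v, huv⟩ : ∃ u v : ℤ, (l ^ j : ℕ) * u + (N.index : ℕ) * v = 1 :=
        ⟨_, _, (by have := Nat.gcd_eq_gcd_ab (l ^ j) N.index; rw [hco.gcd_eq_one] at this; exact_mod_cast this.symm)⟩
      rw [← _root_.zpow_one (π x), ← huv, _root_.zpow_add, _root_.zpow_mul, _root_.zpow_mul, zpow_natCast, zpow_natCast, h1, _root_.one_zpow, one_mul]
      exact zpow_mem hx1 v
    have hindex : ∀ Q : Sylow l O, ¬ 3 ∣ (Subgroup.normalizer ((Q : Subgroup O) : Set O)).index := by
      intro Q h3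
      have hsup : Subgroup.normalizer ((Q : Subgroup O) : Set O) ⊔ H = ⊤ := by
        have := Sylow.normalizer_sup_eq_top (Q.subtype (hlH Q))
        simpa [Subgroup.subgroupOf_map_subtype, Sylow.coe_subtype, inf_eq_left.2 (hlH Q)] using this
      have hrel : (Subgroup.normalizer ((Q : Subgroup O) : Set O)).index =
          (Subgroup.normalizer ((Q : Subgroup O) : Set O)).relIndex H := by
        set NL := Subgroup.normalizer ((Q : Subgroup O) : Set O)
        have e0 : H.index = H.relIndex NL := by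
          rw [← Subgroup.relIndex_sup_right (H := NL) (K := H), hsup, Subgroup.relIndex_top_right]
        have e1 := Subgroup.relIndex_mul_index (inf_le_left : NL ⊓ H ≤ NL)
        have e2 := Subgroup.relIndex_mul_index (inf_le_right : NL ⊓ H ≤ H)
        rw [Subgroup.inf_relIndex_left, ← e0] at e1
        rw [Subgroup.inf_relIndex_right, ← e1, mul_comm] at e2
        exact (Nat.eq_of_mul_eq_mul_left (Nat.pos_of_ne_zero Subgroup.index_ne_zero_of_finite) e2).symm
      have hZn : Z'.subgroupOf H ≤ (Subgroup.normalizer ((Q : Subgroup O) : Set O)).subgroupOf H := fun z hz => by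
        refine Subgroup.mem_normalizer_iff.2 fun y => ?_
        show y ∈ _ ↔ (z : O) * y * (z : O)⁻¹ ∈ _
        rw [show (z : O) * y = y * z from ((Subgroup.mem_center_iff.1 (hZc hz)) y).symm, mul_inv_cancel_right]
      have hd := Subgroup.index_dvd_of_le hZn
      have hc := (Z'.subgroupOf H).card_mul_index
      rw [Nat.card_congr (Subgroup.subgroupOfEquivOfLe (fun z hz => show π z ∈ N by
          rw [show π z = 1 from (QuotientGroup.eq_one_iff z).2 hz]; exact one_mem _)).toEquiv, hZ3, hHcard] at hc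
      rw [hrel] at h3
      exact hN3 ((h3.trans hd).trans (dvd_of_eq (Nat.eq_of_mul_eq_mul_left (by norm_num) hc)))
    -- an invariant Sylow subgroup
    obtain ⟨L, hL⟩ : ∃ L : Sylow l O, R' ≤ Subgroup.normalizer ((L : Subgroup O) : Set O) := by
      obtain ⟨L0⟩ := (inferInstance : Nonempty (Sylow l O))
      set NL := Subgroup.normalizer ((L0 : Subgroup O) : Set O)
      obtain ⟨S⟩ := (inferInstance : Nonempty (Sylow 3 NL))
      have hScard : Nat.card ((S : Subgroup NL).map NL.subtype) = 27 := by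
        rw [Subgroup.card_subtype, S.card_eq_multiplicity]
        have hPc : Nat.card (P : Subgroup O) = 27 := by rw [hPR, hR'27]
        rw [P.card_eq_multiplicity] at hPc
        rw [← hPc]
        congr 1
        have h1 := NL.card_mul_index
        rw [← h1, Nat.factorization_mul Nat.card_pos.ne' Subgroup.index_ne_zero_of_finite, Finsupp.add_apply,
          Nat.factorization_eq_zero_of_not_dvd (hindex L0), add_zero]
      obtain ⟨P', hP'⟩ := (IsPGroup.of_card (p := 3) (n := 3) (G := (S : Subgroup NL).map NL.subtype)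
        (by rw [hScard]; norm_num)).exists_le_sylow
      have hP'e : (P' : Subgroup O) = (S : Subgroup NL).map NL.subtype :=
        (Subgroup.eq_of_le_of_card_ge hP' (by
          rw [hScard, P'.card_eq_multiplicity, ← P.card_eq_multiplicity, hPR, hR'27])).symm
      obtain ⟨g, hg⟩ := MulAction.exists_smul_eq O P' P
      refine ⟨g • L0, fun x hx => ?_⟩
      rw [← hPR, ← hg, Sylow.coe_subgroup_smul, Subgroup.mem_pointwise_smul_iff_inv_smul_mem, hP'e] at hx
      obtain ⟨y, -, hy⟩ := hx
      have hy' : g⁻¹ * x * g ∈ NL := by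
        have e : g⁻¹ * x * g = (MulAut.conj g)⁻¹ • x := by simp [MulAut.smul_def]
        rw [e, ← hy]
        exact y.2
      rw [Sylow.coe_subgroup_smul, Subgroup.mem_normalizer_iff]
      intro w
      simp only [Subgroup.mem_pointwise_smul_iff_inv_smul_mem, MulAut.smul_def, MulAut.conj_inv_apply]
      rw [show g⁻¹ * (x * w * x⁻¹) * g = g⁻¹ * x * g * (g⁻¹ * w * g) * (g⁻¹ * x * g)⁻¹ by group]
      exact Subgroup.mem_normalizer_iff.1 hy' _
    -- uniqueness
    have huniq : ∀ L' : Sylow l O, R' ≤ Subgroup.normalizer ((L' : Subgroup O) : Set O) → L' = L := by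
      intro L' hL'
      obtain ⟨x, hx⟩ := MulAction.exists_smul_eq O L L'
      set NL := Subgroup.normalizer ((L' : Subgroup O) : Set O)
      have hx' : (MulAut.conj x • R' : Subgroup O) ≤ NL := by
        intro y hy
        rw [Subgroup.mem_pointwise_smul_iff_inv_smul_mem, MulAut.smul_def, MulAut.conj_inv_apply] at hy
        rw [Subgroup.mem_normalizer_iff, ← hx]
        intro w
        simp only [Sylow.coe_subgroup_smul, Subgroup.mem_pointwise_smul_iff_inv_smul_mem, MulAut.smul_def,
          MulAut.conj_inv_apply]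
        rw [show x⁻¹ * (y * w * y⁻¹) * x = x⁻¹ * y * x * (x⁻¹ * w * x) * (x⁻¹ * y * x)⁻¹ by group]
        exact Subgroup.mem_normalizer_iff.1 (hL hy) _
      have hA : (P : Subgroup O) ≤ NL := hPR ▸ hL'
      have hB : ((x • P : Sylow 3 O) : Subgroup O) ≤ NL := by rw [Sylow.coe_subgroup_smul, hPR]; exact hx'
      obtain ⟨y, hy⟩ := MulAction.exists_smul_eq NL ((x • P : Sylow 3 O).subtype hB) (P.subtype hA)
      have hy' : ((y : O) • (x • P) : Sylow 3 O) = P := by
        have e : ((y : O) • (x • P) : Sylow 3 O).subtype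
            (by
              intro w hw
              rw [Sylow.coe_subgroup_smul, Subgroup.mem_pointwise_smul_iff_inv_smul_mem, MulAut.smul_def,
                MulAut.conj_inv_apply] at hw
              have := mul_mem (mul_mem y.2 (hB hw)) (inv_mem y.2)
              rwa [show (y : O) * ((y : O)⁻¹ * w * y) * (y : O)⁻¹ = w by group] at this) = P.subtype hA := by
          rw [← hy]
          exact (Sylow.smul_subtype hB y).symm
        exact Sylow.subtype_injective e
      have hyx : (y : O) * x ∈ R' := by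
        refine hR'N _ ?_
        rw [← hPR]
        refine Sylow.smul_eq_iff_mem_normalizer.1 ?_
        rw [mul_smul, hy']
      have h1 : ((y : O) * x) • L = L := Sylow.smul_eq_iff_mem_normalizer.2 (hL hyx)
      rw [mul_smul, hx, Sylow.smul_eq_iff_mem_normalizer.2 y.2] at h1
      exact h1
    -- its centre is abelian and normalised
    let L0 : Subgroup (GL Z3 F) := (L : Subgroup O).map O.subtype
    have hL0O : L0 ≤ O := Subgroup.map_subtype_le _
    have hfix : ∀ n ∈ M, (∀ x ∈ Rg K, n⁻¹ * x * n ∈ Rg K) → ∀ w ∈ L0, n * w * n⁻¹ ∈ L0 := by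
      intro n hnM hnR
      let φ : MulAut O :=
        { toFun := fun x => ⟨n * x * n⁻¹, hn n hnM x x.2⟩
          invFun := fun x => ⟨n⁻¹ * x * n, by simpa using hn n⁻¹ (inv_mem hnM) x x.2⟩
          left_inv := fun x => Subtype.ext (by simp [mul_assoc])
          right_inv := fun x => Subtype.ext (by simp [mul_assoc])
          map_mul' := fun x y => Subtype.ext (by simp [mul_assoc]) }
      let L' : Sylow l O := L.mapSurjective (f := φ.toMonoidHom) φ.surjective
      have hL' : L' = L := huniq L' fun x hx => by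
        have h1 : φ.symm x ∈ R' := hnR _ hx
        have h2 : φ (φ.symm x) ∈ Subgroup.normalizer (((L : Subgroup O).map φ.toMonoidHom : Subgroup O) : Set O) :=
          Subgroup.le_normalizer_map φ.toMonoidHom ⟨_, hL h1, rfl⟩
        rwa [φ.apply_symm_apply] at h2
      rintro _ ⟨w, hw, rfl⟩
      refine ⟨φ w, ?_, rfl⟩
      rw [← hL']
      exact ⟨w, hw, rfl⟩
    let A : Subgroup (GL Z3 F) := (Subgroup.center L0).map L0.subtype
    have hmemA : ∀ x, x ∈ A ↔ x ∈ L0 ∧ ∀ w ∈ L0, w * x = x * w := by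
      intro x
      constructor
      · rintro ⟨c, hc, rfl⟩
        exact ⟨c.2, fun w hw => congrArg Subtype.val (Subgroup.mem_center_iff.1 hc ⟨w, hw⟩)⟩
      · rintro ⟨hx, hc⟩
        exact ⟨⟨x, hx⟩, Subgroup.mem_center_iff.2 fun w => Subtype.ext (hc w w.2), rfl⟩
    have hAn : ∀ n ∈ M, (∀ x ∈ Rg K, n⁻¹ * x * n ∈ Rg K) → (∀ x ∈ Rg K, n * x * n⁻¹ ∈ Rg K) →
        ∀ x ∈ A, n * x * n⁻¹ ∈ A := by
      intro n hnM h1 h2 x hx
      rw [hmemA] at hx ⊢
      refine ⟨hfix n hnM h1 x hx.1, fun w hw => ?_⟩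
      have hw' := hfix n⁻¹ (inv_mem hnM) (fun y hy => by simpa using h2 y hy) w hw
      rw [inv_inv] at hw'
      calc w * (n * x * n⁻¹) = n * (n⁻¹ * w * n * x) * n⁻¹ := by group
        _ = n * (x * (n⁻¹ * w * n)) * n⁻¹ := by rw [hx.2 _ hw']
        _ = _ := by group
    have hnorR : ∀ n : GL Z3 F, K.Nor n → (n : Matrix Z3 Z3 F).det = 1 → ∀ x ∈ Rg K, n * x * n⁻¹ ∈ Rg K := by
      intro n hnn _ x hx
      obtain ⟨m, hm, hi⟩ := nor_img K hnn
      obtain ⟨c, a, b, rfl⟩ := hx
      obtain ⟨d, e⟩ := hi a b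
      rw [conj_sc_mul, e, ← mul_assoc, ← map_mul]
      have hd3 : ((K.e c * d : Fˣ) : F) ^ 3 = 1 := by
        have h := congrArg (fun g : GL Z3 F => (g : Matrix Z3 Z3 F).det) e
        rw [det_sc_mul] at h
        simp only [ZMod.card, K.det_W, mul_one, Units.val_mul, Matrix.det_mul] at h
        have hn1 : ((n⁻¹ : GL Z3 F) : Matrix Z3 Z3 F).det * (n : Matrix Z3 Z3 F).det = 1 := by
          rw [← Matrix.det_mul, ← Units.val_mul, inv_mul_cancel, Units.val_one, Matrix.det_one]
        rw [Units.val_mul, mul_pow, ← Units.val_pow_eq_pow_val, K.e_cube, Units.val_one, one_mul, ← h, mul_comm, hn1]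
      obtain ⟨c', hc'⟩ := K.exists_e hd3
      exact ⟨c', _, _, by rw [Units.ext hc']⟩
    have hAnor : ∀ n ∈ M, K.Nor n → ∀ x ∈ A, n * x * n⁻¹ ∈ A := fun n hnM hnn =>
      hAn n hnM (fun x hx => by simpa using hnorR n⁻¹ (K.nor_inv hnn) (hM.sl _ (inv_mem hnM)) x hx)
        (hnorR n hnn (hM.sl _ hnM))
    have hLp : IsPGroup l L0 := L.2.map O.subtype
    have hA3 : ∀ g ∈ A, g ^ 3 = 1 → g = 1 := by
      intro g hg h3
      obtain ⟨j, hj⟩ := hLp ⟨g, ((hmemA g).1 hg).1⟩
      have hj' : g ^ l ^ j = 1 := by simpa using congrArg Subtype.val hj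
      have : g ^ Nat.gcd 3 (l ^ j) = 1 := pow_gcd_eq_one.mpr ⟨h3, hj'⟩
      rwa [show Nat.gcd 3 (l ^ j) = 1 from Nat.Coprime.pow_right j
        ((Nat.coprime_primes Nat.prime_three hl).2 (Ne.symm hl3)), pow_one] at this
    have hAbot := ab_trivial (K := K) A (fun g hg => hsl g (hL0O ((hmemA g).1 hg).1)) hA3
      (fun x hx y hy => ((hmemA y).1 hy).2 x ((hmemA x).1 hx).1)
      (fun a b => hAnor _ (hM.hW a b) (K.nor_W a b)) (hAnor _ hM.hFr K.nor_Fr)
      (hAnor _ hM.hF' (K.nor_mul (K.nor_mul (fun a b => ⟨_, _, _, Dg_conj K a b⟩) K.nor_Fr)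
        (K.nor_inv (fun a b => ⟨_, _, _, Dg_conj K a b⟩))))
    haveI : Nontrivial L0 := by
      rw [← Finite.one_lt_card_iff_nontrivial, Subgroup.card_subtype, L.card_eq_multiplicity]
      exact Nat.one_lt_pow (Nat.Prime.factorization_pos_of_dvd hl Nat.card_pos.ne' hdl).ne' hl.one_lt
    haveI := hLp.center_nontrivial
    rw [Subgroup.map_eq_bot_iff_of_injective _ Subtype.val_injective] at hAbot
    exact (Subgroup.nontrivial_iff_ne_bot _).1 inferInstance hAbot
  -- conclusion
  have hO3 : IsPGroup 3 O := by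
    exact IsPGroup.of_card (Nat.eq_prime_pow_of_unique_prime_dvd Nat.card_pos.ne' fun {d} hd hdd => hprime d hd hdd)
  have hOR : O ≤ Rg K := by
    intro x hx
    have htop : (⊤ : Subgroup O) ≤ P := by
      obtain ⟨Q, hQ⟩ := (hO3.to_subgroup ⊤).exists_le_sylow
      obtain ⟨g, rfl⟩ := MulAction.exists_smul_eq O P Q
      intro y _
      have := hQ (Subgroup.mem_top (g * y * g⁻¹))
      rw [Sylow.coe_subgroup_smul, Subgroup.mem_pointwise_smul_iff_inv_smul_mem] at this
      simpa [MulAut.smul_def, mul_assoc] using this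
    have := htop (Subgroup.mem_top ⟨x, hx⟩)
    rwa [hPR] at this
  exact fun g hg => nor_of_conj K fun x hx => hOR (hn g hg x (hR hx))

/-- an isolated involution -/
theorem Over.isolated (hM : Over K M) (h : ∀ g ∈ M, g * Root.T * g⁻¹ * Root.T = Root.T * (g * Root.T * g⁻¹) → g * Root.T * g⁻¹ = Root.T) :
    ∀ g ∈ M, K.Nor g := by
  classical
  haveI : Fact (Nat.Prime 2) := ⟨Nat.prime_two⟩
  haveI : Finite M := inferInstance
  let t : M := ⟨Root.T, hM.hT⟩
  have ht2 : orderOf t = 2 := orderOf_eq_prime (Subtype.ext (by simp [t, pow_two, T_sq])) fun e =>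
    T_not_sc K 0 (by rw [Root.e_zero, map_one]; exact congrArg Subtype.val e)
  have hiso : Cfsg.IsIsolatedInvolution t := by
    refine ⟨ht2, fun g hg => Subtype.ext ?_⟩
    exact h g g.2 (congrArg Subtype.val hg.eq.symm)
  let O : Subgroup (GL Z3 F) := (Cfsg.oddCore M).map M.subtype
  have hcard : ¬ 2 ∣ Nat.card (Cfsg.oddCore M) := Core.not_dvd_card_pPrimeCore (p := 2) (G := M)
  refine hM.odd_normal O (Subgroup.map_subtype_le _) (fun g hg x hx => ?_) ?_ ?_
  · obtain ⟨y, hy, rfl⟩ := hx
    haveI : (Cfsg.oddCore M).Normal := inferInstance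
    exact ⟨_, Subgroup.Normal.conj_mem inferInstance y hy ⟨g, hg⟩, rfl⟩
  · rw [Subgroup.card_subtype]
    exact Nat.odd_iff.2 (Nat.two_dvd_ne_zero.1 hcard)
  · have hkey : ∀ g : M, t * g * t⁻¹ * g⁻¹ ∈ Cfsg.oddCore M := fun g => Invol.zstar hiso g
    have hW : ∀ a b : Z3, ∃ c : Z3, sc (K.e c) * K.W a b ∈ O := by
      intro a b
      refine ⟨a * b, ⟨_, hkey ⟨K.W a b, hM.hW a b⟩, ?_⟩⟩
      show Root.T * K.W a b * Root.T⁻¹ * (K.W a b)⁻¹ = _
      rw [K.T_conj, K.W_inv, ← mul_assoc, ← sc_comm, mul_assoc, K.W_mul, ← mul_assoc, ← map_mul, ← K.e_add,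
        (show ∀ a b : Z3, -(a * b) + -(-a * -b) = a * b by decide) a b,
        (show ∀ a : Z3, -a + -a = a by decide) a, (show ∀ a : Z3, -a + -a = a by decide) b]
    have hsc : ∀ c, (sc (K.e c) : GL Z3 F) ∈ O := by
      intro c
      obtain ⟨u, hu⟩ := hW c 0
      obtain ⟨v, hv⟩ := hW 0 1
      have h1 := mul_mem (mul_mem hu hv) (inv_mem (mul_mem hv hu))
      have hsm : ∀ (c d : Fˣ) (x y : GL Z3 F), sc c * x * (sc d * y) = sc (c * d) * (x * y) := fun c d x y => by
        rw [map_mul, mul_assoc, ← mul_assoc x, ← sc_comm d x]; simp only [mul_assoc]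
      rw [hsm, hsm, K.W_comm c 0 0 1, mul_one, zero_mul, sub_zero, mul_comm (K.e v), ← mul_assoc, ← map_mul,
        mul_comm _ (K.e c), map_mul, mul_assoc (sc (K.e c)), mul_inv_cancel_right] at h1
      exact h1
    rintro _ ⟨c, a, b, rfl⟩
    obtain ⟨u, hu⟩ := hW a b
    have := mul_mem (hsc (c - u)) hu
    rwa [← mul_assoc, sc_e_mul, sub_add_cancel] at this

end Cfsg.Agent.ClassicalMax.Hessian
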