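import Mathlib
import Cfsg.Agent.ClassicalMax.Hessian.Struct
import Cfsg.Agent.ClassicalMax.Hessian.Odd
import Cfsg.Agent.TwoTransfer.Basic

/-!
The involutions, the normaliser of the group of order 27 and the centralisers of its elements, when the standard
involution is not isolated.
-/

set_option autoImplicit false

namespace Cfsg.Agent.ClassicalMax.Hessian

open Matrix SympThree
open scoped MatrixGroups

variable {F : Type*} [Field F] {K : Root F} {M : Subgroup (GL Z3 F)}
variable [NeZero (2 : F)]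

/-- the situation with a non-isolated involution -/
structure Ctx (K : Root F) (p : ℕ) (M : Subgroup (GL Z3 F)) : Prop where
  ov : Over K M
  five : 5 ≤ p
  good : 7 ≤ p ∨ ∀ g ∈ M, K.Dg 1 * g * (K.Dg 1)⁻¹ ∈ M
  small : ∀ S : Subgroup (GL Z3 F), S ≤ M → IsPGroup p S → Nat.card S ≤ p
  turn : ∃ g ∈ M, g * Root.T * g⁻¹ * Root.T = Root.T * (g * Root.T * g⁻¹) ∧ g * Root.T * g⁻¹ ≠ Root.T

theorem T_ne_one (K : Root F) : (Root.T : GL Z3 F) ≠ 1 := fun h => T_not_sc K 0 (by rw [Root.e_zero, map_one, h])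

theorem not_isSc_W (K : Root F) {a b : Z3} (h : (a, b) ≠ (0, 0)) (c : Z3) : ¬ IsSc K (sc (K.e c) * K.W a b) := by
  rintro ⟨d, e⟩
  have h1 : K.W a b = sc ((K.e c)⁻¹ * K.e d) * K.W 0 0 := by
    rw [K.W_zero, mul_one, map_mul, map_inv, ← e, inv_mul_cancel_left]
  obtain ⟨ha, hb⟩ := K.W_inj h1
  exact h (by rw [ha, hb])

variable {p : ℕ} [Fact p.Prime] [CharP F p] [Fintype F]

/-- the turned involution -/
theorem Ctx.exists_r (hC : Ctx K p M) : ∃ r : ↥(cen : Subgroup (GL Z3 F)), r ∈ CC M ∧ r * r = 1 ∧ r ≠ 1 ∧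
    (r : GL Z3 F) ≠ Root.T ∧ ∃ g ∈ M, g * Root.T * g⁻¹ = (r : GL Z3 F) := by
  obtain ⟨g, hg, hc, hne⟩ := hC.turn
  refine ⟨⟨g * Root.T * g⁻¹, mem_cen_iff.2 hc⟩, mul_mem (mul_mem hg hC.ov.hT) (inv_mem hg), Subtype.ext ?_,
    fun h => T_ne_one K (conj_eq_one_iff.1 (congrArg Subtype.val h)), hne, g, hg, rfl⟩
  show g * Root.T * g⁻¹ * (g * Root.T * g⁻¹) = 1
  rw [show g * Root.T * g⁻¹ * (g * Root.T * g⁻¹) = g * (Root.T * Root.T) * g⁻¹ by group, T_sq, mul_one,
    mul_inv_cancel]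

theorem Ctx.chi6 (hC : Ctx K p M) {g : ↥(cen : Subgroup (GL Z3 F))} (hg : g ∈ CC M) : chi g ^ 6 = 1 := by
  obtain ⟨r, hr, hr2, hr1, hrT, -⟩ := hC.exists_r
  exact (hC.ov.cent_struct p hC.five hr hr2 hr1 hrT).1 g hg

theorem Ctx.two_invol (hC : Ctx K p M) {g s : ↥(cen : Subgroup (GL Z3 F))} (hg : g ∈ CC M) (hs : s ∈ CC M)
    (hs2 : s * s = 1) (hs1 : s ≠ 1) (hsT : (s : GL Z3 F) ≠ Root.T) (hc : g * s = s * g) :
    IsSc K ((g : GL Z3 F) * g) :=
  (hC.ov.cent_struct p hC.five hs hs2 hs1 hsT).2.2.1 g hg hc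

/-- the involutions of the centraliser are conjugate to the standard one -/
theorem Ctx.conj_cen (hC : Ctx K p M) {s : GL Z3 F} (hs : s ∈ M) (hs2 : s * s = 1) (hs1 : s ≠ 1)
    (hc : s * Root.T = Root.T * s) : ∃ g ∈ M, g * Root.T * g⁻¹ = s := by
  by_cases hsT : s = Root.T
  · exact ⟨1, one_mem _, by rw [hsT, one_mul, inv_one, mul_one]⟩
  obtain ⟨r, hr, hr2, hr1, hrT, g0, hg0, e0⟩ := hC.exists_r
  obtain ⟨g, hg, e⟩ := (hC.ov.cent_struct p hC.five hr hr2 hr1 hrT).2.2.2 ⟨s, mem_cen_iff.2 hc⟩ hs (Subtype.ext hs2)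
    (fun h => hs1 (congrArg Subtype.val h)) hsT
  refine ⟨(g : GL Z3 F) * g0, mul_mem hg hg0, ?_⟩
  have e' : (g : GL Z3 F) * (r : GL Z3 F) * (g : GL Z3 F)⁻¹ = s := congrArg Subtype.val e
  rw [← e', ← e0]
  group

/-- all involutions are conjugate -/
theorem Ctx.conj_all (hC : Ctx K p M) {s : GL Z3 F} (hs : s ∈ M) (hs2 : s * s = 1) (hs1 : s ≠ 1) :
    ∃ g ∈ M, g * Root.T * g⁻¹ = s := by
  let t : M := ⟨Root.T, hC.ov.hT⟩
  let u : M := ⟨s, hs⟩
  have ho : ∀ x : M, (x : GL Z3 F) * x = 1 → (x : GL Z3 F) ≠ 1 → orderOf x = 2 := fun x h h1 =>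
    orderOf_eq_prime (Subtype.ext (by rw [Subgroup.coe_pow, pow_two, h, Subgroup.coe_one]))
      (fun e => h1 (congrArg Subtype.val e))
  have ht2 : orderOf t = 2 := ho t T_sq (T_ne_one K)
  have hu2 : orderOf u = 2 := ho u hs2 hs1
  by_cases hcj : IsConj t u
  · obtain ⟨g, hg⟩ := isConj_iff.1 hcj
    exact ⟨g, g.2, congrArg Subtype.val hg⟩
  obtain ⟨m, -, -, hi2, hit, hiu, -, hius, -, -⟩ := TwoTransfer.exists_commuting_involution ht2 hu2 hcj
  set i := (t * u) ^ m
  have hi1 : (i : GL Z3 F) ≠ 1 := fun h => by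
    rw [show i = 1 from Subtype.ext h, orderOf_one] at hi2; norm_num at hi2
  have hii : (i : GL Z3 F) * i = 1 := by
    have h := congrArg Subtype.val (hi2 ▸ pow_orderOf_eq_one i)
    rw [Subgroup.coe_pow, pow_two, Subgroup.coe_one] at h
    exact h
  obtain ⟨g, hg, e⟩ := hC.conj_cen i.2 hii hi1 (congrArg Subtype.val hit.eq)
  obtain ⟨k, hk, ek⟩ := hC.conj_cen (s := g⁻¹ * s * g) (mul_mem (mul_mem (inv_mem hg) hs) hg)
    (by rw [show g⁻¹ * s * g * (g⁻¹ * s * g) = g⁻¹ * (s * s) * g by group, hs2, mul_one, inv_mul_cancel])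
    (fun h => hs1 (by
      have := congrArg (fun x => g * x * g⁻¹) h
      simpa [mul_assoc] using this))
    (by
      have h : (i : GL Z3 F) * s = s * i := congrArg Subtype.val hiu.eq
      rw [← e] at h
      calc g⁻¹ * s * g * Root.T = g⁻¹ * (s * (g * Root.T * g⁻¹)) * g := by group
        _ = g⁻¹ * (g * Root.T * g⁻¹ * s) * g := by rw [h]
        _ = _ := by group)
  refine ⟨g * k, mul_mem hg hk, ?_⟩
  rw [show g * k * Root.T * (g * k)⁻¹ = g * (k * Root.T * k⁻¹) * g⁻¹ by group, ek]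
  group

/-- what commutes with an element of order at least three modulo scalars in the centraliser lies in it -/
theorem Ctx.poly_T (hC : Ctx K p M) {g : ↥(cen : Subgroup (GL Z3 F))} (hg : g ∈ CC M)
    (hns : ¬ IsSc K ((g : GL Z3 F) * g)) {x : GL Z3 F} (hx : x * (g : GL Z3 F) = (g : GL Z3 F) * x) :
    x * Root.T = Root.T * x := by
  have h2 := K.two
  have hc : chi (g * g) ^ 3 = 1 := by
    rw [← pow_two, map_pow, ← pow_mul]
    exact hC.chi6 hg
  obtain ⟨a, ha⟩ := K.exists_e (c := (chi (g * g) : F)) (by rw [← Units.val_pow_eq_pow_val, hc, Units.val_one])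
  set h : ↥(cen : Subgroup (GL Z3 F)) := ⟨sc (K.e (-a)), sc_cen _⟩ * (g * g) with hh
  have hhM : h ∈ CC M := mul_mem (show sc (K.e (-a)) ∈ M from hC.ov.sc_mem _) (mul_mem hg hg)
  have hchi : chiV (h : GL Z3 F) = 1 := by
    rw [← chi_val, hh, map_mul, Units.val_mul, ha, chi_val]
    show chiV (sc (K.e (-a)) : GL Z3 F) * _ = 1
    rw [chiV_sc, ← Units.val_mul, ← K.e_add, neg_add_cancel, Root.eval0]
  have hxh : x * (h : GL Z3 F) = (h : GL Z3 F) * x := by
    show x * (sc (K.e (-a)) * ((g : GL Z3 F) * (g : GL Z3 F))) = sc (K.e (-a)) * ((g : GL Z3 F) * (g : GL Z3 F)) * x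
    rw [← mul_assoc, ← sc_comm, mul_assoc, mul_assoc, ← mul_assoc x, hx, mul_assoc, hx, ← mul_assoc (g : GL Z3 F)]
  have hdet := hC.ov.sl (h : GL Z3 F) hhM
  rw [det_cen h.2, hchi, mul_one, Matrix.det_fin_two] at hdet
  obtain ⟨k1, k2, k3, k4⟩ := cen_shape h.2
  simp only [chiV] at hchi
  simp [psiM] at hdet
  by_cases ht : (h : GL Z3 F).1 0 0 + ((h : GL Z3 F).1 1 1 + (h : GL Z3 F).1 1 2) = 2
  · exfalso
    apply hns
    have hz : ((h : GL Z3 F) : Matrix Z3 Z3 F) * (h : GL Z3 F) = ((h : GL Z3 F) : Matrix Z3 Z3 F) + (h : GL Z3 F) - 1 := by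
      ext z w
      rw [Matrix.mul_apply, sum_z3]
      rcases z3_cases z with rfl | rfl | rfl <;> rcases z3_cases w with rfl | rfl | rfl <;>
        simp +decide [Matrix.one_apply, k1, k2, k3, k4] <;>
        first
          | ring1
          | linear_combination (h : GL Z3 F).1 0 0 * ht - hdet
          | linear_combination (h : GL Z3 F).1 0 1 * ht
          | linear_combination (h : GL Z3 F).1 1 0 * ht
          | (apply mul_left_cancel₀ h2
             linear_combination ((h : GL Z3 F).1 1 1 + (h : GL Z3 F).1 1 2) * ht - hdet +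
               ((h : GL Z3 F).1 1 1 - (h : GL Z3 F).1 1 2 - 1) * hchi)
          | (apply mul_left_cancel₀ h2
             linear_combination ((h : GL Z3 F).1 1 1 + (h : GL Z3 F).1 1 2) * ht - hdet -
               ((h : GL Z3 F).1 1 1 - (h : GL Z3 F).1 1 2 - 1) * hchi)
    have h1 : (h : GL Z3 F) = 1 := hC.ov.nt _ hhM (by
      rw [Matrix.sub_mul, Matrix.mul_sub, Matrix.mul_one, Matrix.one_mul, hz]
      abel)
    refine ⟨a, ?_⟩
    have h1' : sc (K.e (-a)) * ((g : GL Z3 F) * (g : GL Z3 F)) = 1 := h1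
    rw [eq_inv_of_mul_eq_one_right h1', ← map_inv, K.e_neg, inv_inv]
  · set t := (h : GL Z3 F).1 0 0 + ((h : GL Z3 F).1 1 1 + (h : GL Z3 F).1 1 2) with htdef
    have hpoly : (2 : F) • (((h : GL Z3 F) : Matrix Z3 Z3 F) * (h : GL Z3 F) - t • ((h : GL Z3 F) : Matrix Z3 Z3 F) + 1) =
        (2 - t) • (1 + ((Root.T : GL Z3 F) : Matrix Z3 Z3 F)) := by
      ext z w
      simp only [Matrix.smul_apply, Matrix.add_apply, Matrix.sub_apply, Matrix.mul_apply, sum_z3, Root.T_val, smul_eq_mul]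
      rcases z3_cases z with rfl | rfl | rfl <;> rcases z3_cases w with rfl | rfl | rfl <;>
        simp +decide [Matrix.one_apply, k1, k2, k3, k4, htdef] <;>
        first
          | ring1
          | (refine Or.inr ?_; first | ring1 | linear_combination -hdet)
          | linear_combination (-2 : F) * hdet
          | linear_combination (-1 : F) * hdet + ((h : GL Z3 F).1 1 1 - (h : GL Z3 F).1 1 2 + 1 - t) * hchi
          | linear_combination -((-1 : F) * hdet + ((h : GL Z3 F).1 1 1 - (h : GL Z3 F).1 1 2 + 1 - t) * hchi)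
          | linear_combination (-1 : F) * hdet - ((h : GL Z3 F).1 1 1 - (h : GL Z3 F).1 1 2 + 1 - t) * hchi
    have hxm : (x : Matrix Z3 Z3 F) * (h : GL Z3 F) = (h : GL Z3 F) * (x : Matrix Z3 Z3 F) := by
      rw [← Units.val_mul, hxh, Units.val_mul]
    have key : (x : Matrix Z3 Z3 F) * ((2 : F) • (((h : GL Z3 F) : Matrix Z3 Z3 F) * (h : GL Z3 F) -
        t • ((h : GL Z3 F) : Matrix Z3 Z3 F) + 1)) = ((2 : F) • (((h : GL Z3 F) : Matrix Z3 Z3 F) * (h : GL Z3 F) -
        t • ((h : GL Z3 F) : Matrix Z3 Z3 F) + 1)) * (x : Matrix Z3 Z3 F) := by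
      rw [Matrix.mul_smul, Matrix.smul_mul]
      congr 1
      rw [Matrix.mul_add, Matrix.add_mul, Matrix.mul_sub, Matrix.sub_mul, Matrix.mul_smul, Matrix.smul_mul,
        ← Matrix.mul_assoc, hxm, Matrix.mul_assoc, hxm, Matrix.mul_assoc, Matrix.mul_one, Matrix.one_mul]
    rw [hpoly, Matrix.mul_smul, Matrix.smul_mul] at key
    have hne : (2 - t) ≠ 0 := sub_ne_zero.2 (Ne.symm ht)
    have key' := smul_right_injective _ hne key
    rw [Matrix.mul_add, Matrix.add_mul, Matrix.mul_one, Matrix.one_mul, add_right_inj] at key'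
    exact Units.ext (by rw [Units.val_mul, Units.val_mul]; exact key')

/-- an element of order at least three modulo scalars commutes with one involution at most -/
theorem Ctx.unique_invol (hC : Ctx K p M) {g s s' : GL Z3 F} (hg : g ∈ M) (hns : ¬ IsSc K (g * g)) (hs : s ∈ M)
    (hs' : s' ∈ M) (hs2 : s * s = 1) (hs1 : s ≠ 1) (hs'2 : s' * s' = 1) (hs'1 : s' ≠ 1) (hgs : g * s = s * g)
    (hgs' : g * s' = s' * g) : s' = s := by
  obtain ⟨n, hn, e⟩ := hC.conj_all hs hs2 hs1
  have cm : ∀ x y : GL Z3 F, x * y = y * x → n⁻¹ * x * n * (n⁻¹ * y * n) = n⁻¹ * y * n * (n⁻¹ * x * n) := fun x y h => by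
    rw [show n⁻¹ * x * n * (n⁻¹ * y * n) = n⁻¹ * (x * y) * n by group,
      show n⁻¹ * y * n * (n⁻¹ * x * n) = n⁻¹ * (y * x) * n by group, h]
  have hsT : n⁻¹ * s * n = Root.T := by rw [← e]; group
  set g1 := n⁻¹ * g * n with hg1
  set s1 := n⁻¹ * s' * n with hs1'
  have hgT : g1 * Root.T = Root.T * g1 := hsT ▸ cm g s hgs
  have hns1 : ¬ IsSc K (g1 * g1) := by
    rintro ⟨a, ea⟩
    refine hns ⟨a, ?_⟩
    rw [show g * g = n * (g1 * g1) * n⁻¹ by rw [hg1]; group, ea, sc_conj]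
  have hg1s : g1 * s1 = s1 * g1 := cm g s' hgs'
  let g' : ↥(cen : Subgroup (GL Z3 F)) := ⟨g1, mem_cen_iff.2 hgT⟩
  have hg'M : g' ∈ CC M := mul_mem (mul_mem (inv_mem hn) hg) hn
  have hsc := hC.poly_T (g := g') hg'M hns1 (x := s1) hg1s.symm
  by_contra hne
  have hne' : s1 ≠ Root.T := fun h => hne (by
    rw [show s' = n * s1 * n⁻¹ by rw [hs1']; group, h, e])
  exact hns1 (hC.two_invol hg'M (s := ⟨s1, mem_cen_iff.2 hsc⟩) (mul_mem (mul_mem (inv_mem hn) hs') hn)
    (Subtype.ext (by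
      show s1 * s1 = 1
      rw [hs1', show n⁻¹ * s' * n * (n⁻¹ * s' * n) = n⁻¹ * (s' * s') * n by group, hs'2, mul_one, inv_mul_cancel]))
    (fun h => hs'1 (by
      have h' : s1 = 1 := congrArg Subtype.val h
      rw [show s' = n * s1 * n⁻¹ by rw [hs1']; group, h', mul_one, mul_inv_cancel]))
    hne' (Subtype.ext hg1s))

theorem eight_m : ∀ m : M2, det2 m = 1 → npw m 4 = m1 → m = m1 ∨ m = mT ∨ m = mF ∨ m = comp mT mF ∨ m = mF' ∨
    m = comp mT mF' ∨ m = comp mF mF' ∨ m = comp mT (comp mF mF') := by decide +kernel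

/-- the conjugation cycles the frame -/
def turned (n : M2) : Bool :=
  (comp n (comp mF (npw n 11)) == mF' || comp n (comp mF (npw n 11)) == comp mT mF') &&
    (comp n (comp mF' (npw n 11)) == comp mF mF' || comp n (comp mF' (npw n 11)) == comp mT (comp mF mF'))

theorem turn_or_four : ∀ m : M2, (det2 m = 1 ∧ npw m 4 ≠ m1) → ∃ e : Fin 12, turned (npw m e) = true := by
  decide +kernel

theorem comp_T : ∀ m : M2, comp mT m = comp m mT := by decide +kernel

/-- move an element to the centraliser of the involution by the group of order 27 -/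
theorem adjust_cen {g : GL Z3 F} {m : M2} (hd : (g : Matrix Z3 Z3 F).det = 1) (hi : K.Img g m) (hm : det2 m = 1) :
    ∃ a b, K.W a b * g ∈ (cen : Subgroup (GL Z3 F)) := by
  have hk : K.Img (Root.T * g * Root.T⁻¹ * g⁻¹) m1 := by
    have h := ((K.img_T.mul K hi).mul K (img_inv K K.img_T (by decide))).mul K (img_inv K hi hm)
    have e : comp (comp (comp mT m) (npw mT 11)) (npw m 11) = m1 := by
      rw [comp_T m, comp_assoc' m, show comp mT (npw mT 11) = m1 by decide +kernel, (comp_id m).1]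
      exact twelve m hm
    rwa [e] at h
  have hd1 : ∀ (x : GL Z3 F), (x : Matrix Z3 Z3 F).det = 1 → ((x⁻¹ : GL Z3 F) : Matrix Z3 Z3 F).det = 1 := fun x hx => by
    have h1 : ((x⁻¹ : GL Z3 F) : Matrix Z3 Z3 F).det * (x : Matrix Z3 Z3 F).det = 1 := by
      rw [← Matrix.det_mul, ← Units.val_mul, inv_mul_cancel, Units.val_one, Matrix.det_one]
    rwa [hx, mul_one] at h1
  have hkd : ((Root.T * g * Root.T⁻¹ * g⁻¹ : GL Z3 F) : Matrix Z3 Z3 F).det = 1 := by
    simp only [Units.val_mul, Matrix.det_mul, hd, Root.det_T, hd1 g hd, hd1 _ Root.det_T, mul_one]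
  obtain ⟨c, a, b, e⟩ := mem_Rg_of_img K hkd hk
  refine ⟨-a, -b, ?_⟩
  have e1 : Root.T * g = sc (K.e c) * K.W a b * g * Root.T := by
    rw [← e]; group
  have e2 : Root.T * (K.W (-a) (-b) * g) = sc (K.e (-(a * b) + c)) * (K.W (-a) (-b) * g * Root.T) := by
    rw [← mul_assoc, show Root.T * K.W (-a) (-b) = K.W a b * Root.T by
      rw [← mul_inv_eq_iff_eq_mul, K.T_conj, neg_neg, neg_neg], mul_assoc, e1, ← mul_assoc, ← mul_assoc, ← mul_assoc,
      ← sc_comm, mul_assoc (sc (K.e c)), K.W_mul, ← mul_assoc, ← map_mul, ← K.e_add,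
      (show ∀ a b c : Z3, c + -(a * b) = -(a * b) + c ∧ a + a = -a by decide) a b c |>.1,
      (show ∀ a : Z3, a + a = -a by decide) a, (show ∀ a : Z3, a + a = -a by decide) b]
    simp only [mul_assoc]
  set g' := K.W (-a) (-b) * g
  set d : Z3 := -(a * b) + c
  have e3 : g' = sc (K.e (d + d)) * g' := by
    calc g' = Root.T * (Root.T * g') := by rw [← mul_assoc, T_sq, one_mul]
      _ = sc (K.e d) * (Root.T * g' * Root.T) := by
        nth_rewrite 1 [e2]
        rw [← mul_assoc Root.T, ← sc_comm, mul_assoc (sc (K.e d)), ← mul_assoc Root.T g']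
      _ = _ := by rw [e2, mul_assoc, mul_assoc g', T_sq, mul_one, ← mul_assoc, sc_e_mul]
  have h0 : d + d = 0 := sc_e_inj (K := K) (by
    rw [Root.e_zero, map_one]
    exact mul_eq_right.1 e3.symm)
  rw [z3_double d h0, Root.e_zero, map_one, one_mul] at e2
  exact mem_cen_iff.2 e2.symm

theorem Ctx.nor_four (hC : Ctx K p M) {g : GL Z3 F} (hg : g ∈ M) {m : M2} (hi : K.Img g m) (hm : det2 m = 1) :
    npw m 4 = m1 := by
  by_contra h4
  obtain ⟨e, ht⟩ := turn_or_four m ⟨hm, h4⟩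
  simp only [turned, Bool.and_eq_true, Bool.or_eq_true, beq_iff_eq] at ht
  obtain ⟨hx, hy⟩ := ht
  have hge : g ^ (e : ℕ) ∈ M := pow_mem hg _
  have hie := img_pow K hi (e : ℕ)
  have hme := det2_npw hm (e : ℕ)
  obtain ⟨a, b, hcen⟩ := adjust_cen (hC.ov.sl _ hge) hie hme
  set n := npw m e
  set k := K.W a b * g ^ (e : ℕ)
  have hkM : k ∈ M := mul_mem (hC.ov.hW a b) hge
  have hik : K.Img k n := by
    have h := (show K.Img (K.W a b) m1 from fun a' b' => ⟨K.e (a * b' - a' * b), by simp [app, m1, K.W_conj]⟩).mul K hie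
    rwa [(comp_id _).2] at h
  let k' : ↥(cen : Subgroup (GL Z3 F)) := ⟨k, hcen⟩
  -- same effect up to the involution gives the same projective image
  have key : ∀ (u v : ↥(cen : Subgroup (GL Z3 F))) (mu mv : M2), u ∈ CC M → v ∈ CC M → K.Img (u : GL Z3 F) mu →
      K.Img (v : GL Z3 F) mv → det2 mv = 1 → (mu = mv ∨ mu = comp mT mv) → pi u = pi v := by
    intro u v mu mv hu hv hiu hiv hmv hcase
    have hwi := hiu.mul K (img_inv K hiv hmv)
    have hw : u * v⁻¹ ∈ CC M := mul_mem hu (inv_mem hv)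
    have hone : ∀ w : ↥(cen : Subgroup (GL Z3 F)), w ∈ CC M → K.Img (w : GL Z3 F) m1 → pi w = 1 := by
      intro w hwM hw1
      obtain ⟨c, a', b', ew0⟩ := mem_Rg_of_img K (hC.ov.sl _ hwM) hw1
      have ew : (w : GL Z3 F) = sc (K.e c) * K.W a' b' := ew0
      have hh := mem_cen_iff.1 w.2
      rw [ew, mul_assoc, ← mul_assoc Root.T, ← sc_comm (K.e c) Root.T, mul_assoc, mul_right_inj] at hh
      have h3 : K.W a' b' = sc 1 * K.W (-a') (-b') := by
        rw [map_one, one_mul, ← K.T_conj, ← hh, mul_inv_cancel_right]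
      obtain ⟨e1, e2⟩ := K.W_inj h3
      have hz : ∀ x : Z3, x = -x → x = 0 := by decide
      rw [hz a' e1, hz b' e2, K.W_zero, mul_one] at ew
      rw [pi_eq_one_iff, ew]
      simp [psiM_sc]
    have hvm : comp mv (npw mv 11) = m1 := twelve mv hmv
    rcases hcase with e' | e'
    · rw [e', hvm] at hwi
      have := hone _ hw hwi
      rwa [map_mul, map_inv, mul_inv_eq_one] at this
    · rw [e', comp_assoc', hvm, (comp_id mT).1] at hwi
      have h1 := hone (u * v⁻¹ * ⟨_, T_cen⟩) (mul_mem hw hC.ov.cT_mem) (by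
        have := hwi.mul K K.img_T
        rwa [show comp mT mT = m1 by decide] at this)
      rw [map_mul, map_mul, map_inv, show pi (⟨Root.T, T_cen⟩ : ↥(cen : Subgroup (GL Z3 F))) = 1 by
        rw [pi_eq_one_iff]; simp [psiM_T], mul_one, mul_inv_eq_one] at h1
      exact h1
  have hfr : K.Img (cFr K : GL Z3 F) mF := K.img_Fr
  have hfp : K.Img (cFp K : GL Z3 F) mF' := img_Fp K
  have c1 : pi (k' * cFr K * k'⁻¹) = pi (cFp K) := key _ _ _ _ (mul_mem (mul_mem hkM hC.ov.cFr_mem) (inv_mem hkM))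
    hC.ov.cFp_mem ((hik.mul K hfr).mul K (img_inv K hik hme)) hfp det_mF' (by rw [comp_assoc']; exact hx)
  have c2 : pi (k' * cFp K * k'⁻¹) = pi (cFr K * cFp K) := key _ _ _ _
    (mul_mem (mul_mem hkM hC.ov.cFp_mem) (inv_mem hkM)) (mul_mem hC.ov.cFr_mem hC.ov.cFp_mem)
    ((hik.mul K hfp).mul K (img_inv K hik hme)) (hfr.mul K hfp) (by rw [det2_comp, det_mF, det_mF', one_mul])
    (by rw [comp_assoc']; exact hy)
  rw [map_mul, map_mul, map_inv] at c1
  rw [map_mul, map_mul, map_inv, map_mul] at c2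
  exact hC.ov.cycle_chi p hC.five (g := k') hkM c1 c2 (hC.chi6 hkM)

/-- the normalising elements -/
theorem Ctx.nor_cases (hC : Ctx K p M) {g : GL Z3 F} (hg : g ∈ M) (hn : K.Nor g) :
    ∃ m, det2 m = 1 ∧ npw m 4 = m1 ∧ K.Img g m := by
  obtain ⟨m, hm, hi⟩ := nor_img K hn
  exact ⟨m, hm, hC.nor_four hg hi hm, hi⟩

theorem diag_second : ∀ (δ : Z3 → Z3) (b : Z3), ∃ s t : Z3, ∀ z, δ z - δ (z - b) = s * z + t := by decide +kernel

theorem fix_first : ∀ m : M2, (det2 m = 1 ∧ npw m 4 = m1 ∧ app m 1 0 = (1, 0)) → m = m1 := by decide +kernel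

/-- the centraliser of a diagonal element of the group of order 27 -/
theorem Ctx.cent_W10 (hC : Ctx K p M) {g : GL Z3 F} (hg : g ∈ M) (hc : g * K.W 1 0 = K.W 1 0 * g) :
    ∃ c a, g = sc (K.e c) * K.W a 0 := by
  have h2 := K.two
  have hdiag : ∀ z w : Z3, z ≠ w → (g : Matrix Z3 Z3 F) z w = 0 := by
    intro z w hzw
    have h := congrArg (fun x : GL Z3 F => (x : Matrix Z3 Z3 F) z w) hc
    simp only [Units.val_mul, Matrix.mul_apply] at h
    rw [Finset.sum_eq_single w (fun x _ hx => by rw [Root.W_val, if_neg (by simpa using hx), mul_zero]) (by simp),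
      Finset.sum_eq_single z (fun x _ hx => by rw [Root.W_val, if_neg (by simpa using Ne.symm hx), zero_mul]) (by simp),
      Root.W_val, Root.W_val, if_pos (add_zero w).symm, if_pos (add_zero z).symm, one_mul, one_mul] at h
    by_contra h0
    exact hzw (K.e_val_inj (mul_left_cancel₀ h0 (h.trans (mul_comm _ _)))).symm
  let a : Z3 → F := fun z => (g : Matrix Z3 Z3 F) z z
  have hgd : (g : Matrix Z3 Z3 F) = Matrix.diagonal a := by
    ext z w
    rw [Matrix.diagonal_apply]
    split_ifs with h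
    · subst h; rfl
    · exact hdiag z w h
  have ha0 : ∀ z, a z ≠ 0 := fun z h => by
    have hd := hC.ov.sl g hg
    rw [hgd, Matrix.det_diagonal] at hd
    exact one_ne_zero (hd.symm.trans (Finset.prod_eq_zero (Finset.mem_univ z) h))
  -- every shift of the ratios has cube one
  have key : ∀ (x : GL Z3 F) (b : Z3 → F), x ∈ M → (x : Matrix Z3 Z3 F) = Matrix.diagonal b → (∀ z, b z ≠ 0) →
      (b 1 / b 2) ^ 3 = 1 := by
    intro x b hx hxb hb
    set ρ := b 1 / b 2 with hρ
    let u := x * (Root.T * x * Root.T⁻¹)⁻¹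
    have hu : (u : Matrix Z3 Z3 F) = Matrix.diagonal fun z => b z / b (-z) := by
      have h1 : ((Root.T * x * Root.T⁻¹ : GL Z3 F) : Matrix Z3 Z3 F) = Matrix.diagonal fun z => b (-z) := by
        rw [Units.val_mul, Units.val_mul, hxb]
        ext z w
        rw [Matrix.mul_apply, sum_z3]
        show _ + _ + _ = _
        rcases z3_cases z with rfl | rfl | rfl <;> rcases z3_cases w with rfl | rfl | rfl <;>
          simp +decide [Root.T, Matrix.mul_apply, sum_z3, show (-1 : Z3) = 2 by decide, show (-2 : Z3) = 1 by decide]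
      show ((x * (Root.T * x * Root.T⁻¹)⁻¹ : GL Z3 F) : Matrix Z3 Z3 F) = _
      rw [Units.val_mul, Matrix.coe_units_inv, h1, hxb]
      rw [Matrix.inv_eq_right_inv (B := Matrix.diagonal fun z => (b (-z))⁻¹) (by
        rw [Matrix.diagonal_mul_diagonal, ← Matrix.diagonal_one]
        exact congrArg _ (funext fun z => mul_inv_cancel₀ (hb _)))]
      rw [Matrix.diagonal_mul_diagonal]
      exact congrArg _ (funext fun z => (div_eq_mul_inv _ _).symm)
    have huM : u ∈ M := mul_mem hx (inv_mem (mul_mem (mul_mem hC.ov.hT hx) (inv_mem hC.ov.hT)))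
    have shift : ∀ (y : GL Z3 F) (f : Z3 → F) (s : Z3), (y : Matrix Z3 Z3 F) = Matrix.diagonal f →
        ((K.W 0 s * y * (K.W 0 s)⁻¹ : GL Z3 F) : Matrix Z3 Z3 F) = Matrix.diagonal fun z => f (z - s) := by
      intro y f s hy
      have h : (K.W 0 s : Matrix Z3 Z3 F) * y = (Matrix.diagonal fun z => f (z - s)) * K.W 0 s := by
        ext z w
        rw [hy, Matrix.mul_diagonal, Matrix.diagonal_mul, Root.W_val]
        by_cases e : z = w + s
        · rw [if_pos e, e, add_sub_cancel_right, mul_comm]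
        · rw [if_neg e, zero_mul, mul_zero]
      rw [Units.val_mul, Units.val_mul, h, Matrix.mul_assoc, ← Units.val_mul, mul_inv_cancel, Units.val_one,
        Matrix.mul_one]
    let k := (K.W 0 2 * u * (K.W 0 2)⁻¹) * (K.W 0 1 * u * (K.W 0 1)⁻¹)⁻¹
    have hb' := hb
    have hk : (k : Matrix Z3 Z3 F) = Matrix.diagonal fun z => if z = 0 then ρ * ρ else ρ⁻¹ := by
      show (((K.W 0 2 * u * (K.W 0 2)⁻¹) * (K.W 0 1 * u * (K.W 0 1)⁻¹)⁻¹ : GL Z3 F) : Matrix Z3 Z3 F) = _
      rw [Units.val_mul, Matrix.coe_units_inv, shift u _ 2 hu, shift u _ 1 hu]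
      rw [Matrix.inv_eq_right_inv (B := Matrix.diagonal fun z => (b (z - 1) / b (-(z - 1)))⁻¹) (by
        rw [Matrix.diagonal_mul_diagonal, ← Matrix.diagonal_one]
        exact congrArg _ (funext fun z => mul_inv_cancel₀ (div_ne_zero (hb _) (hb _))))]
      rw [Matrix.diagonal_mul_diagonal]
      refine congrArg _ (funext fun z => ?_)
      have e0 := hb 0
      have e1 := hb 1
      have e2 := hb 2
      rcases z3_cases z with rfl | rfl | rfl <;>
        simp only [hρ, show (0 : Z3) - 2 = 1 by decide, show (1 : Z3) - 2 = 2 by decide, show (2 : Z3) - 2 = 0 by decide,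
          show (0 : Z3) - 1 = 2 by decide, show (1 : Z3) - 1 = 0 by decide, show (2 : Z3) - 1 = 1 by decide,
          show -(1 : Z3) = 2 by decide, show -(2 : Z3) = 1 by decide, neg_zero,
          show ((1 : Z3) = 0) = False by simp, show ((2 : Z3) = 0) = False by simp +decide, if_false, if_true] <;>
        field_simp
    have hkM : k ∈ M := mul_mem (mul_mem (mul_mem (hC.ov.hW 0 2) huM) (inv_mem (hC.ov.hW 0 2)))
      (inv_mem (mul_mem (mul_mem (hC.ov.hW 0 1) huM) (inv_mem (hC.ov.hW 0 1))))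
    have hρ0 : ρ ≠ 0 := div_ne_zero (hb 1) (hb 2)
    have hkc : k ∈ (cen : Subgroup (GL Z3 F)) := by
      refine mem_cen_iff.2 (Units.ext (Matrix.ext fun z w => ?_))
      rw [Units.val_mul k, Units.val_mul Root.T k, hk, Matrix.diagonal_mul, Matrix.mul_diagonal, Root.T_val]
      rcases z3_cases z with rfl | rfl | rfl <;> rcases z3_cases w with rfl | rfl | rfl <;> simp +decide [hk]
    have hρ6 : ρ ^ 6 = 1 := by
      have h6 := congrArg (fun v : Fˣ => (v : F)) (hC.chi6 (g := ⟨k, hkc⟩) hkM)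
      simp only [Units.val_pow_eq_pow_val, chi_val, Units.val_one, chiV] at h6
      rw [hk] at h6
      simp +decide [inv_pow] at h6
      exact h6
    by_contra h3
    have hm1 : ρ ^ 3 = -1 := (mul_self_eq_one_iff.1 (show ρ ^ 3 * ρ ^ 3 = 1 by rw [← pow_add]; exact hρ6)).resolve_left h3
    -- two commuting involutions centralising a diagonal element
    have hi : ((u ^ 3 : GL Z3 F) : Matrix Z3 Z3 F) = Matrix.diagonal fun z => if z = 0 then 1 else -1 := by
      rw [Units.val_pow_eq_pow_val, hu, Matrix.diagonal_pow]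
      refine congrArg _ (funext fun z => ?_)
      rcases z3_cases z with rfl | rfl | rfl
      · simp [hb 0]
      · rw [Pi.pow_apply, if_neg (by decide : (1 : Z3) ≠ 0), show -(1 : Z3) = 2 by decide, ← hρ, hm1]
      · rw [Pi.pow_apply, if_neg (by decide : (2 : Z3) ≠ 0), show -(2 : Z3) = 1 by decide,
          show b 2 / b 1 = ρ⁻¹ by rw [hρ, inv_div], inv_pow, hm1, inv_neg, inv_one]
    set i := u ^ 3
    set j := K.W 0 1 * i * (K.W 0 1)⁻¹
    have hj : (j : Matrix Z3 Z3 F) = Matrix.diagonal fun z => if z - 1 = 0 then 1 else -1 := shift i _ 1 hi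
    have hinv : ∀ (x : GL Z3 F) (f : Z3 → Bool), (x : Matrix Z3 Z3 F) = Matrix.diagonal (fun z => if f z then (1 : F) else -1) →
        x * x = 1 := fun x f h => Units.ext (by
      rw [Units.val_mul, h, Matrix.diagonal_mul_diagonal, Units.val_one, ← Matrix.diagonal_one]
      exact congrArg _ (funext fun z => by split_ifs <;> simp))
    have hne : ∀ (x y : GL Z3 F) (f f' : Z3 → F) (z : Z3), (x : Matrix Z3 Z3 F) = Matrix.diagonal f →
        (y : Matrix Z3 Z3 F) = Matrix.diagonal f' → f z ≠ f' z → x ≠ y := by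
      intro x y f f' z h h' hz e
      rw [e, h'] at h
      exact hz (congrFun (Matrix.diagonal_injective h) z).symm
    have hcW : ∀ (x : GL Z3 F) (f : Z3 → F), (x : Matrix Z3 Z3 F) = Matrix.diagonal f →
        K.W 1 0 * x = x * K.W 1 0 := fun x f h => Units.ext (by
      rw [Units.val_mul, Units.val_mul, h]
      ext z w
      rw [Matrix.mul_diagonal, Matrix.diagonal_mul, Root.W_val, add_zero, one_mul]
      by_cases e : z = w
      · rw [if_pos e, e, mul_comm]
      · rw [if_neg e, zero_mul, mul_zero])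
    have h1d : ((1 : GL Z3 F) : Matrix Z3 Z3 F) = Matrix.diagonal fun _ => (1 : F) := by rw [Units.val_one, Matrix.diagonal_one]
    have hm2 : (1 : F) ≠ -1 := fun h => h2 (by linear_combination h)
    have := hC.unique_invol (g := K.W 1 0) (s := i) (s' := j) (hC.ov.hW 1 0) ?_ (pow_mem huM 3)
      (mul_mem (mul_mem (hC.ov.hW 0 1) (pow_mem huM 3)) (inv_mem (hC.ov.hW 0 1)))
      (hinv i (fun z => decide (z = 0)) (by simpa using hi)) (hne i 1 _ _ 1 hi h1d (by simpa using hm2.symm))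
      (hinv j (fun z => decide (z - 1 = 0)) (by simpa using hj)) (hne j 1 _ _ 0 hj h1d (by simpa using hm2.symm))
      (hcW i _ hi) (hcW j _ hj)
    · exact hne j i _ _ 0 hj hi (by simpa using hm2.symm) this
    · rw [K.W_mul]
      exact not_isSc_W K (by decide) _
  -- the diagonal entries are a scalar times cube roots
  have hsh : ∀ s : Z3, ((K.W 0 s * g * (K.W 0 s)⁻¹ : GL Z3 F) : Matrix Z3 Z3 F) = Matrix.diagonal fun z => a (z - s) := by
    intro s
    have h : (K.W 0 s : Matrix Z3 Z3 F) * g = (Matrix.diagonal fun z => a (z - s)) * K.W 0 s := by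
      ext z w
      rw [hgd, Matrix.mul_diagonal, Matrix.diagonal_mul, Root.W_val]
      by_cases e : z = w + s
      · rw [if_pos e, e, add_sub_cancel_right, mul_comm]
      · rw [if_neg e, zero_mul, mul_zero]
    rw [Units.val_mul, Units.val_mul, h, Matrix.mul_assoc, ← Units.val_mul, mul_inv_cancel, Units.val_one,
      Matrix.mul_one]
  have hr := fun s : Z3 => key _ _ (mul_mem (mul_mem (hC.ov.hW 0 s) hg) (inv_mem (hC.ov.hW 0 s))) (hsh s)
    (fun z => ha0 _)
  have r12 := hr 0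
  have r01 := hr 1
  simp only [sub_zero, show (1 : Z3) - 1 = 0 by decide, show (2 : Z3) - 1 = 1 by decide] at r12 r01
  have r10 : (a 1 / a 0) ^ 3 = 1 := by rw [← inv_div, inv_pow, r01, inv_one]
  have r20 : (a 2 / a 0) ^ 3 = 1 := by
    rw [show a 2 / a 0 = (a 1 / a 2)⁻¹ * (a 1 / a 0) by have := ha0 1; have := ha0 2; field_simp, mul_pow, inv_pow,
      r12, r10, inv_one, one_mul]
  obtain ⟨d1, e1⟩ := K.exists_e r10
  obtain ⟨d2, e2⟩ := K.exists_e r20
  let δ : Z3 → Z3 := fun z => if z = 0 then 0 else if z = 1 then d1 else d2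
  have hδ : ∀ z, a z = a 0 * (K.e (δ z) : F) := by
    intro z
    rcases z3_cases z with rfl | rfl | rfl
    · simp [δ, Root.eval0]
    · simp +decide only [δ, if_false, if_true]; rw [← e1, mul_div_cancel₀ _ (ha0 0)]
    · simp +decide only [δ, if_false]; rw [← e2, mul_div_cancel₀ _ (ha0 0)]
  have hnor : K.Nor g := by
    intro x y
    obtain ⟨s, t, hst⟩ := diag_second δ y
    refine ⟨K.e t, x + s, y, ?_⟩
    rw [mul_inv_eq_iff_eq_mul]
    refine Units.ext ?_
    rw [Units.val_mul (sc _ * _), val_sc_mul, Units.val_mul, hgd, Matrix.smul_mul]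
    ext z w
    rw [Matrix.diagonal_mul, Matrix.smul_apply, Matrix.mul_diagonal, smul_eq_mul, Root.W_val, Root.W_val]
    by_cases h : z = w + y
    · rw [if_pos h, if_pos h, hδ z, hδ w, show (x + s) * z = x * z + s * z by ring, K.e_add]
      have hz := hst z
      rw [show z - y = w by rw [h, add_sub_cancel_right]] at hz
      rw [show δ z = s * z + t + δ w by linear_combination hz, K.e_add, K.e_add]
      push_cast
      ring
    · rw [if_neg h, if_neg h, mul_zero, zero_mul, mul_zero]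
  obtain ⟨m, hm, h4, hi⟩ := hC.nor_cases hg hnor
  obtain ⟨c, ec⟩ := hi 1 0
  rw [hc, mul_inv_cancel_right] at ec
  obtain ⟨ea, eb⟩ := K.W_inj ec
  obtain rfl := fix_first m ⟨hm, h4, Prod.ext ea.symm eb.symm⟩
  obtain ⟨c', a', b', e⟩ := mem_Rg_of_img K (hC.ov.sl g hg) hi
  refine ⟨c', a', ?_⟩
  have hb : b' = 0 := by
    by_contra hb
    have h := hdiag b' 0 hb
    rw [e, val_sc_mul, Matrix.smul_apply, Root.W_val, zero_add, if_pos rfl, smul_eq_mul] at h
    exact mul_ne_zero (K.e c').ne_zero (K.e _).ne_zero h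
  rw [e, hb]

end Cfsg.Agent.ClassicalMax.Hessian
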