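import Mathlib
import Cfsg.Agent.ClassicalMax.Hessian.Elements

/-!
The elements of three power order and of characteristic order, when the standard involution is not isolated.
-/

set_option autoImplicit false

namespace Cfsg.Agent.ClassicalMax.Hessian

open Matrix SympThree
open scoped MatrixGroups

variable {F : Type*} [Field F] {K : Root F} {M : Subgroup (GL Z3 F)}
variable [NeZero (2 : F)]

theorem IsSc.conj {g : GL Z3 F} (h : IsSc K g) (x : GL Z3 F) : IsSc K (x * g * x⁻¹) := by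
  obtain ⟨a, rfl⟩ := h
  exact ⟨a, sc_conj _ _⟩

theorem not_isSc_conj {g : GL Z3 F} (h : ¬ IsSc K g) (x : GL Z3 F) : ¬ IsSc K (x * g * x⁻¹) := fun hc => h (by
  have e := hc.conj x⁻¹
  rwa [show x⁻¹ * (x * g * x⁻¹) * x⁻¹⁻¹ = g by group] at e)

theorem sc_e_pow (a : Z3) (n : ℕ) : (sc (K.e a) : GL Z3 F) ^ n = sc (K.e (n * a)) := by
  induction n with
  | zero => simp [Root.e_zero]
  | succ n ih => rw [pow_succ, ih, sc_e_mul, Nat.cast_succ, add_mul, one_mul]

theorem sc_e_cube (a : Z3) : (sc (K.e a) : GL Z3 F) ^ 3 = 1 := by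
  rw [← map_pow, K.e_cube, map_one]

theorem isSc_one : IsSc K (1 : GL Z3 F) := ⟨0, by rw [Root.e_zero, map_one]⟩

theorem IsSc.mul {g h : GL Z3 F} (hg : IsSc K g) (hh : IsSc K h) : IsSc K (g * h) := by
  obtain ⟨a, rfl⟩ := hg
  obtain ⟨b, rfl⟩ := hh
  exact ⟨a + b, sc_e_mul a b⟩

theorem q8_effects : ∀ a b : Z3, (a, b) ≠ (0, 0) → ∃ e0 e1 e2 : Bool,
    app (comp (bif e0 then mT else m1) (comp (bif e1 then mF else m1) (bif e2 then mF' else m1))) 1 0 = (a, b) := by
  decide +kernel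

theorem shift_scalar : ∀ a b d : Z3, (a, b) ≠ (0, 0) → ∃ a' b' : Z3, a' * b - a * b' = d := by decide +kernel

theorem three_power_effect : ∀ m : M2, (det2 m = 1 ∧ npw m 4 = m1 ∧ npw m 3 = m1) → m = m1 := by decide +kernel

variable {p : ℕ} [Fact p.Prime] [CharP F p] [Fintype F]

/-- the elements of the group of order 27 outside the centre form one class -/
theorem Ctx.conj_W10 (hC : Ctx K p M) {x : GL Z3 F} (hx : x ∈ Rg K) (hns : ¬ IsSc K x) :
    ∃ h ∈ M, h * K.W 1 0 * h⁻¹ = x := by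
  obtain ⟨c, a, b, rfl⟩ := hx
  have hab : (a, b) ≠ (0, 0) := by
    intro e
    simp only [Prod.mk.injEq] at e
    obtain ⟨rfl, rfl⟩ := e
    exact hns ⟨c, by rw [K.W_zero, mul_one]⟩
  obtain ⟨e0, e1, e2, he⟩ := q8_effects a b hab
  let h0 : GL Z3 F := (bif e0 then Root.T else 1) *
    ((bif e1 then K.Fr else 1) * (bif e2 then K.Dg 1 * K.Fr * (K.Dg 1)⁻¹ else 1))
  have hM0 : h0 ∈ M := by
    refine mul_mem ?_ (mul_mem ?_ ?_)
    · cases e0 <;> simp [one_mem, hC.ov.hT]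
    · cases e1 <;> simp [one_mem, hC.ov.hFr]
    · cases e2 <;> simp [one_mem, hC.ov.hF']
  have hI0 : K.Img h0 (comp (bif e0 then mT else m1) (comp (bif e1 then mF else m1) (bif e2 then mF' else m1))) := by
    refine Root.Img.mul K ?_ (Root.Img.mul K ?_ ?_)
    · cases e0
      exacts [K.img_one, K.img_T]
    · cases e1
      exacts [K.img_one, K.img_Fr]
    · cases e2
      exacts [K.img_one, img_Fp K]
  obtain ⟨d, hd⟩ := hI0 1 0
  rw [he] at hd
  -- the scalar is a cube root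
  have hd3 : ((d : Fˣ) : F) ^ 3 = 1 := by
    have h := congrArg (fun g : GL Z3 F => (g : Matrix Z3 Z3 F).det) hd
    rw [det_sc_mul] at h
    simp only [ZMod.card, K.det_W, mul_one] at h
    rw [← h]
    exact hC.ov.sl _ (mul_mem (mul_mem hM0 (hC.ov.hW 1 0)) (inv_mem hM0))
  obtain ⟨d', hd'⟩ := K.exists_e hd3
  rw [show d = K.e d' from Units.ext hd'] at hd
  obtain ⟨a', b', hs⟩ := shift_scalar a b (c - d') hab
  refine ⟨K.W a' b' * h0, mul_mem (hC.ov.hW a' b') hM0, ?_⟩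
  rw [show K.W a' b' * h0 * K.W 1 0 * (K.W a' b' * h0)⁻¹ = K.W a' b' * (h0 * K.W 1 0 * h0⁻¹) * (K.W a' b')⁻¹ by group,
    hd, conj_sc_mul, K.W_conj, ← mul_assoc, sc_e_mul, hs, add_sub_cancel]

/-- no three group in the subgroup is larger than the group of order 27 -/
theorem Ctx.three_sylow (hC : Ctx K p M) (P : Subgroup (GL Z3 F)) (hPM : P ≤ M) (hP : IsPGroup 3 P)
    (hRP : Rg K ≤ P) : P = Rg K := by
  classical
  by_contra hne
  haveI : Fact (Nat.Prime 3) := ⟨Nat.prime_three⟩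
  haveI : Group.IsNilpotent P := hP.isNilpotent
  have hlt : (Rg K).subgroupOf P < ⊤ := lt_top_iff_ne_top.2 fun h => hne (le_antisymm (Subgroup.subgroupOf_eq_top.1 h) hRP)
  obtain ⟨g, hg, hgn⟩ := SetLike.exists_of_lt (normalizerCondition_of_isNilpotent _ hlt)
  refine hgn (Subgroup.mem_subgroupOf.2 ?_)
  have hnor : K.Nor (g : GL Z3 F) := nor_of_conj K fun x hx => by
    have := (Subgroup.mem_normalizer_iff.1 hg (⟨x, hRP hx⟩ : P)).1 (Subgroup.mem_subgroupOf.2 hx)
    exact Subgroup.mem_subgroupOf.1 this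
  obtain ⟨m, hm, h4, hi⟩ := hC.nor_cases (hPM g.2) hnor
  obtain ⟨k, hk⟩ := hP g
  have hk' : (g : GL Z3 F) ^ 3 ^ k = 1 := by simpa using congrArg Subtype.val hk
  have hmk : npw m (3 ^ k) = m1 := by
    refine img_unique K (img_pow K hi _) ?_
    rw [hk']
    exact K.img_one
  obtain rfl := three_power_effect m ⟨hm, h4, cube_of_odd hm (Odd.pow (by decide)) hmk⟩
  exact mem_Rg_of_img K (hC.ov.sl _ (hPM g.2)) hi

/-- a nonscalar element of three power order is conjugate to the diagonal generator -/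
theorem Ctx.three_elem (hC : Ctx K p M) {g : GL Z3 F} (hg : g ∈ M) {k : ℕ} (hk : g ^ 3 ^ k = 1)
    (hns : ¬ IsSc K g) : ∃ h ∈ M, h * K.W 1 0 * h⁻¹ = g := by
  classical
  haveI : Fact (Nat.Prime 3) := ⟨Nat.prime_three⟩
  have hRM := hC.ov.Rg_le
  have h27 : IsPGroup 3 ((Rg K).subgroupOf M) := IsPGroup.of_card (n := 3) (by
    rw [Nat.card_congr (Subgroup.subgroupOfEquivOfLe hRM).toEquiv, card_Rg K]; norm_num)
  obtain ⟨P, hP⟩ := h27.exists_le_sylow
  have hPe : (P : Subgroup M).map M.subtype = Rg K := hC.three_sylow _ (Subgroup.map_subtype_le _)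
    (P.2.map M.subtype) fun x hx => ⟨⟨x, hRM hx⟩, hP (Subgroup.mem_subgroupOf.2 hx), rfl⟩
  let u : M := ⟨g, hg⟩
  have hzp : IsPGroup 3 (Subgroup.zpowers u) := IsPGroup.of_card (n := (Nat.card (Subgroup.zpowers u)).factorization 3) (by
    have hord : orderOf u ∣ 3 ^ k := orderOf_dvd_of_pow_eq_one (Subtype.ext (by simpa [u] using hk))
    obtain ⟨j, -, hj⟩ := (Nat.dvd_prime_pow Nat.prime_three).1 hord
    rw [Nat.card_zpowers, hj, Nat.prime_three.factorization_pow, Finsupp.single_eq_same])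
  obtain ⟨Q, hQ⟩ := hzp.exists_le_sylow
  obtain ⟨s, hs⟩ := MulAction.exists_smul_eq M Q P
  have hmem : s * u * s⁻¹ ∈ (P : Subgroup M) := by
    rw [← hs, Sylow.coe_subgroup_smul, Subgroup.mem_pointwise_smul_iff_inv_smul_mem, MulAut.smul_def,
      MulAut.conj_inv_apply]
    rw [show s⁻¹ * (s * u * s⁻¹) * s = u by group]
    exact hQ (Subgroup.mem_zpowers u)
  have hR : (s : GL Z3 F) * g * (s : GL Z3 F)⁻¹ ∈ Rg K := hPe ▸ ⟨_, hmem, rfl⟩
  obtain ⟨h, hh, e⟩ := hC.conj_W10 hR (not_isSc_conj hns _)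
  refine ⟨(s : GL Z3 F)⁻¹ * h, mul_mem (inv_mem s.2) hh, ?_⟩
  rw [show (s : GL Z3 F)⁻¹ * h * K.W 1 0 * ((s : GL Z3 F)⁻¹ * h)⁻¹ = (s : GL Z3 F)⁻¹ * (h * K.W 1 0 * h⁻¹) * s by group, e]
  group

theorem W10_not_sc (K : Root F) : ¬ IsSc K (K.W 1 0) := by
  have := not_isSc_W K (a := 1) (b := 0) (by decide) 0
  rwa [Root.e_zero, map_one, one_mul] at this

theorem W_diag_mul (K : Root F) (a a' : Z3) : K.W a 0 * K.W a' 0 = K.W (a + a') 0 := by
  rw [K.W_mul, mul_zero, neg_zero, Root.e_zero, map_one, one_mul, add_zero]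

theorem W_diag_cube (K : Root F) (a : Z3) : K.W a 0 ^ 3 = 1 := by
  rw [pow_succ, pow_two, W_diag_mul, W_diag_mul, (show ∀ a : Z3, a + a + a = 0 by decide) a, K.W_zero]

theorem W10_cube (K : Root F) : K.W 1 0 ^ 3 = 1 := W_diag_cube K 1

/-- the centraliser of an element of the class -/
theorem Ctx.cent_three (hC : Ctx K p M) {h z : GL Z3 F} (hh : h ∈ M) (hz : z ∈ M)
    (hc : z * (h * K.W 1 0 * h⁻¹) = h * K.W 1 0 * h⁻¹ * z) : ∃ c a, z = h * (sc (K.e c) * K.W a 0) * h⁻¹ := by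
  obtain ⟨c, a, e⟩ := hC.cent_W10 (g := h⁻¹ * z * h) (mul_mem (mul_mem (inv_mem hh) hz) hh) (by
    calc h⁻¹ * z * h * K.W 1 0 = h⁻¹ * (z * (h * K.W 1 0 * h⁻¹)) * h := by group
      _ = h⁻¹ * (h * K.W 1 0 * h⁻¹ * z) * h := by rw [hc]
      _ = _ := by group)
  exact ⟨c, a, by rw [← e]; group⟩

theorem cube_diag (K : Root F) (c a : Z3) : (sc (K.e c) * K.W a 0) ^ 3 = 1 := by
  rw [(show Commute (sc (K.e c)) (K.W a 0) from sc_comm _ _).mul_pow, sc_e_cube, one_mul, W_diag_cube]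

/-- elements commuting with an element of the class have exponent three -/
theorem Ctx.cube_cent_three (hC : Ctx K p M) {h z : GL Z3 F} (hh : h ∈ M) (hz : z ∈ M)
    (hc : z * (h * K.W 1 0 * h⁻¹) = h * K.W 1 0 * h⁻¹ * z) : z ^ 3 = 1 := by
  obtain ⟨c, a, rfl⟩ := hC.cent_three hh hz hc
  rw [conj_pow, cube_diag, mul_one, mul_inv_cancel]

theorem eq_one_of_cube_sq {G : Type*} [Group G] {s : G} (h2 : s * s = 1) (h3 : s ^ 3 = 1) : s = 1 := by
  rwa [pow_succ, pow_two, h2, one_mul] at h3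

/-- no involution centralises an element of the class -/
theorem Ctx.three_no_invol (hC : Ctx K p M) {h s : GL Z3 F} (hh : h ∈ M) (hs : s ∈ M) (hs2 : s * s = 1)
    (hs1 : s ≠ 1) : s * (h * K.W 1 0 * h⁻¹) ≠ h * K.W 1 0 * h⁻¹ * s :=
  fun hc => hs1 (eq_one_of_cube_sq hs2 (hC.cube_cent_three hh hs hc))

/-- three does not divide the parameter of the centraliser -/
theorem Ctx.not_three_dvd (hC : Ctx K p M) : ¬ 9 ∣ Nat.card (CC M) := by
  classical
  haveI : Fact (Nat.Prime 3) := ⟨Nat.prime_three⟩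
  intro h9
  obtain ⟨P, hP⟩ := Sylow.exists_subgroup_card_pow_prime (G := CC M) 3 (n := 2) (by simpa using h9)
  obtain ⟨u, hu, hns⟩ : ∃ u ∈ P, ¬ IsSc K (((u : CC M) : ↥(cen : Subgroup (GL Z3 F))) : GL Z3 F) := by
    by_contra hall
    push Not at hall
    choose f hf using hall
    have hinj : Function.Injective fun u : P => f u.1 u.2 := fun u v e => by
      refine Subtype.ext (Subtype.ext (Subtype.ext ?_))
      exact (hf u.1 u.2).trans ((congrArg (fun z => (sc (K.e z) : GL Z3 F)) e).trans (hf v.1 v.2).symm)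
    have := Nat.card_le_card_of_injective _ hinj
    rw [hP, Nat.card_zmod] at this
    norm_num at this
  have h2 : (⟨u, hu⟩ : P) ^ 3 ^ 2 = 1 := by rw [← hP]; exact pow_card_eq_one'
  have h2' : (((u : CC M) : ↥(cen : Subgroup (GL Z3 F))) : GL Z3 F) ^ 3 ^ 2 = 1 := by
    simpa using congrArg (fun w : P => ((((w : CC M)) : ↥(cen : Subgroup (GL Z3 F))) : GL Z3 F)) h2
  obtain ⟨h, hh, e⟩ := hC.three_elem u.2 h2' hns
  refine hC.three_no_invol hh hC.ov.hT T_sq (T_ne_one K) ?_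
  rw [e]
  exact (mem_cen_iff.1 (u : ↥(cen : Subgroup (GL Z3 F))).2).symm

/-- a unipotent element with one block: its centraliser consists of polynomials -/
theorem regular_unip {y : GL Z3 F} (hyp : y ^ p = 1)
    (hN2 : ((y : Matrix Z3 Z3 F) - 1) * ((y : Matrix Z3 Z3 F) - 1) ≠ 0) :
    ((y : Matrix Z3 Z3 F) - 1) ^ 3 = 0 ∧ ∀ x : GL Z3 F, x * y = y * x → ∃ a b c : F,
      (x : Matrix Z3 Z3 F) = a • 1 + b • ((y : Matrix Z3 Z3 F) - 1) +
        c • (((y : Matrix Z3 Z3 F) - 1) * ((y : Matrix Z3 Z3 F) - 1)) := by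
  classical
  have hp := (Fact.out : p.Prime)
  set N : Matrix Z3 Z3 F := (y : Matrix Z3 Z3 F) - 1 with hN
  have hNp : N ^ p = 0 := by
    rw [hN, sub_pow_char_of_commute p (Commute.one_right _), one_pow, ← Units.val_pow_eq_pow_val, hyp, Units.val_one,
      sub_self]
  obtain ⟨v, hv⟩ : ∃ v : Z3 → F, (N * N) *ᵥ v ≠ 0 := by
    by_contra hall
    push Not at hall
    exact hN2 (Matrix.ext_of_mulVec_single fun i => by rw [hall, Matrix.zero_mulVec])
  have hkv : ∃ k, (N ^ (k + 2)) *ᵥ v ≠ 0 ∧ (N ^ (k + 3)) *ᵥ v = 0 := by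
    by_contra hall
    push Not at hall
    have : ∀ k, (N ^ (k + 2)) *ᵥ v ≠ 0 := fun k => by
      induction k with
      | zero => rwa [zero_add, pow_two]
      | succ k ih => exact hall k ih
    exact this (p - 2) (by rw [Nat.sub_add_cancel hp.two_le, hNp, Matrix.zero_mulVec])
  let bv : Fin 3 → (Z3 → F) := ![v, N *ᵥ v, (N * N) *ᵥ v]
  have hli : LinearIndependent F bv := by
    rw [Fintype.linearIndependent_iff]
    intro c hsum
    simp only [bv, Fin.sum_univ_three, Matrix.cons_val_zero, Matrix.cons_val_one, Matrix.cons_val] at hsum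
    obtain ⟨k, hk, hk'⟩ := hkv
    have hz : ∀ j, 3 ≤ j → (N ^ (k + j)) *ᵥ v = 0 := fun j hj => by
      rw [show k + j = (j - 3) + (k + 3) by omega, pow_add, ← Matrix.mulVec_mulVec, hk', Matrix.mulVec_zero]
    have hmul : ∀ j, (N ^ j) *ᵥ (c 0 • v + c 1 • N *ᵥ v + c 2 • (N * N) *ᵥ v) =
        c 0 • (N ^ j) *ᵥ v + c 1 • (N ^ (j + 1)) *ᵥ v + c 2 • (N ^ (j + 2)) *ᵥ v := fun j => by
      simp only [Matrix.mulVec_add, Matrix.mulVec_smul, Matrix.mulVec_mulVec, ← pow_succ, ← pow_two, ← pow_add]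
    have e2 := hmul (k + 2)
    rw [hsum, Matrix.mulVec_zero, hz 3 le_rfl, hz 4 (by norm_num), smul_zero, smul_zero, add_zero, add_zero] at e2
    have c0 : c 0 = 0 := (smul_eq_zero.1 e2.symm).resolve_right hk
    have e1 := hmul (k + 1)
    rw [hsum, Matrix.mulVec_zero, hz 3 le_rfl, c0, zero_smul, zero_add, smul_zero, add_zero] at e1
    have c1 : c 1 = 0 := (smul_eq_zero.1 e1.symm).resolve_right hk
    have e0 := hmul k
    rw [hsum, Matrix.mulVec_zero, c0, c1, zero_smul, zero_smul, zero_add, zero_add] at e0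
    have c2 : c 2 = 0 := (smul_eq_zero.1 e0.symm).resolve_right hk
    intro i
    fin_cases i
    exacts [c0, c1, c2]
  have hspan : ∀ w : Z3 → F, w ∈ Submodule.span F (Set.range bv) := fun w => by
    rw [hli.span_eq_top_of_card_eq_finrank (by simp)]
    exact Submodule.mem_top
  -- everything that commutes is a polynomial
  have hN3 : N ^ 3 = 0 := by
    obtain ⟨f, hf⟩ := (Submodule.mem_span_range_iff_exists_fun F).1 (hspan ((N ^ 3) *ᵥ v))
    simp only [bv, Fin.sum_univ_three, Matrix.cons_val_zero, Matrix.cons_val_one, Matrix.cons_val] at hf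
    obtain ⟨k, hk, hk'⟩ : ∃ k, (N ^ (k + 2)) *ᵥ v ≠ 0 ∧ (N ^ (k + 3)) *ᵥ v = 0 := hkv
    have hz : ∀ j, 3 ≤ j → (N ^ (k + j)) *ᵥ v = 0 := fun j hj => by
      rw [show k + j = (j - 3) + (k + 3) by omega, pow_add, ← Matrix.mulVec_mulVec, hk', Matrix.mulVec_zero]
    have hmul : ∀ j, (N ^ j) *ᵥ ((N ^ 3) *ᵥ v) =
        f 0 • (N ^ j) *ᵥ v + f 1 • (N ^ (j + 1)) *ᵥ v + f 2 • (N ^ (j + 2)) *ᵥ v := fun j => by
      rw [← hf]
      simp only [Matrix.mulVec_add, Matrix.mulVec_smul, Matrix.mulVec_mulVec, ← pow_succ, ← pow_two, ← pow_add]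
    have e2 := hmul (k + 2)
    rw [Matrix.mulVec_mulVec, ← pow_add, show k + 2 + 3 = k + 5 by omega, hz 5 (by norm_num), hz 3 le_rfl,
      hz 4 (by norm_num), smul_zero, smul_zero, add_zero, add_zero] at e2
    have c0 : f 0 = 0 := (smul_eq_zero.1 e2.symm).resolve_right hk
    have e1 := hmul (k + 1)
    rw [Matrix.mulVec_mulVec, ← pow_add, show k + 1 + 3 = k + 4 by omega, hz 4 (by norm_num), hz 3 le_rfl, c0,
      zero_smul, zero_add, smul_zero, add_zero] at e1
    have c1 : f 1 = 0 := (smul_eq_zero.1 e1.symm).resolve_right hk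
    have e0 := hmul k
    rw [Matrix.mulVec_mulVec, ← pow_add, hz 3 le_rfl, c0, c1, zero_smul, zero_smul, zero_add, zero_add] at e0
    have c2 : f 2 = 0 := (smul_eq_zero.1 e0.symm).resolve_right hk
    have hv3 : (N ^ 3) *ᵥ v = 0 := by rw [← hf, c0, c1, c2, zero_smul, zero_smul, zero_smul, add_zero, add_zero]
    refine Matrix.ext_iff_mulVec.2 fun w => ?_
    rw [Matrix.zero_mulVec]
    have hle : Submodule.span F (Set.range bv) ≤ LinearMap.ker (N ^ 3).mulVecLin := by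
      rw [Submodule.span_le]
      rintro _ ⟨i, rfl⟩
      show (N ^ 3) *ᵥ bv i = 0
      fin_cases i
      · exact hv3
      · show (N ^ 3) *ᵥ (N *ᵥ v) = 0
        rw [Matrix.mulVec_mulVec, ← pow_succ, pow_succ', ← Matrix.mulVec_mulVec, hv3, Matrix.mulVec_zero]
      · show (N ^ 3) *ᵥ ((N * N) *ᵥ v) = 0
        rw [Matrix.mulVec_mulVec, ← pow_two, ← pow_add, add_comm, pow_add, ← Matrix.mulVec_mulVec, hv3, Matrix.mulVec_zero]
    exact hle (hspan w)
  have hpoly : ∀ x : GL Z3 F, x * y = y * x → ∃ a b c : F, (x : Matrix Z3 Z3 F) = a • 1 + b • N + c • (N * N) := by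
    intro x hx
    have hxN : (x : Matrix Z3 Z3 F) * N = N * x := by
      rw [hN, Matrix.mul_sub, Matrix.sub_mul, Matrix.mul_one, Matrix.one_mul, ← Units.val_mul, ← Units.val_mul, hx]
    obtain ⟨f, hf⟩ := (Submodule.mem_span_range_iff_exists_fun F).1 (hspan ((x : Matrix Z3 Z3 F) *ᵥ v))
    simp only [bv, Fin.sum_univ_three, Matrix.cons_val_zero, Matrix.cons_val_one, Matrix.cons_val] at hf
    set P : Matrix Z3 Z3 F := f 0 • 1 + f 1 • N + f 2 • (N * N) with hP
    refine ⟨f 0, f 1, f 2, ?_⟩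
    have hPN : P * N = N * P := by
      simp only [hP, Matrix.add_mul, Matrix.mul_add, Matrix.smul_mul, Matrix.mul_smul, Matrix.one_mul, Matrix.mul_one,
        Matrix.mul_assoc]
    have hv0 : (x : Matrix Z3 Z3 F) *ᵥ v = P *ᵥ v := by
      rw [← hf, hP, Matrix.add_mulVec, Matrix.add_mulVec, Matrix.smul_mulVec, Matrix.smul_mulVec,
        Matrix.smul_mulVec, Matrix.one_mulVec]
    have hv1 : (x : Matrix Z3 Z3 F) *ᵥ (N *ᵥ v) = P *ᵥ (N *ᵥ v) := by
      rw [Matrix.mulVec_mulVec, hxN, ← Matrix.mulVec_mulVec, hv0, Matrix.mulVec_mulVec, ← hPN, Matrix.mulVec_mulVec]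
    have hv2 : (x : Matrix Z3 Z3 F) *ᵥ ((N * N) *ᵥ v) = P *ᵥ ((N * N) *ᵥ v) := by
      rw [← Matrix.mulVec_mulVec v N N]
      generalize N *ᵥ v = w at hv1 ⊢
      rw [Matrix.mulVec_mulVec, hxN, ← Matrix.mulVec_mulVec, hv1, Matrix.mulVec_mulVec, ← hPN, Matrix.mulVec_mulVec]
    refine Matrix.ext_iff_mulVec.2 fun w => ?_
    have hle : Submodule.span F (Set.range bv) ≤ LinearMap.eqLocus (x : Matrix Z3 Z3 F).mulVecLin P.mulVecLin := by
      rw [Submodule.span_le]
      rintro _ ⟨i, rfl⟩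
      fin_cases i
      exacts [hv0, hv1, hv2]
    exact hle (hspan w)
  exact ⟨hN3, hpoly⟩

/-- elements commuting with an element of characteristic order -/
theorem Ctx.cent_p (hC : Ctx K p M) {y : GL Z3 F} (hy : y ∈ M) (hyp : y ^ p = 1) (hy1 : y ≠ 1) {g : GL Z3 F}
    (hg : g ∈ M) (hc : g * y = y * g) : ∃ (c : Z3) (i : ℕ), g = sc (K.e c) * y ^ i := by
  classical
  have hp := (Fact.out : p.Prime)
  set N : Matrix Z3 Z3 F := (y : Matrix Z3 Z3 F) - 1 with hN
  obtain ⟨hN3, hpoly⟩ := regular_unip (p := p) hyp (fun h => hy1 (hC.ov.nt y hy h))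
  have hNp : N ^ p = 0 := pow_eq_zero_of_le (le_trans (by norm_num) hC.five) hN3
  let U : Subgroup (GL Z3 F) :=
    { carrier := {x | x ∈ M ∧ x * y = y * x ∧ x ^ p = 1}
      one_mem' := ⟨one_mem M, by rw [one_mul, mul_one], one_pow p⟩
      mul_mem' := by
        rintro a b ⟨ha, ha', hap⟩ ⟨hb, hb', hbp⟩
        refine ⟨mul_mem ha hb, by rw [mul_assoc, hb', ← mul_assoc, ha', mul_assoc], ?_⟩
        obtain ⟨a0, a1, a2, ea⟩ := hpoly a ha'
        obtain ⟨b0, b1, b2, eb⟩ := hpoly b hb'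
        have hab : Commute a b := Units.ext (by
          rw [Units.val_mul, Units.val_mul, ea, eb]
          have c1 : Commute N (N * N) := (Commute.refl N).mul_right (Commute.refl N)
          simp only [Matrix.add_mul, Matrix.mul_add, Matrix.smul_mul, Matrix.mul_smul, Matrix.one_mul, Matrix.mul_one,
            Matrix.mul_assoc, smul_smul]
          module)
        rw [hab.mul_pow, hap, hbp, one_mul]
      inv_mem' := by
        rintro a ⟨ha, ha', hap⟩
        exact ⟨inv_mem ha, (Commute.inv_left (ha' : Commute a y)).eq, by rw [inv_pow, hap, inv_one]⟩ }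
  have hUp : IsPGroup p U := fun x => ⟨1, Subtype.ext (by rw [pow_one, Subgroup.coe_pow]; exact x.2.2.2)⟩
  have hUle := hC.small U (fun x hx => hx.1) hUp
  have hzy : Subgroup.zpowers y = U := Subgroup.eq_of_le_of_card_ge (Subgroup.zpowers_le.2 ⟨hy, rfl, hyp⟩) (by
    rw [Nat.card_zpowers, orderOf_eq_prime hyp hy1]; exact hUle)
  obtain ⟨a, b, c, eg⟩ := hpoly g hc
  have hgp : ((g ^ p : GL Z3 F) : Matrix Z3 Z3 F) = a ^ p • 1 := by
    rw [Units.val_pow_eq_pow_val, eg]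
    have c1 : Commute (a • (1 : Matrix Z3 Z3 F) + b • N) (c • (N * N)) :=
      ((((Commute.one_left (N * N)).smul_left a).add_left
        (((Commute.refl N).mul_right (Commute.refl N)).smul_left b))).smul_right c
    rw [add_pow_char_of_commute p c1, add_pow_char_of_commute p (((Commute.one_left N).smul_left a).smul_right b),
      smul_pow, smul_pow, smul_pow, one_pow, (Commute.refl N).mul_pow, hNp, zero_mul, smul_zero, smul_zero, add_zero,
      add_zero]
  have hd := hC.ov.sl (g ^ p) (pow_mem hg p)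
  rw [hgp, Matrix.det_smul, Matrix.det_one, mul_one, ZMod.card, ← pow_mul, mul_comm p, pow_mul] at hd
  obtain ⟨e, he⟩ := K.exists_e (eq_one_of_pow_char p hd)
  have hge : g ^ p = sc (K.e e) ^ p := Units.ext (by
    rw [hgp, Units.val_pow_eq_pow_val, sc_val, smul_pow, one_pow, he])
  have hsM : (sc (K.e (-e)) : GL Z3 F) ∈ M := hC.ov.sc_mem _
  have hg0 : sc (K.e (-e)) * g ∈ U := by
    refine ⟨mul_mem hsM hg, ?_, ?_⟩
    · rw [mul_assoc, hc, ← mul_assoc, sc_comm, mul_assoc]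
    · rw [(show Commute (sc (K.e (-e))) g from sc_comm _ _).mul_pow, hge,
        ← (show Commute (sc (K.e (-e))) (sc (K.e e)) from sc_comm _ _).mul_pow, sc_e_mul, neg_add_cancel,
        Root.e_zero, map_one, one_pow]
  rw [← hzy] at hg0
  obtain ⟨i, hi⟩ := (orderOf_pos_iff.1 (by rw [orderOf_eq_prime hyp hy1]; exact hp.pos)).mem_powers_iff_mem_zpowers.2 hg0
  refine ⟨e, i, ?_⟩
  rw [show y ^ i = sc (K.e (-e)) * g from hi, ← mul_assoc, sc_e_mul, add_neg_cancel, Root.e_zero, map_one, one_mul]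

/-- no involution centralises an element of characteristic order -/
theorem Ctx.p_no_invol (hC : Ctx K p M) {y s : GL Z3 F} (hy : y ∈ M) (hyp : y ^ p = 1) (hy1 : y ≠ 1) (hs : s ∈ M)
    (hs2 : s * s = 1) (hs1 : s ≠ 1) : s * y ≠ y * s := fun hc => by
  obtain ⟨c, i, rfl⟩ := hC.cent_p hy hyp hy1 hs hc
  have hp : Odd p := (Fact.out : p.Prime).odd_of_ne_two (by have := hC.five; omega)
  refine hs1 (eq_one_of_cube_sq hs2 ?_)
  have h3 : (sc (K.e c) * y ^ i) ^ (3 * p) = 1 := by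
    rw [(show Commute (sc (K.e c)) (y ^ i) from sc_comm _ _).mul_pow, pow_mul, sc_e_cube, one_pow, one_mul, ← pow_mul,
      mul_comm i, mul_assoc, mul_comm 3 (p * i), mul_assoc, pow_mul, hyp, one_pow]
  obtain ⟨j, hj⟩ := hp
  rw [hj, mul_add, mul_one, pow_add, ← mul_assoc, mul_comm 3 2, mul_assoc, pow_mul, pow_two, hs2, one_pow, one_mul] at h3
  exact h3

end Cfsg.Agent.ClassicalMax.Hessian
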