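import Mathlib

/-!
Commuting matrices of finite order prime to the characteristic are simultaneously diagonalisable.
-/

set_option autoImplicit false

namespace Cfsg.Agent.ClassicalMax.Hessian.Diag

open Matrix

variable {L : Type*} [Field L] {ι : Type*} [Fintype ι] [DecidableEq ι]

/-- the eigen projection -/
def proj (x : Matrix ι ι L) (ζ : L) (m i : ℕ) : Matrix ι ι L := ∑ j ∈ Finset.range m, (ζ ^ (i * j)) • x ^ j

theorem proj_eigen {x : Matrix ι ι L} {ζ : L} {m : ℕ} (hx : x ^ m = 1) (hζ : ζ ^ m = 1) (hz : ζ ≠ 0) (i : ℕ) :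
    x * proj x ζ m i = (ζ ^ i)⁻¹ • proj x ζ m i := by
  have h2 : ∀ j, x * ((ζ ^ (i * j)) • x ^ j) = (ζ ^ i)⁻¹ • ((ζ ^ (i * (j + 1))) • x ^ (j + 1)) := fun j => by
    rw [Matrix.mul_smul, ← pow_succ', smul_smul, Nat.mul_succ]
    congr 1
    rw [pow_add, mul_comm (ζ ^ (i * j)), inv_mul_cancel_left₀ (pow_ne_zero _ hz)]
  rw [proj, Finset.mul_sum, Finset.smul_sum, Finset.sum_congr rfl fun j _ => h2 j]
  rcases Nat.eq_zero_or_pos m with rfl | hm
  · simp
  obtain ⟨k, rfl⟩ : ∃ k, m = k + 1 := ⟨m - 1, by omega⟩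
  rw [Finset.sum_range_succ, Finset.sum_range_succ' (fun j => (ζ ^ i)⁻¹ • ((ζ ^ (i * j)) • x ^ j)) k, hx,
    Nat.mul_comm i (k + 1), pow_mul, hζ, one_pow, mul_zero, pow_zero, pow_zero]

theorem proj_sum {x : Matrix ι ι L} {ζ : L} {m : ℕ} (hp : IsPrimitiveRoot ζ m) (hm : 0 < m) :
    ∑ i ∈ Finset.range m, proj x ζ m i = (m : L) • 1 := by
  unfold proj
  rw [Finset.sum_comm]
  simp only [← Finset.sum_smul]
  rw [Finset.sum_eq_single 0]
  · simp
  · intro j hj hj0
    rw [Finset.mem_range] at hj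
    have : ∑ i ∈ Finset.range m, ζ ^ (i * j) = 0 := by
      have hne : ζ ^ j ≠ 1 := hp.pow_ne_one_of_pos_of_lt hj0 hj
      have h := geom_sum_mul (ζ ^ j) m
      rw [← pow_mul, mul_comm j m, pow_mul, hp.pow_eq_one, one_pow, sub_self] at h
      rcases mul_eq_zero.1 h with h' | h'
      · rw [← h']
        exact Finset.sum_congr rfl fun i _ => by rw [← pow_mul, mul_comm]
      · exact absurd (sub_eq_zero.1 h') hne
    rw [this, zero_smul]
  · intro h; exact absurd (Finset.mem_range.2 hm) h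

theorem proj_comm {x y : Matrix ι ι L} (h : y * x = x * y) (ζ : L) (m i : ℕ) :
    y * proj x ζ m i = proj x ζ m i * y := by
  simp only [proj, Finset.mul_sum, Finset.sum_mul, Matrix.mul_smul, Matrix.smul_mul]
  exact Finset.sum_congr rfl fun j _ => by rw [(Commute.pow_right (show Commute y x from h) j).eq]

theorem span_joint {ζ : L} {m : ℕ} (hp : IsPrimitiveRoot ζ m) (hm : (m : L) ≠ 0) :
    ∀ l : List (Matrix ι ι L), (∀ x ∈ l, x ^ m = 1) → (∀ x ∈ l, ∀ y ∈ l, x * y = y * x) →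
      ∀ (Q : Submodule L (ι → L)), (∀ x ∈ l, ∀ v ∈ Q, x *ᵥ v ∈ Q) → ∀ u ∈ Q,
        u ∈ Submodule.span L {v | v ∈ Q ∧ ∀ x ∈ l, ∃ c : L, x *ᵥ v = c • v} := by
  have hm0 : 0 < m := Nat.pos_of_ne_zero fun e => hm (by rw [e, Nat.cast_zero])
  have hz : ζ ≠ 0 := hp.ne_zero (by omega)
  intro l
  induction l with
  | nil => exact fun _ _ Q _ u hu => Submodule.subset_span ⟨hu, by simp⟩
  | cons x l ih =>
    intro hpow hcomm Q hQ u hu
    have hxQ : ∀ j, ∀ v ∈ Q, (x ^ j) *ᵥ v ∈ Q := by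
      intro j
      induction j with
      | zero => intro v hv; rwa [pow_zero, Matrix.one_mulVec]
      | succ j ihj =>
        intro v hv
        rw [pow_succ', ← Matrix.mulVec_mulVec]
        exact hQ x List.mem_cons_self _ (ihj v hv)
    have hu' : (m : L) • u = ∑ i ∈ Finset.range m, proj x ζ m i *ᵥ u := by
      rw [← Matrix.sum_mulVec, proj_sum hp hm0, Matrix.smul_mulVec, Matrix.one_mulVec]
    rw [show u = (m : L)⁻¹ • ((m : L) • u) by rw [inv_smul_smul₀ hm], hu']
    refine Submodule.smul_mem _ _ (Submodule.sum_mem _ fun i _ => ?_)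
    let Qi : Submodule L (ι → L) :=
      { carrier := {v | v ∈ Q ∧ x *ᵥ v = (ζ ^ i)⁻¹ • v}
        zero_mem' := ⟨Q.zero_mem, by simp⟩
        add_mem' := fun {a b} ha hb => ⟨Q.add_mem ha.1 hb.1, by rw [Matrix.mulVec_add, ha.2, hb.2, smul_add]⟩
        smul_mem' := fun c a ha => ⟨Q.smul_mem c ha.1, by rw [Matrix.mulVec_smul, ha.2, smul_comm]⟩ }
    have hmem : proj x ζ m i *ᵥ u ∈ Qi := by
      refine ⟨?_, by rw [Matrix.mulVec_mulVec, proj_eigen (hpow x List.mem_cons_self) hp.pow_eq_one hz,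
        Matrix.smul_mulVec]⟩
      rw [proj, Matrix.sum_mulVec]
      exact Q.sum_mem fun j _ => by rw [Matrix.smul_mulVec]; exact Q.smul_mem _ (hxQ j u hu)
    have hinv : ∀ y ∈ l, ∀ v ∈ Qi, y *ᵥ v ∈ Qi := fun y hy v hv =>
      ⟨hQ y (List.mem_cons_of_mem _ hy) v hv.1, by
        rw [Matrix.mulVec_mulVec, hcomm x List.mem_cons_self y (List.mem_cons_of_mem _ hy), ← Matrix.mulVec_mulVec,
          hv.2, Matrix.mulVec_smul]⟩
    refine Submodule.span_mono ?_ (ih (fun y hy => hpow y (List.mem_cons_of_mem _ hy))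
      (fun y hy w hw => hcomm y (List.mem_cons_of_mem _ hy) w (List.mem_cons_of_mem _ hw)) Qi hinv _ hmem)
    rintro v ⟨⟨hv1, hv2⟩, hv3⟩
    refine ⟨hv1, fun y hy => ?_⟩
    rcases List.mem_cons.1 hy with rfl | hy'
    exacts [⟨_, hv2⟩, hv3 y hy']

/-- simultaneous diagonalisation -/
theorem exists_frame {ζ : L} {m : ℕ} (hp : IsPrimitiveRoot ζ m) (hm : (m : L) ≠ 0) (S : Finset (Matrix ι ι L))
    (hpow : ∀ x ∈ S, x ^ m = 1) (hcomm : ∀ x ∈ S, ∀ y ∈ S, x * y = y * x) :
    ∃ P : (Matrix ι ι L)ˣ, ∀ x ∈ S, ∃ d : ι → L, x * (P : Matrix ι ι L) = (P : Matrix ι ι L) * Matrix.diagonal d := by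
  classical
  let T : Set (ι → L) := {v | v ∈ (⊤ : Submodule L (ι → L)) ∧ ∀ x ∈ S.toList, ∃ c : L, x *ᵥ v = c • v}
  have hT : ⊤ ≤ Submodule.span L T := fun u hu => span_joint hp hm S.toList
    (fun x hx => hpow x (Finset.mem_toList.1 hx))
    (fun x hx y hy => hcomm x (Finset.mem_toList.1 hx) y (Finset.mem_toList.1 hy)) ⊤
    (fun _ _ _ _ => Submodule.mem_top) u hu
  obtain ⟨U, hUT, hUspan, hUli⟩ := exists_linearIndependent L T
  let bas := Module.Basis.mk hUli (by rw [Subtype.range_coe, hUspan]; exact hT)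
  haveI : Fintype U := hUli.setFinite.fintype
  have hcard : Fintype.card U = Fintype.card ι := by
    rw [← Module.finrank_eq_card_basis bas, Module.finrank_fintype_fun_eq_card]
  let ε : ι ≃ U := (Fintype.equivOfCardEq hcard).symm
  let g : ι → (ι → L) := fun i => (ε i : ι → L)
  have hu : IsUnit ((Matrix.of g)ᵀ) := by
    rw [← Matrix.linearIndependent_cols_iff_isUnit]
    exact hUli.comp ε ε.injective
  refine ⟨hu.unit, fun x hx => ?_⟩
  choose c hc using fun i => (hUT (ε i).2).2 x (Finset.mem_toList.2 hx)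
  refine ⟨c, ?_⟩
  ext i j
  rw [Matrix.mul_diagonal, hu.unit_spec]
  show (x *ᵥ g j) i = g j i * c j
  rw [hc j, Pi.smul_apply, smul_eq_mul, mul_comm]

/-- conjugate diagonal matrices differ by a permutation -/
theorem perm_of_conj {d d' : ι → L} (P : (Matrix ι ι L)ˣ)
    (h : (P : Matrix ι ι L) * Matrix.diagonal d * (↑P⁻¹ : Matrix ι ι L) = Matrix.diagonal d') :
    ∃ σ : Equiv.Perm ι, d' = d ∘ σ := by
  classical
  have h1 := congrArg Matrix.charpoly h
  rw [Matrix.coe_units_inv, Matrix.charpoly_units_conj, Matrix.charpoly_diagonal, Matrix.charpoly_diagonal] at h1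
  have h2 := congrArg Polynomial.roots h1
  rw [Polynomial.roots_prod _ _ (Finset.prod_ne_zero_iff.2 fun i _ => Polynomial.X_sub_C_ne_zero _),
    Polynomial.roots_prod _ _ (Finset.prod_ne_zero_iff.2 fun i _ => Polynomial.X_sub_C_ne_zero _)] at h2
  simp only [Polynomial.roots_X_sub_C, Multiset.bind_singleton] at h2
  have hfib : ∀ c : L, Fintype.card {i // d' i = c} = Fintype.card {i // d i = c} := fun c => by
    rw [Fintype.card_subtype, Fintype.card_subtype]
    have h3 := congrArg (Multiset.count c) h2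
    simp only [Multiset.count_map, Finset.card_def, Finset.filter_val] at h3 ⊢
    simpa [eq_comm] using h3.symm
  refine ⟨Equiv.ofFiberEquiv (f := d') (g := d) fun c => Fintype.equivOfCardEq (hfib c), funext fun i => ?_⟩
  exact (Equiv.ofFiberEquiv_map _ i).symm

end Cfsg.Agent.ClassicalMax.Hessian.Diag
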