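import Mathlib
import Cfsg.Agent.ClassicalMax.Hessian.Basic
import Cfsg.Agent.ClassicalMax.Hessian.Plane
import Cfsg.Agent.ClassicalMax.Hessian.Diag

/-!
Centralisers of semisimple elements in a subgroup of odd order of the special linear group of degree three, and the
index in their normalisers.
-/

set_option autoImplicit false

namespace Cfsg.Agent.ClassicalMax.Hessian.Semi

open Matrix SympThree
open scoped MatrixGroups

universe u

theorem third : ∀ i j z : Z3, (i ≠ j ∧ z ≠ -i - j) → z = i ∨ z = j := by decide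

theorem two_values {α : Type*} {d : Z3 → α} (h : ¬ Function.Injective d) (hns : ¬ ∀ z, d z = d 0) :
    ∃ k : Z3, d (k + 1) = d (k + 2) ∧ d k ≠ d (k + 1) := by
  obtain ⟨i, j, he, hne⟩ := Function.not_injective_iff.1 h
  refine ⟨-i - j, ?_, fun hk => hns ?_⟩
  · rcases third i j (-i - j + 1) ⟨hne, by simp⟩ with e1 | e1 <;>
      rcases third i j (-i - j + 2) ⟨hne, by simp +decide⟩ with e2 | e2 <;> simp [e1, e2, he]
  · have hall : ∀ z, d z = d i := fun z => by
      by_cases hz : z = -i - j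
      · rw [hz, hk]
        rcases third i j (-i - j + 1) ⟨hne, by simp⟩ with e1 | e1 <;> simp [e1, he]
      · rcases third i j z ⟨hne, hz⟩ with e | e <;> simp [e, he]
    exact fun z => (hall z).trans (hall 0).symm

variable {F : Type u} [Field F] [Fintype F] (p : ℕ) [Fact p.Prime] [CharP F p]

/-- pass to a frame over a larger finite field -/
theorem with_model (A : Subgroup (GL Z3 F)) (hpA : ¬ p ∣ Nat.card A) (S : Set (GL Z3 F)) (hS : S ⊆ A)
    (hcomm : ∀ x ∈ S, ∀ y ∈ S, x * y = y * x) (P : Prop)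
    (h : ∀ (L : Type u) [Field L] [Fintype L] [CharP L p] (ψ : GL Z3 F →* GL Z3 L), Function.Injective ψ →
      (∀ g : GL Z3 F, (g : Matrix Z3 Z3 F).det = 1 → (ψ g : Matrix Z3 Z3 L).det = 1) →
      (∀ x ∈ S, ∃ d : Z3 → L, (ψ x : Matrix Z3 Z3 L) = Matrix.diagonal d) → P) : P := by
  classical
  set m := Nat.card A with hmdef
  have hmF : (m : F) ≠ 0 := fun e => hpA ((CharP.cast_eq_zero_iff F p m).1 e)
  haveI : NeZero (m : F) := ⟨hmF⟩
  haveI : NeZero m := ⟨fun e => hmF (by rw [e, Nat.cast_zero])⟩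
  let L := CyclotomicField m F
  haveI : Module.Finite F L := IsCyclotomicExtension.finite {m} F L
  haveI : Finite L := Module.finite_of_finite F
  letI : Fintype L := Fintype.ofFinite L
  haveI : CharP L p := charP_of_injective_algebraMap (algebraMap F L).injective p
  have hζ := IsCyclotomicExtension.zeta_spec m F L
  have hmL : (m : L) ≠ 0 := fun e => hpA ((CharP.cast_eq_zero_iff L p m).1 e)
  let φ : GL Z3 F →* GL Z3 L := Matrix.GeneralLinearGroup.map (algebraMap F L)
  have hφ : ∀ g : GL Z3 F, (φ g : Matrix Z3 Z3 L) = (g : Matrix Z3 Z3 F).map (algebraMap F L) := fun g => rfl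
  have hφi : Function.Injective φ := fun a b e => Units.ext (by
    have e' := congrArg (fun u : GL Z3 L => (u : Matrix Z3 Z3 L)) e
    simp only [hφ] at e'
    exact Matrix.map_injective (algebraMap F L).injective e')
  haveI : Finite (GL Z3 F) := inferInstance
  let Sf : Finset (Matrix Z3 Z3 L) := (Set.toFinite S).toFinset.image fun x => (φ x : Matrix Z3 Z3 L)
  obtain ⟨P', hP'⟩ := Diag.exists_frame hζ hmL Sf (fun x hx => by
      simp only [Sf, Finset.mem_image, Set.Finite.mem_toFinset] at hx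
      obtain ⟨g, hg, rfl⟩ := hx
      have e : (⟨g, hS hg⟩ : A) ^ m = 1 := pow_card_eq_one'
      have e' : g ^ m = 1 := by simpa using congrArg Subtype.val e
      rw [← Units.val_pow_eq_pow_val, ← map_pow, e', map_one, Units.val_one])
    (fun x hx y hy => by
      simp only [Sf, Finset.mem_image, Set.Finite.mem_toFinset] at hx hy
      obtain ⟨g, hg, rfl⟩ := hx
      obtain ⟨g', hg', rfl⟩ := hy
      rw [← Units.val_mul, ← map_mul, hcomm g hg g' hg', map_mul, Units.val_mul])
  let Q : GL Z3 L := P'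
  refine h L ((MulAut.conj Q⁻¹).toMonoidHom.comp φ)
    (fun a b e => hφi ((MulAut.conj Q⁻¹).injective e)) (fun g hg => ?_) fun x hx => ?_
  · show ((Q⁻¹ * φ g * Q⁻¹⁻¹ : GL Z3 L) : Matrix Z3 Z3 L).det = 1
    rw [inv_inv, Units.val_mul, Units.val_mul, Matrix.det_units_conj', hφ, ← RingHom.mapMatrix_apply,
      ← RingHom.map_det, hg, map_one]
  · obtain ⟨d, hd⟩ := hP' (φ x : Matrix Z3 Z3 L) (by
      simp only [Sf, Finset.mem_image, Set.Finite.mem_toFinset]
      exact ⟨x, hx, rfl⟩)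
    refine ⟨d, ?_⟩
    show ((Q⁻¹ * φ x * Q⁻¹⁻¹ : GL Z3 L) : Matrix Z3 Z3 L) = _
    rw [inv_inv, Units.val_mul, Units.val_mul, Matrix.mul_assoc, hd, ← Matrix.mul_assoc]
    show (↑P'⁻¹ : Matrix Z3 Z3 L) * (P' : Matrix Z3 Z3 L) * _ = _
    rw [Units.inv_mul, Matrix.one_mul]

theorem comm_entry {L : Type*} [Field L] {X : Matrix Z3 Z3 L} {d : Z3 → L}
    (h : X * Matrix.diagonal d = Matrix.diagonal d * X) {i j : Z3} (hij : d i ≠ d j) : X i j = 0 := by
  have e := congrFun (congrFun h i) j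
  rw [Matrix.mul_diagonal, Matrix.diagonal_mul] at e
  have e' : (d j - d i) * X i j = 0 := by linear_combination e
  exact (mul_eq_zero.1 e').resolve_left (sub_ne_zero.2 (Ne.symm hij))

/-- odd subgroups centralising a nonscalar diagonal matrix are abelian -/
theorem comm_core {L : Type u} [Field L] [Fintype L] [CharP L p] (hp : 5 ≤ p) {G : Type*} [Group G] [Finite G]
    (f : G →* GL Z3 L) (hf : Function.Injective f) (hdet : ∀ g, (f g : Matrix Z3 Z3 L).det = 1)
    (hodd : Odd (Nat.card G)) (hpG : ¬ p ∣ Nat.card G) {d : Z3 → L} (hns : ¬ ∀ z, d z = d 0)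
    (hc : ∀ g, (f g : Matrix Z3 Z3 L) * Matrix.diagonal d = Matrix.diagonal d * f g) :
    ∀ a b : G, a * b = b * a := by
  classical
  intro a b
  by_cases hd : Function.Injective d
  · have hdiag : ∀ g, (f g : Matrix Z3 Z3 L) = Matrix.diagonal fun z => (f g : Matrix Z3 Z3 L) z z := fun g => by
      ext z w
      rw [Matrix.diagonal_apply]
      split_ifs with e
      · rw [e]
      · exact comm_entry (hc g) (fun h => e (hd h))
    refine hf (Units.ext ?_)
    rw [map_mul, map_mul, Units.val_mul, Units.val_mul, hdiag a, hdiag b, Matrix.diagonal_mul_diagonal,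
      Matrix.diagonal_mul_diagonal]
    exact congrArg _ (funext fun z => mul_comm _ _)
  obtain ⟨k, hk, hk'⟩ := two_values hd hns
  have h2 : (2 : L) ≠ 0 := by
    intro e
    have e' : ((2 : ℕ) : L) = 0 := by exact_mod_cast e
    have := Nat.le_of_dvd (by norm_num) ((CharP.cast_eq_zero_iff L p 2).1 e')
    omega
  haveI : NeZero (2 : L) := ⟨h2⟩
  let e : Z3 ≃ Z3 := Equiv.addRight (-k)
  let g' : G →* GL Z3 L := (Units.map (Matrix.reindexAlgEquiv L L e).toMonoidHom).comp f
  have hg' : ∀ g z w, (g' g : Matrix Z3 Z3 L) z w = (f g : Matrix Z3 Z3 L) (z + k) (w + k) := fun g z w => by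
    show Matrix.reindexAlgEquiv L L e (f g : Matrix Z3 Z3 L) z w = _
    simp [e, Matrix.reindexAlgEquiv_apply, Matrix.reindex_apply]
  have hblk : ∀ g, g' g ∈ (Blk : Subgroup (GL Z3 L)) := fun g => by
    have key : ∀ z w : Z3, d (z + k) ≠ d (w + k) → (g' g : Matrix Z3 Z3 L) z w = 0 := fun z w h => by
      rw [hg']; exact comm_entry (hc g) h
    have h1 : d (0 + k) ≠ d (1 + k) := by rwa [zero_add, add_comm]
    have h2' : d (0 + k) ≠ d (2 + k) := by rw [zero_add, add_comm, ← hk]; exact hk'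
    exact mem_blk (key _ _ h1) (key _ _ h2') (key _ _ h1.symm) (key _ _ h2'.symm)
  let lo : G →* GL (Fin 2) L := (low h2).comp (g'.codRestrict _ hblk)
  have hlo : ∀ g, (lo g : Matrix (Fin 2) (Fin 2) L) = lowM (g' g) := fun g => rfl
  have hker : ∀ g, lo g = 1 → g = 1 := by
    intro g hg
    have hm : lowM (g' g) = 1 := by rw [← hlo, hg, Units.val_one]
    obtain ⟨g1, g2, g3, g4⟩ := blk_entry (hblk g) h2
    have m00 := congrFun (congrFun hm 0) 0
    have m01 := congrFun (congrFun hm 0) 1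
    have m10 := congrFun (congrFun hm 1) 0
    have m11 := congrFun (congrFun hm 1) 1
    simp [lowM] at m00 m01 m10 m11
    have hd1 : (g' g : Matrix Z3 Z3 L).det = 1 := by
      show (Matrix.reindexAlgEquiv L L e (f g : Matrix Z3 Z3 L)).det = 1
      rw [Matrix.det_reindexAlgEquiv, hdet]
    rw [det_z3, g1, g2, g3, g4, m00, m01, m10, m11] at hd1
    simp only [zero_mul, mul_zero, sub_zero, add_zero, mul_one] at hd1
    have h1 : g' g = 1 := Units.ext (by
      ext z w
      rcases z3_cases z with rfl | rfl | rfl <;> rcases z3_cases w with rfl | rfl | rfl <;>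
        simp +decide [Matrix.one_apply, g1, g2, g3, g4, m00, m01, m10, m11, hd1])
    have h2e : f g = 1 := by
      refine Units.ext ((Matrix.reindexAlgEquiv L L e).injective ?_)
      rw [Units.val_one, map_one]
      exact congrArg (fun u : GL Z3 L => (u : Matrix Z3 Z3 L)) h1
    exact hf (by rw [h2e, map_one])
  let H : Subgroup (Matrix.ProjGenLinGroup (Fin 2) L) := (Matrix.ProjGenLinGroup.mk.comp lo).range
  have hdvd : Nat.card H ∣ Nat.card G := Subgroup.card_range_dvd _
  have hHodd : Odd (Nat.card H) := hodd.of_dvd_nat hdvd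
  have hcm := comm_of_odd (Hessian.shape p hp H fun h => hpG (h.trans hdvd)) hHodd
    _ ⟨a, rfl⟩ _ ⟨b, rfl⟩
  set c := a * b * a⁻¹ * b⁻¹ with hcdef
  have h1 : Matrix.ProjGenLinGroup.mk (lo c) = 1 := by
    simp only [MonoidHom.coe_comp, Function.comp_apply] at hcm
    rw [hcdef, map_mul, map_mul, map_mul, map_mul, map_mul, map_mul, map_inv, map_inv, map_inv, map_inv, hcm,
      mul_inv_cancel_right, mul_inv_cancel]
  rw [Matrix.ProjGenLinGroup.mk_eq_one, Matrix.GeneralLinearGroup.center_eq_range_scalar] at h1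
  obtain ⟨u, hu⟩ := h1
  have hdet1 : Matrix.GeneralLinearGroup.det (lo c) = 1 := by
    rw [hcdef, map_mul, map_mul, map_mul, map_inv, map_inv, map_mul, map_mul, map_mul, map_inv, map_inv,
      mul_comm (Matrix.GeneralLinearGroup.det (lo a)), mul_inv_cancel_right, mul_inv_cancel]
  have hsq : lo (c * c) = 1 := by
    have hu2 : u * u = 1 := Units.ext (by
      have h := congrArg (fun v : Lˣ => (v : L)) hdet1
      rw [← hu] at h
      simpa [Matrix.GeneralLinearGroup.val_det_apply, Matrix.GeneralLinearGroup.coe_scalar, Matrix.det_diagonal,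
        ← pow_two] using h)
    rw [map_mul, ← hu, ← map_mul, hu2, map_one]
  have hc1 : c = 1 := eq_one_of_sq hodd (hker _ hsq) pow_card_eq_one'
  rw [hcdef] at hc1
  calc a * b = a * b * a⁻¹ * b⁻¹ * (b * a) := by group
    _ = b * a := by rw [hc1, one_mul]

/-- the centraliser of a semisimple element is abelian -/
theorem abelian (hp : 5 ≤ p) (A : Subgroup (GL Z3 F)) (hdet : ∀ x ∈ A, (x : Matrix Z3 Z3 F).det = 1)
    (hodd : Odd (Nat.card A)) (hpA : ¬ p ∣ Nat.card A) {y : GL Z3 F} (hy : y ∈ A)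
    (hys : ¬ ∃ c, y = sc c) (hyc : ∀ x ∈ A, x * y = y * x) : ∀ x ∈ A, ∀ z ∈ A, x * z = z * x := by
  intro a ha b hb
  refine with_model p A hpA {y} (Set.singleton_subset_iff.2 hy) (by simp) _ fun L _ _ _ ψ hψ hψd hd => ?_
  obtain ⟨d, hd⟩ := hd y rfl
  have hns : ¬ ∀ z, d z = d 0 := by
    intro hall
    refine hys ?_
    have hcen : ∀ g : GL Z3 F, g * y = y * g := fun g => hψ (Units.ext (by
      rw [map_mul, map_mul, Units.val_mul, Units.val_mul, hd, show d = fun _ => d 0 from funext hall,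
        ← Matrix.smul_one_eq_diagonal, Matrix.mul_smul, Matrix.smul_mul, Matrix.mul_one, Matrix.one_mul]))
    have hc : y ∈ Subgroup.center (GL Z3 F) := Subgroup.mem_center_iff.2 hcen
    rw [Matrix.GeneralLinearGroup.center_eq_range_scalar] at hc
    obtain ⟨c, rfl⟩ := hc
    exact ⟨c, rfl⟩
  have := comm_core p hp (ψ.comp A.subtype) (hψ.comp Subtype.val_injective) (fun g => hψd _ (hdet _ g.2)) hodd hpA hns
    (fun g => by
      rw [← hd, ← Units.val_mul, ← Units.val_mul, MonoidHom.comp_apply, ← map_mul, ← map_mul]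
      exact congrArg (fun u => (ψ u : Matrix Z3 Z3 L)) (hyc g g.2)) ⟨a, ha⟩ ⟨b, hb⟩
  exact congrArg Subtype.val this

/-- a fibre bound -/
theorem card_le_of_fibre {G X : Type*} [Group G] [Finite G] [Finite X] (A : Subgroup G) (τ : G → X)
    (h : ∀ n m, τ n = τ m → m⁻¹ * n ∈ A) : Nat.card G ≤ Nat.card A * Nat.card X := by
  classical
  rw [← Nat.card_prod]
  have hex : ∀ n, ∃ m, τ m = τ n := fun n => ⟨n, rfl⟩
  let rep : X → G := fun v => if hv : ∃ m, τ m = v then hv.choose else 1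
  have hrep : ∀ n, τ (rep (τ n)) = τ n := fun n => by
    simp only [rep, dif_pos (hex n)]
    exact (hex n).choose_spec
  refine Nat.card_le_card_of_injective (fun n => (⟨(rep (τ n))⁻¹ * n, h _ _ (hrep n).symm⟩, τ n)) fun n m e => ?_
  simp only [Prod.mk.injEq, Subtype.mk.injEq] at e
  rw [e.2] at e
  exact mul_left_cancel e.1

/-- the index in the normaliser is at most three -/
theorem index_le (A N : Subgroup (GL Z3 F)) (hpA : ¬ p ∣ Nat.card A) (hAab : ∀ x ∈ A, ∀ z ∈ A, x * z = z * x)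
    (hAN : A ≤ N) (hN : ∀ n ∈ N, ∀ x ∈ A, n * x * n⁻¹ ∈ A) {y : GL Z3 F} (hy : y ∈ A) (hy2 : y * y ≠ 1)
    (hys : ¬ ∃ c, y = sc c) (hcen : ∀ n ∈ N, n * y = y * n → n ∈ A)
    (hinv : ∀ s ∈ N, s * s = 1 → s ≠ 1 → ∀ n ∈ N, s * (n * y * n⁻¹) * s⁻¹ = (n * y * n⁻¹)⁻¹) :
    Nat.card N ≤ 3 * Nat.card A := by
  classical
  refine with_model p A hpA (A : Set (GL Z3 F)) subset_rfl hAab _ fun L _ _ _ ψ hψ hψd hd => ?_
  choose dd hdd using hd
  let D : A → Z3 → L := fun x => dd x x.2
  have hD : ∀ x : A, (ψ x : Matrix Z3 Z3 L) = Matrix.diagonal (D x) := fun x => hdd _ x.2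
  have hDi : ∀ x x' : A, D x = D x' → x = x' := fun x x' e =>
    Subtype.ext (hψ (Units.ext (by rw [hD, hD, e])))
  let cj : N → A → A := fun n x => ⟨n * x * (n : GL Z3 F)⁻¹, hN n n.2 x x.2⟩
  let Y : A := ⟨y, hy⟩
  have hns : ¬ ∀ z, D Y z = D Y 0 := by
    intro hall
    refine hys ?_
    have hce : ∀ g : GL Z3 F, g * y = y * g := fun g => hψ (Units.ext (by
      rw [map_mul, map_mul, Units.val_mul, Units.val_mul, show (ψ y : Matrix Z3 Z3 L) = _ from hD Y,
        show D Y = fun _ => D Y 0 from funext hall,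
        ← Matrix.smul_one_eq_diagonal, Matrix.mul_smul, Matrix.smul_mul, Matrix.mul_one, Matrix.one_mul]))
    have hc : y ∈ Subgroup.center (GL Z3 F) := Subgroup.mem_center_iff.2 hce
    rw [Matrix.GeneralLinearGroup.center_eq_range_scalar] at hc
    obtain ⟨c, rfl⟩ := hc
    exact ⟨c, rfl⟩
  have hconj : ∀ (n : N) (x : A), (ψ n : Matrix Z3 Z3 L) * Matrix.diagonal (D x) =
      Matrix.diagonal (D (cj n x)) * ψ n := fun n x => by
    rw [← hD, ← hD, ← Units.val_mul, ← Units.val_mul, ← map_mul, ← map_mul]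
    exact congrArg (fun u => (ψ u : Matrix Z3 Z3 L))
      (show (n : GL Z3 F) * x = n * x * (n : GL Z3 F)⁻¹ * n by rw [inv_mul_cancel_right])
  have hperm : ∀ n : N, ∃ σ : Equiv.Perm Z3, D (cj n Y) = D Y ∘ σ := fun n => by
    refine Diag.perm_of_conj (ψ n) ?_
    rw [hconj n Y, Matrix.mul_assoc, Units.mul_inv, Matrix.mul_one]
  choose σ hσ using hperm
  have hsame : ∀ n m : N, D (cj n Y) = D (cj m Y) → (m⁻¹ * n : N) ∈ A.subgroupOf N := by
    intro n m e
    have e' : (n : GL Z3 F) * y * (n : GL Z3 F)⁻¹ = m * y * (m : GL Z3 F)⁻¹ := congrArg Subtype.val (hDi _ _ e)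
    rw [Subgroup.mem_subgroupOf]
    refine hcen _ (m⁻¹ * n : N).2 ?_
    show (m : GL Z3 F)⁻¹ * n * y = y * ((m : GL Z3 F)⁻¹ * n)
    calc (m : GL Z3 F)⁻¹ * n * y = (m : GL Z3 F)⁻¹ * (n * y * (n : GL Z3 F)⁻¹) * n := by group
      _ = (m : GL Z3 F)⁻¹ * (m * y * (m : GL Z3 F)⁻¹) * n := by rw [e']
      _ = _ := by group
  have hcA : Nat.card (A.subgroupOf N) = Nat.card A := Nat.card_congr (Subgroup.subgroupOfEquivOfLe hAN).toEquiv
  by_cases hinj : Function.Injective (D Y)
  swap
  · obtain ⟨k, hk, hk'⟩ := two_values hinj hns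
    have hpos : ∀ τ : Equiv.Perm Z3, ∀ z, (D Y ∘ τ) z = D Y k ↔ z = τ.symm k := by
      intro τ z
      rw [Function.comp_apply, Equiv.eq_symm_apply]
      refine ⟨fun h => ?_, fun h => by rw [h]⟩
      by_contra hne
      rcases (show ∀ k w : Z3, w ≠ k → w = k + 1 ∨ w = k + 2 by decide) k (τ z) hne with e | e <;> rw [e] at h
      exacts [hk' h.symm, hk' (by rw [← h, hk])]
    have hval : ∀ n : N, D (cj n Y) = fun z => if z = (σ n).symm k then D Y k else D Y (k + 1) := fun n => by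
      funext z
      rw [hσ n]
      split_ifs with h
      · exact (hpos _ z).2 h
      · have hne : σ n z ≠ k := fun e => h ((σ n).eq_symm_apply.2 e)
        rcases (show ∀ k w : Z3, w ≠ k → w = k + 1 ∨ w = k + 2 by decide) k (σ n z) hne with e | e <;>
          simp [e, hk]
    have := card_le_of_fibre (A.subgroupOf N) (fun n : N => (σ n).symm k)
      (fun n m (e : (σ n).symm k = (σ m).symm k) => hsame n m (by rw [hval, hval, e]))
    rwa [hcA, Nat.card_zmod, mul_comm] at this
  have hall : ∀ (n : N) (x : A), D (cj n x) = D x ∘ σ n := by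
    intro n x
    funext i
    have hz : ∀ j, (ψ n : Matrix Z3 Z3 L) i j ≠ 0 → j = σ n i := fun j hj => by
      have e := congrFun (congrFun (hconj n Y) i) j
      rw [Matrix.mul_diagonal, Matrix.diagonal_mul, mul_comm _ ((ψ n : Matrix Z3 Z3 L) i j)] at e
      have e' := mul_left_cancel₀ hj e
      rw [hσ n, Function.comp_apply] at e'
      exact hinj e'
    have hne : (ψ n : Matrix Z3 Z3 L) i (σ n i) ≠ 0 := by
      intro h0
      refine (Matrix.GeneralLinearGroup.det (ψ n)).ne_zero ?_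
      rw [Matrix.GeneralLinearGroup.val_det_apply]
      refine Matrix.det_eq_zero_of_row_eq_zero i fun j => ?_
      by_contra hj
      exact hj (hz j hj ▸ h0)
    have e := congrFun (congrFun (hconj n x) i) (σ n i)
    rw [Matrix.mul_diagonal, Matrix.diagonal_mul, mul_comm _ ((ψ n : Matrix Z3 Z3 L) i (σ n i))] at e
    exact (mul_left_cancel₀ hne e).symm
  have huniq : ∀ (τ τ' : Equiv.Perm Z3), D Y ∘ τ = D Y ∘ τ' → τ = τ' := fun τ τ' e =>
    Equiv.ext fun z => hinj (congrFun e z)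
  let f : N →* Equiv.Perm Z3 := MonoidHom.mk' (fun n => (σ n)⁻¹) fun n m => by
    rw [← _root_.mul_inv_rev]
    refine congrArg _ (huniq _ _ ?_)
    rw [← hσ, show cj (n * m) Y = cj n (cj m Y) from Subtype.ext (by
      show (n : GL Z3 F) * m * y * ((n : GL Z3 F) * m)⁻¹ = n * (m * y * (m : GL Z3 F)⁻¹) * (n : GL Z3 F)⁻¹
      group), hall, hσ]
    rfl
  have hbound : Nat.card N ≤ Nat.card A * Nat.card f.range := by
    rw [← hcA]
    refine card_le_of_fibre (A.subgroupOf N) f.rangeRestrict fun n m e => hsame n m ?_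
    have e' : (σ n)⁻¹ = (σ m)⁻¹ := congrArg Subtype.val e
    rw [hσ, hσ, inv_injective e']
  have hdvd : Nat.card f.range ∣ 6 := by
    have h := Subgroup.card_subgroup_dvd_card f.range
    rwa [Nat.card_perm, Nat.card_zmod] at h
  by_cases hle : Nat.card f.range ≤ 3
  · exact hbound.trans (by rw [mul_comm 3]; exact Nat.mul_le_mul_left _ hle)
  exfalso
  have h6 : Nat.card f.range = 6 := by
    have := Nat.le_of_dvd (by norm_num) hdvd
    interval_cases h : Nat.card f.range <;> omega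
  have hsurj : ∀ τ : Equiv.Perm Z3, ∃ n : N, σ n = τ := fun τ => by
    have htop : f.range = ⊤ := Subgroup.eq_top_of_card_eq _ (by rw [h6, Nat.card_perm, Nat.card_zmod]; rfl)
    obtain ⟨n, hn⟩ := MonoidHom.mem_range.1 (htop ▸ Subgroup.mem_top τ⁻¹ : τ⁻¹ ∈ f.range)
    exact ⟨n, inv_injective hn⟩
  haveI : Fact (Nat.Prime 2) := ⟨Nat.prime_two⟩
  obtain ⟨s, hs⟩ := exists_prime_orderOf_dvd_card' (G := N) 2 ((by norm_num : 2 ∣ 6).trans
    (h6 ▸ Subgroup.card_range_dvd f))
  have hs1 : (s : GL Z3 F) ≠ 1 := fun h => by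
    rw [show s = 1 from Subtype.ext h, orderOf_one] at hs; norm_num at hs
  have hs2 : (s : GL Z3 F) * s = 1 := by
    have h := congrArg Subtype.val (hs ▸ pow_orderOf_eq_one s)
    rw [Subgroup.coe_pow, pow_two, Subgroup.coe_one] at h
    exact h
  have hrel : ∀ (n : N) (z : Z3), D Y (σ n (σ s z)) * D Y (σ n z) = 1 := by
    intro n z
    have e : cj s (cj n Y) = (cj n Y)⁻¹ := Subtype.ext (hinv s s.2 hs2 hs1 n n.2)
    have e1 := congrArg (fun x : A => (ψ x : Matrix Z3 Z3 L) * ψ (cj n Y)) e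
    simp only [hD] at e1
    rw [show (Matrix.diagonal (D (cj n Y)⁻¹) * Matrix.diagonal (D (cj n Y)) : Matrix Z3 Z3 L) = 1 by
      rw [← hD, ← hD, ← Units.val_mul, ← map_mul, ← Subgroup.coe_mul, inv_mul_cancel, Subgroup.coe_one, map_one,
        Units.val_one], Matrix.diagonal_mul_diagonal, ← Matrix.diagonal_one] at e1
    have e2 := congrFun (Matrix.diagonal_injective e1) z
    simpa [hall, hσ] using e2
  have hsne : σ s ≠ 1 := by
    intro h
    refine hy2 ?_
    refine congrArg Subtype.val (hDi (Y * Y) 1 (funext fun z => ?_))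
    have e1 : (ψ ((Y * Y : A) : GL Z3 F) : Matrix Z3 Z3 L) = Matrix.diagonal fun w => D Y w * D Y w := by
      rw [Subgroup.coe_mul, map_mul, Units.val_mul, hD, Matrix.diagonal_mul_diagonal]
    rw [hD] at e1
    have e0 : D 1 = fun _ => 1 := Matrix.diagonal_injective (by
      rw [← hD, Subgroup.coe_one, map_one, Units.val_one, Matrix.diagonal_one])
    rw [Matrix.diagonal_injective e1, e0]
    obtain ⟨n, hn⟩ := hsurj 1
    simpa [hn, h] using hrel n z
  obtain ⟨z, hz⟩ : ∃ z, σ s z ≠ z := by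
    by_contra hall'
    push_neg at hall'
    exact hsne (Equiv.ext hall')
  have hpair : ∀ a b : Z3, a ≠ b → D Y a * D Y b = 1 := by
    intro a b hab
    obtain ⟨τ, h1, h2⟩ := (show ∀ a b u v : Z3, (a ≠ b ∧ u ≠ v) → ∃ τ : Equiv.Perm Z3, τ u = a ∧ τ v = b from by
      decide +kernel) a b _ _ ⟨hab, hz⟩
    obtain ⟨n, hn⟩ := hsurj τ
    have := hrel n z
    rwa [hn, h1, h2] at this
  have h01 := hpair 0 1 (by decide)
  have h02 := hpair 0 2 (by decide)
  exact (show (1 : Z3) ≠ 2 by decide) (hinj (mul_left_cancel₀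
    (left_ne_zero_of_mul_eq_one h01) (h01.trans h02.symm)))

end Cfsg.Agent.ClassicalMax.Hessian.Semi
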