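import Mathlib
import Cfsg.Agent.ClassicalMax.Hessian.Rest
import Cfsg.Agent.ClassicalMax.Hessian.Semi

/-!
Counting the elements of an overgroup with a non-isolated involution: there is none.
-/

set_option autoImplicit false

namespace Cfsg.Agent.ClassicalMax.Hessian

open Matrix SympThree
open scoped MatrixGroups

/-- orbit and centraliser under conjugation inside a subgroup -/
theorem card_class_mul {G : Type*} [Group G] (M : Subgroup G) (x : G) :
    Nat.card {z : G // ∃ h ∈ M, h * x * h⁻¹ = z} * Nat.card {g : G // g ∈ M ∧ g * x = x * g} = Nat.card M := by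
  classical
  rw [← Nat.card_prod]
  refine Nat.card_congr (Equiv.ofBijective (fun q : {z : G // ∃ h ∈ M, h * x * h⁻¹ = z} × {g : G // g ∈ M ∧ g * x = x * g} =>
    (⟨q.1.2.choose * q.2.1, mul_mem q.1.2.choose_spec.1 q.2.2.1⟩ : M)) ⟨?_, ?_⟩)
  · rintro ⟨z, c⟩ ⟨z', c'⟩ e
    have e1 : z.2.choose * c.1 = z'.2.choose * c'.1 := congrArg Subtype.val e
    have fix : ∀ c : {g : G // g ∈ M ∧ g * x = x * g}, c.1 * x * c.1⁻¹ = x := fun c => by
      rw [c.2.2, mul_inv_cancel_right]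
    have hz : z = z' := Subtype.ext (by
      refine z.2.choose_spec.2.symm.trans (Eq.trans ?_ z'.2.choose_spec.2)
      refine (congrArg (fun u => z.2.choose * u * z.2.choose⁻¹) (fix c)).symm.trans
        (Eq.trans ?_ (congrArg (fun u => z'.2.choose * u * z'.2.choose⁻¹) (fix c')))
      calc z.2.choose * (c.1 * x * c.1⁻¹) * z.2.choose⁻¹ = z.2.choose * c.1 * x * (z.2.choose * c.1)⁻¹ := by group
        _ = z'.2.choose * c'.1 * x * (z'.2.choose * c'.1)⁻¹ := by rw [e1]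
        _ = _ := by group)
    subst hz
    exact Prod.ext rfl (Subtype.ext (mul_left_cancel e1))
  · intro g
    have hz : ∃ h ∈ M, h * x * h⁻¹ = (g : G) * x * (g : G)⁻¹ := ⟨g, g.2, rfl⟩
    refine ⟨(⟨_, hz⟩, ⟨hz.choose⁻¹ * g, mul_mem (inv_mem hz.choose_spec.1) g.2, ?_⟩), Subtype.ext (mul_inv_cancel_left _ _)⟩
    calc hz.choose⁻¹ * (g : G) * x = hz.choose⁻¹ * ((g : G) * x * (g : G)⁻¹) * g := by group
      _ = hz.choose⁻¹ * (hz.choose * x * hz.choose⁻¹) * g := by rw [hz.choose_spec.2]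
      _ = _ := by group

theorem pow_cancel_of_coprime {G : Type*} [Group G] {x : G} {a b : ℕ} (ha : x ^ a = 1) (hb : x ^ b = 1)
    (h : Nat.Coprime a b) : x = 1 := by
  have := pow_gcd_eq_one.mpr ⟨ha, hb⟩
  rwa [h.gcd_eq_one, pow_one] at this

theorem card_split {α : Type*} [Finite α] (P Q : α → Prop) :
    Nat.card {x // P x} = Nat.card {x // P x ∧ Q x} + Nat.card {x // P x ∧ ¬ Q x} := by
  classical
  haveI := Fintype.ofFinite α
  simp only [Nat.card_eq_fintype_card, Fintype.card_subtype]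
  rw [← Finset.filter_filter, ← Finset.filter_filter, Finset.card_filter_add_card_filter_not]

/-- the arithmetic of the count -/
theorem no_solution {n I j k s p : ℕ} (hp : p.Prime) (hp7 : 5 ≤ p) (hn : 0 < n) (hne : Even n) (hn3 : ¬ 3 ∣ n)
    (hpn : ¬ p ∣ n) (heq : 9 * ((p - 1) * s) + 9 = I * (10 * n + 9)) (hcard : p * k * s = 8 * n * I)
    (hjk : p - 1 = k * j) (hs : s % p = 1) : p = 5 ∧ n = 2 := by
  have h9 : 9 ∣ I := by
    have h1 : 9 ∣ 10 * (n * I) := by
      have : 9 ∣ I * (10 * n + 9) := ⟨(p - 1) * s + 1, by rw [← heq, mul_add, mul_one]⟩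
      have h2 : 9 ∣ 9 * I := dvd_mul_right 9 I
      rw [show I * (10 * n + 9) = 10 * (n * I) + 9 * I by ring] at this
      exact (Nat.dvd_add_left h2).1 this
    have h2 : 9 ∣ n * I := (Nat.Coprime.dvd_mul_left (by norm_num)).1 h1
    refine (Nat.Coprime.dvd_mul_left ?_).1 h2
    rw [show (9 : ℕ) = 3 ^ 2 by norm_num]
    exact ((Nat.Prime.coprime_iff_not_dvd Nat.prime_three).2 hn3).pow_left 2
  have hpI : p ∣ I := by
    have h1 : p ∣ 8 * n * I := ⟨k * s, by rw [← hcard, mul_assoc]⟩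
    rcases hp.dvd_mul.1 h1 with h | h
    · rcases hp.dvd_mul.1 h with h' | h'
      · have := (Nat.prime_dvd_prime_iff_eq hp Nat.prime_two).1 (hp.dvd_of_dvd_pow (n := 3) (by simpa using h'))
        omega
      · exact absurd h' hpn
    · exact h
  have h9p : 9 * p ∣ I := Nat.Coprime.mul_dvd_of_dvd_of_dvd (by
    rw [show (9 : ℕ) = 3 ^ 2 by norm_num]
    refine Nat.Coprime.pow_left 2 ?_
    exact (Nat.coprime_primes Nat.prime_three hp).2 (by omega)) h9 hpI
  obtain ⟨J, rfl⟩ := h9p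
  -- the quotient is one
  have hks : k * s = 72 * n * J := Nat.eq_of_mul_eq_mul_left hp.pos (by rw [← mul_assoc, hcard]; ring)
  have key : J * (p * (10 * n + 9)) = 1 + J * (72 * n * j) := by
    refine Nat.eq_of_mul_eq_mul_left (show 0 < 9 by norm_num) ?_
    calc 9 * (J * (p * (10 * n + 9))) = 9 * p * J * (10 * n + 9) := by ring
      _ = 9 * (k * j * s) + 9 := by rw [← heq, hjk]
      _ = 9 * (j * (k * s)) + 9 := by ring
      _ = _ := by rw [hks]; ring
  have hJ : J = 1 := Nat.dvd_one.1 ((Nat.dvd_add_left (dvd_mul_right J (72 * n * j))).1 (key ▸ dvd_mul_right J _))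
  subst hJ
  rw [one_mul, one_mul] at key
  rw [mul_one] at hks
  obtain ⟨t, rfl⟩ : ∃ t, s = 1 + p * t := ⟨s / p, by have := Nat.div_add_mod s p; omega⟩
  have hp' : p = k * j + 1 := by omega
  have ht : t * (k * j) = 10 * n + 8 := by
    have e : p * (10 * n + 9) = p * (1 + t * (k * j)) := by
      rw [key, show 72 * n * j = j * (k * (1 + p * t)) by rw [hks]; ring, hp']
      ring
    have := Nat.eq_of_mul_eq_mul_left hp.pos e
    omega
  have hk : k * (10 * n + 9 + t) = 72 * n := by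
    rw [← hks, hp']
    calc k * (10 * n + 9 + t) = k * (t * (k * j) + 1 + t) := by rw [ht]
      _ = _ := by ring
  obtain ⟨i, hi⟩ := hne
  have hpo : p % 2 = 1 := Nat.odd_iff.1 (hp.odd_of_ne_two (by omega))
  have hk8 : k < 8 := by
    by_contra hk8
    push Not at hk8
    have := Nat.mul_le_mul hk8 (Nat.le_add_right (10 * n + 9) t)
    omega
  have hj0 : j ≠ 0 := fun h => by subst h; simp at hp'; omega
  interval_cases k
  · omega
  · have h1 : t * 1 ≤ t * (1 * j) := Nat.mul_le_mul_left t (by omega)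
    omega
  · have h1 : t * 2 ≤ t * (2 * j) := Nat.mul_le_mul_left t (by omega)
    omega
  · have h1 : t * 3 ≤ t * (3 * j) := Nat.mul_le_mul_left t (by omega)
    omega
  · by_cases hj : j = 1
    · subst hj; omega
    have h1 : t * (4 * 2) ≤ t * (4 * j) := Nat.mul_le_mul_left t (by omega)
    omega
  · have h1 : t * (5 * 2) ≤ t * (5 * j) := Nat.mul_le_mul_left t (by omega)
    omega
  · by_cases hj : j = 1
    · subst hj; omega
    have h1 : t * (6 * 2) ≤ t * (6 * j) := Nat.mul_le_mul_left t (by omega)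
    have hn' : n = 6 ∨ n = 8 := by omega
    rcases hn' with rfl | rfl
    · obtain rfl : t = 3 := by omega
      omega
    · obtain rfl : t = 7 := by omega
      omega
  · have h7 : 7 ∣ t * (7 * j) := ⟨t * j, by ring⟩
    have h7n : 7 ∣ n := by
      have : 7 ∣ 72 * n := ⟨10 * n + 9 + t, hk.symm⟩
      exact (Nat.Coprime.dvd_mul_left (by norm_num)).1 this
    omega

variable {F : Type*} [Field F] {K : Root F} {M : Subgroup (GL Z3 F)}
variable [NeZero (2 : F)]

/-- an involution of the subgroup -/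
def IsInv (M : Subgroup (GL Z3 F)) (s : GL Z3 F) : Prop := s ∈ M ∧ s * s = 1 ∧ s ≠ 1

/-- the elements of square not scalar with no commuting involution -/
def IsRest (K : Root F) (M : Subgroup (GL Z3 F)) (g : GL Z3 F) : Prop :=
  g ∈ M ∧ ¬ IsSc K (g * g) ∧ ∀ s, IsInv M s → g * s ≠ s * g

theorem IsInv.conj {s h : GL Z3 F} (hs : IsInv M s) (hh : h ∈ M) : IsInv M (h * s * h⁻¹) := by
  refine ⟨mul_mem (mul_mem hh hs.1) (inv_mem hh), ?_, fun e => hs.2.2 (conj_eq_one_iff.1 e)⟩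
  rw [show h * s * h⁻¹ * (h * s * h⁻¹) = h * (s * s) * h⁻¹ by group, hs.2.1, mul_one, mul_inv_cancel]

variable {p : ℕ} [Fact p.Prime] [CharP F p] [Fintype F]

theorem Ctx.isInv_T (hC : Ctx K p M) : IsInv M (Root.T : GL Z3 F) := ⟨hC.ov.hT, T_sq, T_ne_one K⟩

/-- the centraliser of the involution as a subtype of the linear group -/
theorem Ctx.card_centT (hC : Ctx K p M) :
    Nat.card {g : GL Z3 F // g ∈ M ∧ g * Root.T = Root.T * g} = Nat.card (CC M) :=
  Nat.card_congr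
    { toFun := fun g => ⟨⟨g.1, mem_cen_iff.2 g.2.2⟩, g.2.1⟩
      invFun := fun g => ⟨(g : ↥(cen : Subgroup (GL Z3 F))), g.2, mem_cen_iff.1 (g : ↥(cen : Subgroup (GL Z3 F))).2⟩
      left_inv := fun _ => rfl
      right_inv := fun _ => rfl }

theorem Ctx.card_M (hC : Ctx K p M) :
    Nat.card {s : GL Z3 F // IsInv M s} * Nat.card (CC M) = Nat.card M := by
  rw [← hC.card_centT, ← card_class_mul M (Root.T : GL Z3 F)]
  congr 1
  refine Nat.card_congr (Equiv.subtypeEquivRight fun s => ⟨fun h => hC.conj_all h.1 h.2.1 h.2.2, ?_⟩)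
  rintro ⟨h, hh, rfl⟩
  exact hC.isInv_T.conj hh

/-- the squares scalar -/
theorem Ctx.card_sq (hC : Ctx K p M) :
    Nat.card {g : GL Z3 F // g ∈ M ∧ IsSc K (g * g)} = 3 * (Nat.card {s : GL Z3 F // IsInv M s} + 1) := by
  classical
  refine Eq.trans ?_ (congrArg (· * _) (Nat.card_zmod 3))
  rw [← Finite.card_option, ← Nat.card_prod]
  symm
  refine Nat.card_congr (Equiv.ofBijective (fun q : Z3 × Option {s : GL Z3 F // IsInv M s} =>
    (⟨sc (K.e q.1) * (q.2.elim 1 Subtype.val), ?_, ?_⟩ : {g : GL Z3 F // g ∈ M ∧ IsSc K (g * g)})) ⟨?_, ?_⟩)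
  · rcases q with ⟨a, _ | s⟩
    exacts [mul_mem (hC.ov.sc_mem a) (one_mem M), mul_mem (hC.ov.sc_mem a) s.2.1]
  · rcases q with ⟨a, _ | s⟩
    · exact ⟨a + a, by simp [sc_e_mul]⟩
    · refine ⟨a + a, ?_⟩
      show sc (K.e a) * s.1 * (sc (K.e a) * s.1) = _
      rw [mul_assoc, ← mul_assoc s.1, ← sc_comm, mul_assoc (sc (K.e a)) s.1, s.2.2.1, mul_one, sc_e_mul]
  · rintro ⟨a, o⟩ ⟨a', o'⟩ e
    have e1 : sc (K.e a) * o.elim 1 Subtype.val = sc (K.e a') * o'.elim 1 Subtype.val := congrArg Subtype.val e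
    have hsq : ∀ (o : Option {s : GL Z3 F // IsInv M s}) (a : Z3),
        (sc (K.e a) * o.elim 1 Subtype.val) * (sc (K.e a) * o.elim 1 Subtype.val) = (sc (K.e (a + a)) : GL Z3 F) := by
      rintro (_ | s) a
      · simp [sc_e_mul]
      · show sc (K.e a) * s.1 * (sc (K.e a) * s.1) = _
        rw [mul_assoc, ← mul_assoc s.1, ← sc_comm, mul_assoc (sc (K.e a)) s.1, s.2.2.1, mul_one, sc_e_mul]
    have ha : a = a' := by
      have h := sc_e_inj ((hsq o a).symm.trans ((congrArg (fun x => x * x) e1).trans (hsq o' a')))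
      exact (show ∀ a a' : Z3, a + a = a' + a' → a = a' by decide) a a' h
    subst ha
    have e2 := mul_left_cancel e1
    rcases o with _ | s <;> rcases o' with _ | s'
    · rfl
    · exact absurd e2.symm s'.2.2.2
    · exact absurd e2 s.2.2.2
    · rw [show s = s' from Subtype.ext e2]
  · rintro ⟨g, hg, b, hb⟩
    have hg2 : sc (K.e b) * g * (sc (K.e b) * g) = 1 := by
      rw [mul_assoc, ← mul_assoc g, ← sc_comm, mul_assoc (sc (K.e b)) g, hb, sc_e_mul, sc_e_mul,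
        (show ∀ a : Z3, a + (a + a) = 0 by decide) b, Root.e_zero, map_one]
    have hback : sc (K.e (-b)) * (sc (K.e b) * g) = g := by
      rw [← mul_assoc, sc_e_mul, neg_add_cancel, Root.e_zero, map_one, one_mul]
    by_cases h1 : sc (K.e b) * g = 1
    · exact ⟨(-b, none), Subtype.ext (by show sc (K.e (-b)) * (1 : GL Z3 F) = g; rw [← h1]; exact hback)⟩
    · exact ⟨(-b, some ⟨_, mul_mem (hC.ov.sc_mem b) hg, hg2, h1⟩), Subtype.ext hback⟩

/-- the elements with one commuting involution -/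
theorem Ctx.card_one (hC : Ctx K p M) :
    Nat.card {g : GL Z3 F // (g ∈ M ∧ ¬ IsSc K (g * g)) ∧ ∃ s, IsInv M s ∧ g * s = s * g} =
      Nat.card {s : GL Z3 F // IsInv M s} *
        Nat.card {g : CC M // ¬ IsSc K (((g : ↥(cen : Subgroup (GL Z3 F))) : GL Z3 F) * (g : ↥(cen : Subgroup (GL Z3 F))))} := by
  classical
  rw [← Nat.card_prod]
  symm
  have hh : ∀ s : {s : GL Z3 F // IsInv M s}, ∃ h ∈ M, h * Root.T * h⁻¹ = s.1 := fun s => hC.conj_all s.2.1 s.2.2.1 s.2.2.2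
  choose h hhM hhe using hh
  refine Nat.card_congr (Equiv.ofBijective (fun q : {s : GL Z3 F // IsInv M s} ×
      {g : CC M // ¬ IsSc K (((g : ↥(cen : Subgroup (GL Z3 F))) : GL Z3 F) * (g : ↥(cen : Subgroup (GL Z3 F))))} =>
    (⟨h q.1 * ((q.2.1 : ↥(cen : Subgroup (GL Z3 F))) : GL Z3 F) * (h q.1)⁻¹, ?_, ?_⟩ :
      {g : GL Z3 F // (g ∈ M ∧ ¬ IsSc K (g * g)) ∧ ∃ s, IsInv M s ∧ g * s = s * g})) ⟨?_, ?_⟩)
  · refine ⟨mul_mem (mul_mem (hhM _) q.2.1.2) (inv_mem (hhM _)), fun hsc => not_isSc_conj q.2.2 (h q.1) ?_⟩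
    convert hsc using 1
    group
  · refine ⟨q.1.1, q.1.2, ?_⟩
    rw [← hhe q.1]
    have e := mem_cen_iff.1 (q.2.1 : ↥(cen : Subgroup (GL Z3 F))).2
    calc h q.1 * ((q.2.1 : ↥(cen : Subgroup (GL Z3 F))) : GL Z3 F) * (h q.1)⁻¹ * (h q.1 * Root.T * (h q.1)⁻¹)
        = h q.1 * (((q.2.1 : ↥(cen : Subgroup (GL Z3 F))) : GL Z3 F) * Root.T) * (h q.1)⁻¹ := by group
      _ = h q.1 * (Root.T * ((q.2.1 : ↥(cen : Subgroup (GL Z3 F))) : GL Z3 F)) * (h q.1)⁻¹ := by rw [e]
      _ = _ := by group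
  · rintro ⟨s, g⟩ ⟨s', g'⟩ e
    have e1 : h s * ((g.1 : ↥(cen : Subgroup (GL Z3 F))) : GL Z3 F) * (h s)⁻¹ =
        h s' * ((g'.1 : ↥(cen : Subgroup (GL Z3 F))) : GL Z3 F) * (h s')⁻¹ := congrArg Subtype.val e
    have hcom : ∀ (s : {s : GL Z3 F // IsInv M s}) (x : ↥(cen : Subgroup (GL Z3 F))),
        h s * (x : GL Z3 F) * (h s)⁻¹ * s.1 = s.1 * (h s * (x : GL Z3 F) * (h s)⁻¹) := fun s x => by
      rw [← hhe s]
      calc h s * (x : GL Z3 F) * (h s)⁻¹ * (h s * Root.T * (h s)⁻¹) = h s * ((x : GL Z3 F) * Root.T) * (h s)⁻¹ := by group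
        _ = h s * (Root.T * (x : GL Z3 F)) * (h s)⁻¹ := by rw [mem_cen_iff.1 x.2]
        _ = _ := by group
    have hs : s = s' := Subtype.ext (hC.unique_invol (g := h s' * ((g'.1 : ↥(cen : Subgroup (GL Z3 F))) : GL Z3 F) * (h s')⁻¹)
      (mul_mem (mul_mem (hhM _) g'.1.2) (inv_mem (hhM _)))
      (fun hsc => not_isSc_conj g'.2 (h s') (by convert hsc using 1; group))
      s'.2.1 s.2.1 s'.2.2.1 s'.2.2.2 s.2.2.1 s.2.2.2 (hcom s' _) (e1 ▸ hcom s _))
    subst hs
    exact Prod.ext rfl (Subtype.ext (Subtype.ext (Subtype.ext (mul_left_cancel (mul_right_cancel e1)))))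
  · rintro ⟨g, ⟨hg, hns⟩, s, hs, hc⟩
    refine ⟨(⟨s, hs⟩, ⟨⟨⟨(h ⟨s, hs⟩)⁻¹ * g * h ⟨s, hs⟩, ?_⟩, mul_mem (mul_mem (inv_mem (hhM _)) hg) (hhM _)⟩, ?_⟩), ?_⟩
    · rw [mem_cen_iff]
      have e : h ⟨s, hs⟩ * Root.T * (h ⟨s, hs⟩)⁻¹ = s := hhe ⟨s, hs⟩
      calc (h ⟨s, hs⟩)⁻¹ * g * h ⟨s, hs⟩ * Root.T
          = (h ⟨s, hs⟩)⁻¹ * (g * (h ⟨s, hs⟩ * Root.T * (h ⟨s, hs⟩)⁻¹)) * h ⟨s, hs⟩ := by group
        _ = (h ⟨s, hs⟩)⁻¹ * (s * g) * h ⟨s, hs⟩ := by rw [e, hc]
        _ = (h ⟨s, hs⟩)⁻¹ * (h ⟨s, hs⟩ * Root.T * (h ⟨s, hs⟩)⁻¹ * g) * h ⟨s, hs⟩ := by rw [e]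
        _ = _ := by group
    · intro hsc
      refine hns ?_
      have := hsc.conj (h ⟨s, hs⟩)
      convert this using 1
      simp only [mul_assoc, mul_inv_cancel_left, inv_mul_cancel_left, mul_inv_cancel, mul_one]
    · refine Subtype.ext ?_
      show h ⟨s, hs⟩ * ((h ⟨s, hs⟩)⁻¹ * g * h ⟨s, hs⟩) * (h ⟨s, hs⟩)⁻¹ = g
      group

/-- the partition by involutions -/
theorem Ctx.card_rest (hC : Ctx K p M) :
    ∃ n I, 0 < n ∧ Even n ∧ ¬ 3 ∣ n ∧ ¬ p ∣ n ∧ 0 < I ∧ Nat.card M = 24 * n * I ∧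
      24 * n * I = 3 * (I + 1) + I * (18 * n - 6) + Nat.card {g : GL Z3 F // IsRest K M g} := by
  classical
  obtain ⟨r, hr, hr2, hr1, hrT, -⟩ := hC.exists_r
  obtain ⟨n, hn, hne, hcard, hsq⟩ := (hC.ov.cent_struct p hC.five hr hr2 hr1 hrT).2.1
  haveI : Nonempty {s : GL Z3 F // IsInv M s} := ⟨⟨_, hC.isInv_T⟩⟩
  refine ⟨n, Nat.card {s : GL Z3 F // IsInv M s}, hn, hne, fun h3 => hC.not_three_dvd ?_,
    fun hpn => hC.ov.not_dvd_CC p (hcard ▸ dvd_mul_of_dvd_right hpn 24), Nat.card_pos, ?_, ?_⟩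
  · rw [hcard]
    obtain ⟨m, rfl⟩ := h3
    exact ⟨8 * m, by ring⟩
  · rw [← hC.card_M, hcard, mul_comm]
  · have h0 : Nat.card {g : GL Z3 F // g ∈ M} = 24 * n * Nat.card {s : GL Z3 F // IsInv M s} := by
      rw [show Nat.card {g : GL Z3 F // g ∈ M} = Nat.card M from rfl, ← hC.card_M, hcard, mul_comm]
    have hcompl : Nat.card {g : CC M // ¬ IsSc K (((g : ↥(cen : Subgroup (GL Z3 F))) : GL Z3 F) * (g : ↥(cen : Subgroup (GL Z3 F))))} =
        18 * n - 6 := by
      haveI := Fintype.ofFinite (CC M)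
      rw [Nat.card_eq_fintype_card, Fintype.card_subtype_compl, ← Nat.card_eq_fintype_card, ← Nat.card_eq_fintype_card,
        hcard, hsq]
      omega
    rw [← h0, card_split (fun g : GL Z3 F => g ∈ M) (fun g => IsSc K (g * g)), hC.card_sq,
      card_split (fun g : GL Z3 F => g ∈ M ∧ ¬ IsSc K (g * g)) (fun g => ∃ s, IsInv M s ∧ g * s = s * g), hC.card_one,
      hcompl, add_assoc]
    congr 2
    refine Nat.card_congr (Equiv.subtypeEquivRight fun g => ?_)
    constructor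
    · rintro ⟨⟨hg, hns⟩, h⟩
      exact ⟨hg, hns, fun s hs hc => h ⟨s, hs, hc⟩⟩
    · rintro ⟨hg, hns, h⟩
      exact ⟨⟨hg, hns⟩, fun ⟨s, hs, hc⟩ => h s hs hc⟩

/-- the class of the diagonal generator -/
theorem Ctx.card_three (hC : Ctx K p M) :
    Nat.card {z : GL Z3 F // ∃ h ∈ M, h * K.W 1 0 * h⁻¹ = z} * 9 = Nat.card M := by
  rw [← card_class_mul M (K.W 1 0)]
  congr 1
  rw [show (9 : ℕ) = Nat.card (Z3 × Z3) by rw [Nat.card_prod, Nat.card_zmod]]
  refine Nat.card_congr (Equiv.ofBijective (fun q : Z3 × Z3 =>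
    (⟨sc (K.e q.1) * K.W q.2 0, mul_mem (hC.ov.sc_mem _) (hC.ov.hW _ _), ?_⟩ :
      {g : GL Z3 F // g ∈ M ∧ g * K.W 1 0 = K.W 1 0 * g})) ⟨?_, ?_⟩)
  · rw [mul_assoc, W_diag_mul, ← mul_assoc (K.W 1 0), ← sc_comm, mul_assoc, W_diag_mul, add_comm]
  · rintro ⟨c, a⟩ ⟨c', a'⟩ e
    have e1 : sc (K.e c) * K.W a 0 = sc (K.e c') * K.W a' 0 := congrArg Subtype.val e
    have e2 : K.W a 0 = sc ((K.e c)⁻¹ * K.e c') * K.W a' 0 := by
      rw [map_mul, map_inv, mul_assoc, ← e1, inv_mul_cancel_left]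
    obtain ⟨rfl, -⟩ := K.W_inj e2
    rw [sc_e_inj (mul_right_cancel e1)]
  · rintro ⟨g, hg, hc⟩
    obtain ⟨c, a, e⟩ := hC.cent_W10 hg hc
    exact ⟨(c, a), Subtype.ext e.symm⟩

/-- the class lies in the rest -/
theorem Ctx.three_rest (hC : Ctx K p M) {z : GL Z3 F} (h : ∃ h ∈ M, h * K.W 1 0 * h⁻¹ = z) : IsRest K M z := by
  obtain ⟨h, hh, rfl⟩ := h
  refine ⟨mul_mem (mul_mem hh (hC.ov.hW 1 0)) (inv_mem hh), fun hsc => ?_, fun s hs hc => ?_⟩
  · have := hsc.conj h⁻¹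
    rw [show h⁻¹ * (h * K.W 1 0 * h⁻¹ * (h * K.W 1 0 * h⁻¹)) * h⁻¹⁻¹ = K.W 1 0 * K.W 1 0 by group, W_diag_mul] at this
    have h2 := not_isSc_W K (a := 1 + 1) (b := 0) (by decide) 0
    rw [Root.e_zero, map_one, one_mul] at h2
    exact h2 this
  · exact hC.three_no_invol hh hs.1 hs.2.1 hs.2.2 hc.symm

/-- an element of three power order in the rest belongs to the class -/
theorem Ctx.rest_three (hC : Ctx K p M) {g : GL Z3 F} (hg : IsRest K M g) {u : GL Z3 F} {k : ℕ} (hu : u ∈ M)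
    (huk : u ^ 3 ^ k = 1) (hns : ¬ IsSc K u) (hc : g * u = u * g) : ∃ h ∈ M, h * K.W 1 0 * h⁻¹ = g := by
  obtain ⟨h, hh, rfl⟩ := hC.three_elem hu huk hns
  exact hC.three_elem hg.1 (k := 1) (by rw [pow_one]; exact hC.cube_cent_three hh hg.1 hc) fun hsc => hg.2.1 (hsc.mul hsc)

/-- an element with no commuting involution has odd order -/
theorem Ctx.odd_of_no_invol (hC : Ctx K p M) {g : GL Z3 F} (hg : g ∈ M)
    (h : ∀ s, IsInv M s → g * s ≠ s * g) : Odd (orderOf g) := by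
  rw [← Nat.not_even_iff_odd]
  rintro ⟨m, hm⟩
  have h0 := orderOf_pos g
  refine h (g ^ m) ⟨pow_mem hg m, by rw [← pow_add, ← hm, pow_orderOf_eq_one],
    pow_ne_one_of_lt_orderOf (by omega) (by omega)⟩ (Commute.self_pow g m).eq

/-- no element of other prime order avoids the involutions -/
theorem Ctx.no_semi (hC : Ctx K p M) {y : GL Z3 F} (hy : y ∈ M) {l : ℕ} (hl : l.Prime) (hl5 : 5 ≤ l) (hlp : l ≠ p)
    (hyl : orderOf y = l) (hyno : ∀ s, IsInv M s → y * s ≠ s * y) : False := by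
  classical
  have hp := (Fact.out : p.Prime)
  have hyl' : y ^ l = 1 := hyl ▸ pow_orderOf_eq_one y
  have hy1 : y ≠ 1 := fun h => by rw [h, orderOf_one] at hyl; omega
  have hl3 : Nat.Coprime l 3 := (Nat.coprime_primes hl Nat.prime_three).2 (by omega)
  have scalar_free : ∀ {x : GL Z3 F}, IsSc K x → x ^ l = 1 → x = 1 := fun {x} h hx => by
    obtain ⟨a, rfl⟩ := h
    exact pow_cancel_of_coprime hx (sc_e_cube a) hl3
  let C : GL Z3 F → Subgroup (GL Z3 F) := fun x => M ⊓ Subgroup.centralizer {x}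
  have hCm : ∀ x z, z ∈ C x ↔ z ∈ M ∧ z * x = x * z := fun x z => by
    simp only [C, Subgroup.mem_inf, Subgroup.mem_centralizer_singleton_iff, eq_comm]
  -- properties of the centraliser of any element of prime order avoiding the involutions
  have hprop : ∀ (w : GL Z3 F) (q : ℕ), w ∈ M → q.Prime → 5 ≤ q → q ≠ p → orderOf w = q →
      (∀ s, IsInv M s → w * s ≠ s * w) →
      Odd (Nat.card (C w)) ∧ ¬ p ∣ Nat.card (C w) ∧ ∀ a ∈ C w, ∀ b ∈ C w, a * b = b * a := by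
    intro w q hw hq hq5 hqp hwq hwno
    have hwq' : w ^ q = 1 := hwq ▸ pow_orderOf_eq_one w
    have hw1 : w ≠ 1 := fun h => by rw [h, orderOf_one] at hwq; omega
    have hodd : Odd (Nat.card (C w)) := by
      haveI : Fact (Nat.Prime 2) := ⟨Nat.prime_two⟩
      by_contra hev
      obtain ⟨s, hs⟩ := exists_prime_orderOf_dvd_card' (G := C w) 2 (even_iff_two_dvd.1 (Nat.not_odd_iff_even.1 hev))
      have hsM := ((hCm w s).1 s.2)
      have hs' : orderOf (s : GL Z3 F) = 2 := by rw [Subgroup.orderOf_coe]; exact hs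
      refine hwno s ⟨hsM.1, ?_, fun h => by rw [h, orderOf_one] at hs'; norm_num at hs'⟩ hsM.2.symm
      have h := pow_orderOf_eq_one (s : GL Z3 F)
      rwa [hs', pow_two] at h
    have hnp : ¬ p ∣ Nat.card (C w) := by
      intro hdvd
      obtain ⟨z, hz⟩ := exists_prime_orderOf_dvd_card' (G := C w) p hdvd
      have hzM := (hCm w z).1 z.2
      have hz' : orderOf (z : GL Z3 F) = p := by rw [Subgroup.orderOf_coe]; exact hz
      obtain ⟨c, i, e⟩ := hC.cent_p hzM.1 (hz' ▸ pow_orderOf_eq_one _)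
        (fun h => by rw [h, orderOf_one] at hz'; exact hp.one_lt.ne hz') hw hzM.2.symm
      have h3p : w ^ (3 * p) = 1 := by
        rw [e, (show Commute (sc (K.e c)) ((z : GL Z3 F) ^ i) from sc_comm _ _).mul_pow, pow_mul, sc_e_cube, one_pow,
          one_mul, ← pow_mul, mul_comm i, mul_assoc, mul_comm 3 (p * i), mul_assoc, pow_mul, ← hz',
          pow_orderOf_eq_one, one_pow]
      exact hw1 (pow_cancel_of_coprime hwq' h3p (Nat.Coprime.mul_right
        ((Nat.coprime_primes hq Nat.prime_three).2 (by omega)) ((Nat.coprime_primes hq hp).2 hqp)))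
    refine ⟨hodd, hnp, Semi.abelian p hC.five (C w) (fun x hx => hC.ov.sl x ((hCm w x).1 hx).1) hodd hnp
      ((hCm w w).2 ⟨hw, rfl⟩) ?_ fun x hx => ((hCm w x).1 hx).2⟩
    rintro ⟨c, rfl⟩
    exact hwno _ hC.isInv_T (sc_comm _ _)
  obtain ⟨hodd, hnp, hab⟩ := hprop y l hy hl hl5 hlp hyl hyno
  set A := C y with hA
  have hyA : y ∈ A := (hCm y y).2 ⟨hy, rfl⟩
  have hscA : ∀ a, (sc (K.e a) : GL Z3 F) ∈ A := fun a => (hCm y _).2 ⟨hC.ov.sc_mem a, sc_comm _ _⟩
  -- nonscalar elements of the centraliser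
  have hfix : ∀ x ∈ A, x ^ 3 = 1 → IsSc K x := by
    intro x hx h3
    by_contra hns
    obtain ⟨h, hh, e⟩ := hC.three_elem ((hCm y x).1 hx).1 (k := 1) (by rw [pow_one]; exact h3) hns
    refine hy1 (pow_cancel_of_coprime hyl' (hC.cube_cent_three hh hy ?_) hl3)
    rw [e]
    exact ((hCm y x).1 hx).2.symm
  have hoddx : ∀ x ∈ A, Odd (orderOf x) := fun x hx => hodd.of_dvd_nat (Subgroup.orderOf_dvd_natCard A hx)
  have hno : ∀ x ∈ A, ¬ IsSc K x → ¬ IsSc K (x * x) ∧ ∀ s, IsInv M s → x * s ≠ s * x := by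
    intro x hx hns
    have hxM := ((hCm y x).1 hx).1
    have hsq : ¬ IsSc K (x * x) := by
      rintro ⟨b, hb⟩
      refine hns (hfix x hx ?_)
      have h6 : x ^ 6 = 1 := by rw [show 6 = 2 * 3 by norm_num, pow_mul, pow_two, hb, sc_e_cube]
      have h : Nat.Coprime (orderOf x) 2 := Nat.coprime_two_right.2 (hoddx x hx)
      exact orderOf_dvd_iff_pow_eq_one.1 (h.dvd_of_dvd_mul_left (by
        rw [show 2 * 3 = 6 by norm_num]; exact orderOf_dvd_of_pow_eq_one h6))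
    refine ⟨hsq, fun s hs hc => hyno s hs ?_⟩
    have hyx := ((hCm y x).1 hx).2
    have hcy : x * (y * s * y⁻¹) = y * s * y⁻¹ * x := by
      calc x * (y * s * y⁻¹) = x * y * s * y⁻¹ := by group
        _ = y * (x * s) * y⁻¹ := by rw [hyx]; group
        _ = y * s * (x * y⁻¹) := by rw [hc]; group
        _ = y * s * (y⁻¹ * x) := by rw [(Commute.inv_right (show Commute x y from hyx)).eq]
        _ = _ := by group
    have := hC.unique_invol hxM hsq hs.1 (hs.conj hy).1 hs.2.1 hs.2.2 (hs.conj hy).2.1 (hs.conj hy).2.2 hc hcy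
    rwa [mul_inv_eq_iff_eq_mul] at this
  have hcent : ∀ x ∈ A, ¬ IsSc K x → ∀ z ∈ M, z * x = x * z → z ∈ A := by
    intro x hx hns z hz hc
    have hxM := ((hCm y x).1 hx).1
    -- a prime at least five dividing the order
    obtain ⟨q, hq, hq5, hqd⟩ : ∃ q, q.Prime ∧ 5 ≤ q ∧ q ∣ orderOf x := by
      by_contra hall
      push Not at hall
      obtain ⟨k, hk⟩ : ∃ k, orderOf x = 3 ^ k := by
        refine ⟨_, Nat.eq_prime_pow_of_unique_prime_dvd (orderOf_pos x).ne' fun {d} hd hdd => ?_⟩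
        have h5 : ¬ 5 ≤ d := fun h => hall d hd h hdd
        have h2 : d ≠ 2 := fun h => (Nat.not_even_iff_odd.2 (hoddx x hx)) (even_iff_two_dvd.2 (h ▸ hdd))
        have := hd.two_le
        rcases (show d = 3 ∨ d = 4 by omega) with h | h
        · exact h
        · subst h; norm_num at hd
      obtain ⟨h, hh, e⟩ := hC.three_elem hxM (k := k) (hk ▸ pow_orderOf_eq_one x) hns
      refine hy1 (pow_cancel_of_coprime hyl' (hC.cube_cent_three hh hy ?_) hl3)
      rw [e]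
      exact ((hCm y x).1 hx).2.symm
    have hqp : q ≠ p := fun h => hnp (h ▸ hqd.trans (Subgroup.orderOf_dvd_natCard A hx))
    set w := x ^ (orderOf x / q)
    have hwq : orderOf w = q := orderOf_pow_orderOf_div (orderOf_pos x).ne' hqd
    have hwA : w ∈ A := pow_mem hx _
    have hwns : ¬ IsSc K w := fun h => by
      obtain ⟨a, ha⟩ := h
      have := orderOf_dvd_of_pow_eq_one (show w ^ 3 = 1 by rw [ha, sc_e_cube])
      rw [hwq] at this
      have := Nat.le_of_dvd (by norm_num) this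
      omega
    have hab' := (hprop w q ((hCm y w).1 hwA).1 hq hq5 hqp hwq (hno w hwA hwns).2).2.2
    refine (hCm y z).2 ⟨hz, hab' z ((hCm w z).2 ⟨hz, ?_⟩) y ((hCm w y).2 ⟨hy, ?_⟩)⟩
    · exact ((Commute.pow_right (show Commute z x from hc)) _).eq
    · exact (hab w hwA y hyA).symm
  -- the normaliser
  let N : Subgroup (GL Z3 F) := M ⊓ Subgroup.normalizer (A : Set (GL Z3 F))
  have hAN : A ≤ N := le_inf (fun x hx => ((hCm y x).1 hx).1) Subgroup.le_normalizer
  have hNA : ∀ n ∈ N, ∀ x ∈ A, n * x * n⁻¹ ∈ A := fun n hn x hx => (Subgroup.mem_normalizer_iff.1 hn.2 x).1 hx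
  have hN3 : Nat.card N ≤ 3 * Nat.card A := by
    refine Semi.index_le p A N hnp hab hAN hNA hyA ?_ ?_ (fun n hn hc => (hCm y n).2 ⟨hn.1, hc⟩) ?_
    · intro h
      refine hy1 (pow_cancel_of_coprime hyl' (show y ^ 2 = 1 by rw [pow_two, h]) ?_)
      exact (Nat.coprime_primes hl Nat.prime_two).2 (by omega)
    · rintro ⟨c, rfl⟩
      exact hyno _ hC.isInv_T (sc_comm _ _)
    intro s hs hs2 hs1 n hn
    set w := n * y * n⁻¹ with hw
    have hwA : w ∈ A := hNA n hn y hyA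
    have hswA : s * w * s⁻¹ ∈ A := hNA s hs w hwA
    set v := w * (s * w * s⁻¹)
    have hvA : v ∈ A := mul_mem hwA hswA
    have hsinv : s⁻¹ = s := inv_eq_of_mul_eq_one_right hs2
    have hvs : v * s = s * v := by
      calc v * s = s * w * s⁻¹ * w * s := by rw [show v = s * w * s⁻¹ * w from hab w hwA _ hswA]
        _ = s * w * (s * w * s⁻¹) := by rw [hsinv]; group
        _ = _ := by show _ = s * (w * (s * w * s⁻¹)); group
    have hvl : v ^ l = 1 := by
      rw [(show Commute w (s * w * s⁻¹) from hab w hwA _ hswA).mul_pow]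
      simp only [conj_pow, hw, hyl', mul_one, mul_inv_cancel]
    by_cases hvsc : IsSc K v
    · exact eq_inv_of_mul_eq_one_right (scalar_free hvsc hvl)
    · exact absurd hvs ((hno v hvA hvsc).2 s ⟨hs.1, hs2, hs1⟩)
  -- size of the centraliser
  have hA15 : 15 ≤ Nat.card A := by
    have h3 : 3 ∣ Nat.card A := by
      have e : orderOf (sc (K.e 1) : GL Z3 F) = 3 := orderOf_eq_prime (sc_e_cube 1) fun h =>
        (show (1 : Z3) ≠ 0 by decide) (sc_e_inj (K := K) (by rw [h, Root.e_zero, map_one]))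
      exact (dvd_of_eq e.symm).trans (Subgroup.orderOf_dvd_natCard A (hscA 1))
    have hlA : l ∣ Nat.card A := hyl ▸ Subgroup.orderOf_dvd_natCard A hyA
    have := Nat.le_of_dvd Nat.card_pos (Nat.Coprime.mul_dvd_of_dvd_of_dvd hl3 hlA h3)
    omega
  -- elements conjugate into it
  let Ξ := {z : GL Z3 F // ∃ q : M × {x : A // ¬ IsSc K (x : GL Z3 F)},
    (q.1 : GL Z3 F) * (q.2.1 : GL Z3 F) * (q.1 : GL Z3 F)⁻¹ = z}
  have hΞrest : ∀ z : Ξ, IsRest K M z.1 ∧ ¬ ∃ h ∈ M, h * K.W 1 0 * h⁻¹ = z.1 := by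
    rintro ⟨z, q, rfl⟩
    obtain ⟨hsq, hnoi⟩ := hno q.2.1 q.2.1.2 q.2.2
    refine ⟨⟨mul_mem (mul_mem q.1.2 ((hCm y _).1 q.2.1.2).1) (inv_mem q.1.2), fun hsc => ?_, fun s hs hc => ?_⟩, ?_⟩
    · refine hsq ?_
      have := hsc.conj (q.1 : GL Z3 F)⁻¹
      convert this using 1
      group
    · refine hnoi ((q.1 : GL Z3 F)⁻¹ * s * (q.1 : GL Z3 F)⁻¹⁻¹) (hs.conj (inv_mem q.1.2)) ?_
      calc (q.2.1 : GL Z3 F) * ((q.1 : GL Z3 F)⁻¹ * s * (q.1 : GL Z3 F)⁻¹⁻¹)
          = (q.1 : GL Z3 F)⁻¹ * ((q.1 : GL Z3 F) * (q.2.1 : GL Z3 F) * (q.1 : GL Z3 F)⁻¹ * s) * (q.1 : GL Z3 F) := by group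
        _ = (q.1 : GL Z3 F)⁻¹ * (s * ((q.1 : GL Z3 F) * (q.2.1 : GL Z3 F) * (q.1 : GL Z3 F)⁻¹)) * (q.1 : GL Z3 F) := by rw [hc]
        _ = _ := by group
    · rintro ⟨h, -, e⟩
      refine q.2.2 (hfix _ q.2.1.2 ?_)
      have e3 := congrArg (fun x : GL Z3 F => x ^ 3) e
      simp only [conj_pow, W10_cube, mul_one, mul_inv_cancel] at e3
      exact conj_eq_one_iff.1 e3.symm
  have hbound : Nat.card M * Nat.card {x : A // ¬ IsSc K (x : GL Z3 F)} ≤ Nat.card Ξ * Nat.card N := by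
    rw [← Nat.card_prod, ← Nat.card_prod]
    let z : M × {x : A // ¬ IsSc K (x : GL Z3 F)} → Ξ := fun q => ⟨_, q, rfl⟩
    have hn : ∀ q, ((z q).2.choose.1 : GL Z3 F)⁻¹ * q.1 ∈ N := by
      intro q
      have e := (z q).2.choose_spec
      set q0 := (z q).2.choose
      change (q0.1 : GL Z3 F) * (q0.2.1 : GL Z3 F) * (q0.1 : GL Z3 F)⁻¹ =
        (q.1 : GL Z3 F) * (q.2.1 : GL Z3 F) * (q.1 : GL Z3 F)⁻¹ at e
      set n := (q0.1 : GL Z3 F)⁻¹ * q.1
      have hnM : n ∈ M := mul_mem (inv_mem q0.1.2) q.1.2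
      have hnx : n * (q.2.1 : GL Z3 F) * n⁻¹ = q0.2.1 := by
        calc n * (q.2.1 : GL Z3 F) * n⁻¹ = (q0.1 : GL Z3 F)⁻¹ * ((q.1 : GL Z3 F) * (q.2.1 : GL Z3 F) * (q.1 : GL Z3 F)⁻¹) * q0.1 := by
              simp only [n]; group
          _ = _ := by rw [← e]; group
      refine ⟨hnM, Subgroup.mem_normalizer_iff.2 fun a => ⟨fun ha => ?_, fun ha => ?_⟩⟩
      · refine hcent _ q0.2.1.2 q0.2.2 _ (mul_mem (mul_mem hnM ((hCm y a).1 ha).1) (inv_mem hnM)) ?_
        rw [← hnx]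
        calc n * a * n⁻¹ * (n * (q.2.1 : GL Z3 F) * n⁻¹) = n * (a * (q.2.1 : GL Z3 F)) * n⁻¹ := by group
          _ = n * ((q.2.1 : GL Z3 F) * a) * n⁻¹ := by rw [hab a ha _ q.2.1.2]
          _ = _ := by group
      · refine hcent _ q.2.1.2 q.2.2 a ?_ ?_
        · have := mul_mem (mul_mem (inv_mem hnM) ((hCm y _).1 ha).1) hnM
          rwa [show n⁻¹ * (n * a * n⁻¹) * n = a by group] at this
        · have h := hab _ ha _ q0.2.1.2
          rw [← hnx] at h
          calc a * (q.2.1 : GL Z3 F) = n⁻¹ * (n * a * n⁻¹ * (n * (q.2.1 : GL Z3 F) * n⁻¹)) * n := by group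
            _ = n⁻¹ * (n * (q.2.1 : GL Z3 F) * n⁻¹ * (n * a * n⁻¹)) * n := by rw [h]
            _ = _ := by group
    refine Nat.card_le_card_of_injective (fun q => (z q, (⟨_, hn q⟩ : N))) fun q q' e => ?_
    simp only [Prod.mk.injEq, Subtype.mk.injEq] at e
    obtain ⟨e1, e2⟩ := e
    rw [e1] at e2
    have hg : (q.1 : GL Z3 F) = q'.1 := mul_left_cancel e2
    have hx : (q.1 : GL Z3 F) * (q.2.1 : GL Z3 F) * (q.1 : GL Z3 F)⁻¹ =
        (q'.1 : GL Z3 F) * (q'.2.1 : GL Z3 F) * (q'.1 : GL Z3 F)⁻¹ := congrArg Subtype.val e1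
    rw [← hg] at hx
    exact Prod.ext (Subtype.ext hg) (Subtype.ext (Subtype.ext (mul_left_cancel (mul_right_cancel hx))))
  have hAsc : Nat.card {x : A // ¬ IsSc K (x : GL Z3 F)} + 3 = Nat.card A := by
    have h3 : Nat.card {x : A // IsSc K (x : GL Z3 F)} = 3 := by
      refine Eq.trans ?_ (Nat.card_zmod 3)
      refine (Nat.card_congr (Equiv.ofBijective
        (fun a : Z3 => (⟨⟨sc (K.e a), hscA a⟩, a, rfl⟩ : {x : A // IsSc K (x : GL Z3 F)})) ⟨fun a b e => ?_, ?_⟩)).symm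
      · exact sc_e_inj (congrArg (fun x : {x : A // IsSc K (x : GL Z3 F)} => ((x.1 : A) : GL Z3 F)) e)
      · rintro ⟨x, a, ha⟩
        exact ⟨a, Subtype.ext (Subtype.ext ha.symm)⟩
    have := card_split (fun _ : A => True) (fun x : A => IsSc K (x : GL Z3 F))
    simp only [true_and] at this
    rw [Nat.card_congr (Equiv.subtypeUnivEquiv fun _ => trivial), h3] at this
    omega
  -- the count
  obtain ⟨n, I, hn, -, -, -, hI, hMc, hrest⟩ := hC.card_rest
  have hlow : Nat.card {z : GL Z3 F // ∃ h ∈ M, h * K.W 1 0 * h⁻¹ = z} + Nat.card Ξ ≤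
      Nat.card {g : GL Z3 F // IsRest K M g} := by
    rw [← Nat.card_sum]
    refine Nat.card_le_card_of_injective
      (Sum.elim (fun z => (⟨z.1, hC.three_rest z.2⟩ : {g : GL Z3 F // IsRest K M g})) fun z => ⟨z.1, (hΞrest z).1⟩) ?_
    rintro (a | a) (b | b) e <;> simp only [Sum.elim_inl, Sum.elim_inr, Subtype.mk.injEq] at e
    · exact congrArg Sum.inl (Subtype.ext e)
    · exact absurd (e ▸ a.2) (hΞrest b).2
    · exact absurd (e.symm ▸ b.2) (hΞrest a).2
    · exact congrArg Sum.inr (Subtype.ext e)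
  have hE := hC.card_three
  have hkey : 4 * Nat.card M ≤ 15 * Nat.card Ξ := by
    refine Nat.le_of_mul_le_mul_left (c := Nat.card A) ?_ (Nat.card_pos (α := A))
    calc Nat.card A * (4 * Nat.card M) = Nat.card M * (4 * Nat.card A) := by ring
      _ ≤ Nat.card M * (5 * Nat.card {x : A // ¬ IsSc K (x : GL Z3 F)}) := Nat.mul_le_mul_left _ (by omega)
      _ = 5 * (Nat.card M * Nat.card {x : A // ¬ IsSc K (x : GL Z3 F)}) := by ring
      _ ≤ 5 * (Nat.card Ξ * Nat.card N) := Nat.mul_le_mul_left _ hbound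
      _ ≤ 5 * (Nat.card Ξ * (3 * Nat.card A)) := Nat.mul_le_mul_left _ (Nat.mul_le_mul_left _ hN3)
      _ = _ := by ring
  have h18 : I * (18 * n - 6) + 6 * I = 18 * (n * I) := by
    rw [mul_comm 6 I, ← mul_add, Nat.sub_add_cancel (by omega)]
    ring
  have hnI : I ≤ n * I := Nat.le_mul_of_pos_left I hn
  have h24 : 24 * n * I = 24 * (n * I) := mul_assoc _ _ _
  omega

/-- the elements of characteristic order modulo scalars -/
def IsP (M : Subgroup (GL Z3 F)) (p : ℕ) (g : GL Z3 F) : Prop := g ∈ M ∧ g ^ (3 * p) = 1 ∧ g ^ 3 ≠ 1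

theorem Ctx.rest_iff (hC : Ctx K p M) {g : GL Z3 F} :
    IsRest K M g ↔ (∃ h ∈ M, h * K.W 1 0 * h⁻¹ = g) ∨ IsP M p g := by
  classical
  have hp := (Fact.out : p.Prime)
  constructor
  · intro hg
    have hodd := hC.odd_of_no_invol hg.1 hg.2.2
    by_cases hpd : p ∣ orderOf g
    · obtain ⟨y, hy⟩ : ∃ y, g ^ (orderOf g / p) = y := ⟨_, rfl⟩
      have hyo : orderOf y = p := hy ▸ orderOf_pow_orderOf_div (orderOf_pos g).ne' hpd
      have hyM : y ∈ M := hy ▸ pow_mem hg.1 _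
      have hgy : g * y = y * g := hy ▸ (Commute.self_pow g _).eq
      obtain ⟨c, i, e⟩ := hC.cent_p hyM (hyo ▸ pow_orderOf_eq_one y)
        (fun h => by rw [h, orderOf_one] at hyo; exact hp.one_lt.ne hyo) hg.1 hgy
      refine Or.inr ⟨hg.1, ?_, fun h3 => ?_⟩
      · rw [e, (show Commute (sc (K.e c)) (y ^ i) from sc_comm _ _).mul_pow, pow_mul, sc_e_cube, one_pow,
          one_mul, ← pow_mul, mul_comm i, mul_assoc, mul_comm 3 (p * i), mul_assoc, pow_mul, ← hyo,
          pow_orderOf_eq_one, one_pow]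
      · have := Nat.le_of_dvd (by norm_num) (hpd.trans (orderOf_dvd_of_pow_eq_one h3))
        have := hC.five
        omega
    by_cases hl : ∃ l, l.Prime ∧ 5 ≤ l ∧ l ∣ orderOf g
    · exfalso
      obtain ⟨l, hl, hl5, hld⟩ := hl
      have hlp : l ≠ p := fun h => hpd (h ▸ hld)
      obtain ⟨y, hy⟩ : ∃ y, g ^ (orderOf g / l) = y := ⟨_, rfl⟩
      have hyo : orderOf y = l := hy ▸ orderOf_pow_orderOf_div (orderOf_pos g).ne' hld
      have hyM : y ∈ M := hy ▸ pow_mem hg.1 _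
      refine hC.no_semi hyM hl hl5 hlp hyo fun s hs hc => hg.2.2 s hs ?_
      have hsq : ¬ IsSc K (y * y) := by
        rintro ⟨b, hb⟩
        have h6 : orderOf y ∣ 6 := orderOf_dvd_of_pow_eq_one (by
          rw [show 6 = 2 * 3 by norm_num, pow_mul, pow_two, hb, sc_e_cube])
        rw [hyo] at h6
        have := Nat.le_of_dvd (by norm_num) h6
        interval_cases l <;> norm_num at *
      have hgy : y * g = g * y := hy ▸ (Commute.self_pow g _).eq.symm
      have hcg : y * (g * s * g⁻¹) = g * s * g⁻¹ * y := by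
        calc y * (g * s * g⁻¹) = y * g * s * g⁻¹ := by group
          _ = g * (y * s) * g⁻¹ := by rw [hgy]; group
          _ = g * s * (y * g⁻¹) := by rw [hc]; group
          _ = g * s * (g⁻¹ * y) := by rw [(Commute.inv_right (show Commute y g from hgy)).eq]
          _ = _ := by group
      have := hC.unique_invol hyM hsq hs.1 (hs.conj hg.1).1 hs.2.1 hs.2.2 (hs.conj hg.1).2.1
        (hs.conj hg.1).2.2 hc hcg
      rwa [mul_inv_eq_iff_eq_mul] at this
    · push Not at hl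
      obtain ⟨k, hk⟩ : ∃ k, orderOf g = 3 ^ k := by
        refine ⟨_, Nat.eq_prime_pow_of_unique_prime_dvd (orderOf_pos g).ne' fun {d} hd hdd => ?_⟩
        have h5 : ¬ 5 ≤ d := fun h => hl d hd h hdd
        have h2 : d ≠ 2 := fun h => (Nat.not_even_iff_odd.2 hodd) (even_iff_two_dvd.2 (h ▸ hdd))
        have := hd.two_le
        rcases (show d = 3 ∨ d = 4 by omega) with h | h
        · exact h
        · subst h; norm_num at hd
      exact Or.inl (hC.rest_three hg hg.1 (hk ▸ pow_orderOf_eq_one g) (fun hsc => hg.2.1 (hsc.mul hsc)) rfl)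
  · rintro (h | ⟨hg, hgp, hg3⟩)
    · exact hC.three_rest h
    have hy : (g ^ 3) ^ p = 1 := by rw [← pow_mul]; exact hgp
    refine ⟨hg, ?_, fun s hs hc => hC.p_no_invol (pow_mem hg 3) hy hg3 hs.1 hs.2.1 hs.2.2
      ((show Commute s g from hc.symm).pow_right 3).eq⟩
    rintro ⟨b, hb⟩
    refine hg3 ?_
    have h6 : g ^ 6 = 1 := by rw [show 6 = 2 * 3 by norm_num, pow_mul, pow_two, hb, sc_e_cube]
    refine pow_cancel_of_coprime hy (show (g ^ 3) ^ 2 = 1 by rw [← pow_mul]; exact h6) ?_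
    exact (Nat.coprime_primes hp Nat.prime_two).2 (by have := hC.five; omega)

/-- the elements of characteristic order in terms of the Sylow subgroups -/
theorem Ctx.card_p (hC : Ctx K p M) :
    Nat.card {g : GL Z3 F // IsP M p g} = 3 * Nat.card {y : GL Z3 F // y ∈ M ∧ y ^ p = 1 ∧ y ≠ 1} := by
  classical
  have hp := (Fact.out : p.Prime)
  have h3p : Nat.Coprime p 3 := (Nat.coprime_primes hp Nat.prime_three).2 (by have := hC.five; omega)
  refine Eq.trans ?_ (congrArg (· * _) (Nat.card_zmod 3))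
  rw [← Nat.card_prod]
  symm
  refine Nat.card_congr (Equiv.ofBijective (fun q : Z3 × {y : GL Z3 F // y ∈ M ∧ y ^ p = 1 ∧ y ≠ 1} =>
    (⟨sc (K.e q.1) * q.2.1, mul_mem (hC.ov.sc_mem _) q.2.2.1, ?_, ?_⟩ : {g : GL Z3 F // IsP M p g})) ⟨?_, ?_⟩)
  · rw [(show Commute (sc (K.e q.1)) q.2.1 from sc_comm _ _).mul_pow, pow_mul, sc_e_cube, one_pow, one_mul,
      mul_comm, pow_mul, q.2.2.2.1, one_pow]
  · rw [(show Commute (sc (K.e q.1)) q.2.1 from sc_comm _ _).mul_pow, sc_e_cube, one_mul]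
    exact fun h => q.2.2.2.2 (pow_cancel_of_coprime q.2.2.2.1 h h3p)
  · rintro ⟨c, y⟩ ⟨c', y'⟩ e
    have e1 : sc (K.e c) * y.1 = sc (K.e c') * y'.1 := congrArg Subtype.val e
    have e2 := congrArg (fun x : GL Z3 F => x ^ p) e1
    simp only [(show Commute (sc (K.e c)) y.1 from sc_comm _ _).mul_pow,
      (show Commute (sc (K.e c')) y'.1 from sc_comm _ _).mul_pow, y.2.2.1, y'.2.2.1, mul_one, sc_e_pow] at e2
    have hp3 : (p : Z3) ≠ 0 := fun h => by
      rw [ZMod.natCast_eq_zero_iff] at h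
      exact (Nat.Prime.coprime_iff_not_dvd Nat.prime_three).1 h3p.symm h
    obtain rfl : c = c' := mul_left_cancel₀ hp3 (sc_e_inj e2)
    rw [show y = y' from Subtype.ext (mul_left_cancel e1)]
  · rintro ⟨g, hg, hgp, hg3⟩
    have hy : (g ^ 3) ^ p = 1 := by rw [← pow_mul]; exact hgp
    obtain ⟨c, i, e⟩ := hC.cent_p (pow_mem hg 3) hy hg3 hg (Commute.self_pow g 3).eq
    refine ⟨(c, ⟨(g ^ 3) ^ i, pow_mem (pow_mem hg 3) i, by rw [← pow_mul, mul_comm, pow_mul, hy, one_pow], fun h => hg3 ?_⟩),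
      Subtype.ext e.symm⟩
    rw [h, mul_one] at e
    rw [e, sc_e_cube]

/-- there is no such group -/
theorem Ctx.false (hC : Ctx K p M) : False := by
  classical
  have hp := (Fact.out : p.Prime)
  obtain ⟨n, I, hn, hne, hn3, hpn, hI, hMc, hrest⟩ := hC.card_rest
  have hE := hC.card_three
  have hsum : Nat.card {g : GL Z3 F // IsRest K M g} =
      Nat.card {z : GL Z3 F // ∃ h ∈ M, h * K.W 1 0 * h⁻¹ = z} + Nat.card {g : GL Z3 F // IsP M p g} := by
    rw [card_split (IsRest K M) (fun g => ∃ h ∈ M, h * K.W 1 0 * h⁻¹ = g)]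
    refine congrArg₂ (· + ·) (Nat.card_congr (Equiv.subtypeEquivRight fun g => ?_))
      (Nat.card_congr (Equiv.subtypeEquivRight fun g => ?_))
    · exact ⟨fun h => h.2, fun h => ⟨hC.three_rest h, h⟩⟩
    · refine ⟨fun h => (hC.rest_iff.1 h.1).resolve_left h.2, fun h => ⟨hC.rest_iff.2 (Or.inr h), ?_⟩⟩
      rintro ⟨k, -, e⟩
      refine h.2.2 ?_
      rw [← e, conj_pow, W10_cube, mul_one, mul_inv_cancel]
  rw [hC.card_p] at hsum
  set Y := {y : GL Z3 F // y ∈ M ∧ y ^ p = 1 ∧ y ≠ 1}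
  have h18 : I * (18 * n - 6) + 6 * I = 18 * (n * I) := by
    rw [mul_comm 6 I, ← mul_add, Nat.sub_add_cancel (by omega)]
    ring
  have h24 : 24 * n * I = 24 * (n * I) := mul_assoc _ _ _
  have heq : 9 * Nat.card Y + 9 = I * (10 * n + 9) := by
    rw [show I * (10 * n + 9) = 10 * (n * I) + 9 * I by ring]
    omega
  rcases isEmpty_or_nonempty Y with hY | ⟨⟨y, hy, hyp, hy1⟩⟩
  · rw [Nat.card_of_isEmpty] at heq
    have := Nat.le_mul_of_pos_left (10 * n + 9) hI
    omega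
  -- the Sylow subgroups
  obtain ⟨P0, hP0⟩ : ∃ P0 : Sylow p M, (⟨y, hy⟩ : M) ∈ (P0 : Subgroup M) := by
    have hz : IsPGroup p (Subgroup.zpowers (⟨y, hy⟩ : M)) := IsPGroup.of_card (n := 1) (by
      rw [Nat.card_zpowers, pow_one]
      exact orderOf_eq_prime (Subtype.ext (by simpa using hyp)) (fun e => hy1 (congrArg Subtype.val e)))
    obtain ⟨Q, hQ⟩ := hz.exists_le_sylow
    exact ⟨Q, hQ (Subgroup.mem_zpowers _)⟩
  have hPc : ∀ Q : Sylow p M, Nat.card (Q : Subgroup M) = p := by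
    intro Q
    have hle := hC.small ((Q : Subgroup M).map M.subtype) (Subgroup.map_subtype_le _) (Q.2.map _)
    rw [Subgroup.card_subtype] at hle
    have hd : p ∣ Nat.card M := by
      have : orderOf (⟨y, hy⟩ : M) = p := orderOf_eq_prime (Subtype.ext (by simpa using hyp))
        (fun e => hy1 (congrArg Subtype.val e))
      exact this ▸ orderOf_dvd_natCard _
    have hpd : p ∣ Nat.card (Q : Subgroup M) := Q.dvd_card_of_dvd_card hd
    exact le_antisymm hle (Nat.le_of_dvd Nat.card_pos hpd)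
  have hpowQ : ∀ (R : Sylow p M) (v : (R : Subgroup M)), v ^ p = 1 := fun R v =>
    orderOf_dvd_iff_pow_eq_one.1 ((orderOf_dvd_natCard v).trans (dvd_of_eq (hPc R)))
  have hY : Nat.card Y = Nat.card (Sylow p M) * (p - 1) := by
    have hequiv : ∀ Q : Sylow p M, Nat.card {u : (Q : Subgroup M) // u ≠ 1} = p - 1 := by
      intro Q
      haveI := Fintype.ofFinite (Q : Subgroup M)
      rw [Nat.card_eq_fintype_card, Fintype.card_subtype_compl, Fintype.card_subtype_eq, ← Nat.card_eq_fintype_card, hPc]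
    have hsig : Nat.card (Σ Q : Sylow p M, {u : (Q : Subgroup M) // u ≠ 1}) = Nat.card Y := by
      refine Nat.card_congr (Equiv.ofBijective (fun q => (⟨((q.2.1 : M) : GL Z3 F), (q.2.1 : M).2, ?_, ?_⟩ : Y)) ⟨?_, ?_⟩)
      · have : (q.2.1 : (q.1 : Subgroup M)) ^ p = 1 := hpowQ _ _
        simpa using congrArg (fun u : (q.1 : Subgroup M) => ((u : M) : GL Z3 F)) this
      · exact fun e => q.2.2 (Subtype.ext (Subtype.ext e))
      · rintro ⟨Q, u⟩ ⟨Q', u'⟩ e
        have e1 : (u.1 : M) = u'.1 := Subtype.ext (congrArg (fun z : Y => (z.1 : GL Z3 F)) e)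
        have gen : ∀ (R : Sylow p M) (v : {v : (R : Subgroup M) // v ≠ 1}),
            Subgroup.zpowers (v.1 : M) = (R : Subgroup M) := fun R v =>
          Subgroup.eq_of_le_of_card_ge (Subgroup.zpowers_le.2 v.1.2) (by
            rw [hPc, Nat.card_zpowers, Subgroup.orderOf_coe, orderOf_eq_prime (hpowQ R v.1) v.2])
        obtain rfl : Q = Q' := Sylow.ext (by rw [← gen Q u, ← gen Q' u', e1])
        rw [show u = u' from Subtype.ext (Subtype.ext e1)]
      · rintro ⟨v, hv, hvp, hv1⟩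
        have hz : IsPGroup p (Subgroup.zpowers (⟨v, hv⟩ : M)) := IsPGroup.of_card (n := 1) (by
          rw [Nat.card_zpowers, pow_one]
          exact orderOf_eq_prime (Subtype.ext (by simpa using hvp)) (fun e => hv1 (congrArg Subtype.val e)))
        obtain ⟨Q, hQ⟩ := hz.exists_le_sylow
        exact ⟨⟨Q, ⟨⟨⟨v, hv⟩, hQ (Subgroup.mem_zpowers _)⟩,
          fun e => hv1 (congrArg (fun u : (Q : Subgroup M) => ((u : M) : GL Z3 F)) e)⟩⟩, rfl⟩
    rw [← hsig, Nat.card_sigma, Finset.sum_congr rfl fun Q _ => hequiv Q, Finset.sum_const, Finset.card_univ,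
      ← Nat.card_eq_fintype_card, smul_eq_mul]
  -- the normaliser of one of them
  set NP := Subgroup.normalizer (((P0 : Subgroup M)) : Set M) with hNP
  haveI : IsCyclic (P0 : Subgroup M) := isCyclic_of_prime_card (hPc P0)
  let φ := (P0 : Subgroup M).normalizerMonoidHom
  have hker : Nat.card φ.ker = 3 * p := by
    rw [show φ.ker = (Subgroup.centralizer ((P0 : Subgroup M) : Set M)).subgroupOf _ from
      Subgroup.normalizerMonoidHom_ker _,
      Nat.card_congr (Subgroup.subgroupOfEquivOfLe (Subgroup.centralizer_le_normalizer _)).toEquiv,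
      ]
    refine Eq.trans ?_ ((congrArg (Nat.card Z3 * ·) (hPc P0)).trans (congrArg (· * _) (Nat.card_zmod 3)))
    rw [← Nat.card_prod]
    symm
    refine Nat.card_congr (Equiv.ofBijective (fun q : Z3 × (P0 : Subgroup M) =>
      (⟨⟨sc (K.e q.1), hC.ov.sc_mem _⟩ * (q.2 : M), ?_⟩ : Subgroup.centralizer ((P0 : Subgroup M) : Set M))) ⟨?_, ?_⟩)
    · rw [Subgroup.mem_centralizer_iff]
      intro u hu
      have hc : u * (q.2 : M) = (q.2 : M) * u :=
        congrArg Subtype.val (mul_comm' (⟨u, hu⟩ : (P0 : Subgroup M)) q.2)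
      have hs : u * ⟨sc (K.e q.1), hC.ov.sc_mem _⟩ = (⟨sc (K.e q.1), hC.ov.sc_mem _⟩ : M) * u :=
        Subtype.ext (sc_comm _ _).symm
      rw [← mul_assoc, hs, mul_assoc, hc, mul_assoc]
    · rintro ⟨c, u⟩ ⟨c', u'⟩ e
      have e1 : sc (K.e c) * ((u : M) : GL Z3 F) = sc (K.e c') * ((u' : M) : GL Z3 F) :=
        congrArg (fun x : Subgroup.centralizer ((P0 : Subgroup M) : Set M) => ((x : M) : GL Z3 F)) e
      have hpow : ∀ u : (P0 : Subgroup M), ((u : M) : GL Z3 F) ^ p = 1 := fun u => by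
        have : u ^ p = 1 := hpowQ _ _
        simpa using congrArg (fun u : (P0 : Subgroup M) => ((u : M) : GL Z3 F)) this
      have e2 := congrArg (fun x : GL Z3 F => x ^ p) e1
      simp only [(show Commute (sc (K.e c)) ((u : M) : GL Z3 F) from sc_comm _ _).mul_pow,
        (show Commute (sc (K.e c')) ((u' : M) : GL Z3 F) from sc_comm _ _).mul_pow, hpow, mul_one, sc_e_pow] at e2
      have hp3 : (p : Z3) ≠ 0 := fun h => by
        rw [ZMod.natCast_eq_zero_iff] at h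
        have := (Nat.prime_dvd_prime_iff_eq Nat.prime_three hp).1 h
        have := hC.five
        omega
      obtain rfl : c = c' := mul_left_cancel₀ hp3 (sc_e_inj e2)
      rw [show u = u' from Subtype.ext (Subtype.ext (mul_left_cancel e1))]
    · rintro ⟨g, hg⟩
      have hc : (g : GL Z3 F) * y = y * g :=
        (congrArg Subtype.val (Subgroup.mem_centralizer_iff.1 hg _ hP0)).symm
      obtain ⟨c, i, e⟩ := hC.cent_p hy hyp hy1 g.2 hc
      exact ⟨(c, ⟨⟨y, hy⟩ ^ i, pow_mem hP0 i⟩), Subtype.ext (Subtype.ext (by simpa using e.symm))⟩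
  obtain ⟨j, hj⟩ : Nat.card φ.range ∣ p - 1 := by
    have h := Subgroup.card_subgroup_dvd_card φ.range
    rwa [IsCyclic.card_mulAut, hPc, Nat.totient_prime hp] at h
  have hcardN : Nat.card M = Nat.card (Sylow p M) * (3 * p * Nat.card φ.range) := by
    rw [← hker, P0.card_eq_index_normalizer, ← Subgroup.index_ker, Subgroup.card_mul_index, mul_comm]
    exact (Subgroup.card_mul_index _).symm
  rw [hY, mul_comm (Nat.card (Sylow p M))] at heq
  obtain ⟨hp5, -⟩ : p = 5 ∧ n = 2 := by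
    refine no_solution (k := Nat.card φ.range) (s := Nat.card (Sylow p M)) hp hC.five hn hne hn3 hpn heq ?_ hj ?_
    · rw [hMc] at hcardN
      nlinarith [hcardN]
    · have h := card_sylow_modEq_one p M
      rw [Nat.ModEq, Nat.one_mod_eq_one.2 hp.one_lt.ne'] at h
      exact h
  obtain ⟨r, hr, hr2, hr1, hrT, -⟩ := hC.exists_r
  rcases hC.good with h7 | hDg
  · omega
  exact (hC.ov.cent_struct_turn p hC.five hr hr2 hr1 hrT).1 fun g hg => hDg _ hg

end Cfsg.Agent.ClassicalMax.Hessian
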