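import Mathlib
import Cfsg.Prelude.Def_GeometricClasses
import Cfsg.Agent.ClassicalMax.Hessian.Diag
import Cfsg.Agent.ClassicalMax.Hessian.Semi

/-!
An absolutely irreducible group of symplectic type and exponent three in dimension three has order 27.
-/

set_option autoImplicit false
set_option linter.style.haveILetI false

namespace Cfsg.Agent.ClassicalMax.Hessian.Order

open Matrix
open scoped MatrixGroups

variable {F : Type*} [Field F]

theorem not_fixed : ∀ a b c : Fin 3, (a ≠ b ∧ a ≠ c ∧ b ≠ c) → ∀ i, i = a ∨ i = b ∨ i = c := by decide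

/-- the order is 27 -/
theorem card_eq [Finite F] {l : F} (hl : l * l + l + 1 = 0) (h3 : (3 : F) ≠ 0) (R : Subgroup (GL (Fin 3) F))
    (hexp : Monoid.exponent R = 3) (hirr : Cfsg.Geo.ActsAbsolutelyIrreducibly (Cfsg.Geo.matrixSet R))
    (hZ : Nat.card (Subgroup.center R) = 3) {m : ℕ} (hm : 1 ≤ m) (hcard : Nat.card R = 3 ^ (1 + 2 * m)) :
    Nat.card R = 27 ∧ ¬ IsMulCommutative R := by
  classical
  have hl1 : l ≠ 1 := fun h => h3 (by rw [h] at hl; linear_combination hl)
  have hl3 : l ^ 3 = 1 := by linear_combination (l - 1) * hl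
  have hl0 : l ≠ 0 := fun h => by rw [h] at hl; simp at hl
  have hζ : IsPrimitiveRoot l 3 := by
    haveI : Fact (Nat.Prime 3) := ⟨Nat.prime_three⟩
    exact IsPrimitiveRoot.iff_orderOf.2 (orderOf_eq_prime hl3 hl1)
  have h27 : 27 ≤ Nat.card R := by
    rw [hcard]
    calc 27 = 3 ^ 3 := by norm_num
      _ ≤ _ := Nat.pow_le_pow_right (by norm_num) (by omega)
  have hna : ¬ IsMulCommutative R := by
    intro h
    have htop : Subgroup.center R = ⊤ := eq_top_iff.2 fun x _ => Subgroup.mem_center_iff.2 fun y => h.is_comm.comm y x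
    rw [htop, Subgroup.card_top] at hZ
    omega
  refine ⟨?_, hna⟩
  have h3' : ∀ x : R, ((x : GL (Fin 3) F) : Matrix (Fin 3) (Fin 3) F) ^ 3 = 1 := fun x => by
    have h := congrArg Subtype.val (Monoid.pow_exponent_eq_one x)
    rw [hexp, Subgroup.coe_pow, Subgroup.coe_one] at h
    rw [← Units.val_pow_eq_pow_val, h, Units.val_one]
  -- the centre consists of scalars
  have hscal : ∀ z : R, z ∈ Subgroup.center R → ∃ c : F, ((z : GL (Fin 3) F) : Matrix (Fin 3) (Fin 3) F) = c • 1 := by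
    intro z hz
    refine hirr.2 _ ?_
    rintro _ ⟨x, hx, rfl⟩
    exact congrArg (fun u : R => ((u : GL (Fin 3) F) : Matrix (Fin 3) (Fin 3) F))
      (Subgroup.mem_center_iff.1 hz ⟨x, hx⟩).symm
  -- an element of the second centre
  haveI : Fact (Nat.Prime 3) := ⟨Nat.prime_three⟩
  have hp : IsPGroup 3 R := IsPGroup.of_card hcard
  haveI : Nontrivial (R ⧸ Subgroup.center R) := by
    rw [← Finite.one_lt_card_iff_nontrivial, ← Subgroup.index_eq_card]
    have := (Subgroup.center R).card_mul_index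
    rw [hZ] at this
    omega
  haveI := (hp.to_quotient (Subgroup.center R)).center_nontrivial
  obtain ⟨qa, hqa⟩ := exists_ne (1 : Subgroup.center (R ⧸ Subgroup.center R))
  obtain ⟨a, ha⟩ := QuotientGroup.mk_surjective (qa : R ⧸ Subgroup.center R)
  have hanz : a ∉ Subgroup.center R := fun h => hqa (Subtype.ext (ha.symm.trans ((QuotientGroup.eq_one_iff a).2 h)))
  have hcomm : ∀ b : R, b * a * b⁻¹ * a⁻¹ ∈ Subgroup.center R := fun b => by
    rw [← QuotientGroup.eq_one_iff, QuotientGroup.mk_mul, QuotientGroup.mk_mul, QuotientGroup.mk_mul,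
      QuotientGroup.mk_inv, QuotientGroup.mk_inv, ha, Subgroup.mem_center_iff.1 qa.2 (b : R ⧸ Subgroup.center R)]
    group
  obtain ⟨b, hb⟩ : ∃ b : R, b * a ≠ a * b := by
    by_contra hall
    push Not at hall
    exact hanz (Subgroup.mem_center_iff.2 hall)
  -- a frame for it
  obtain ⟨P, hP⟩ := Diag.exists_frame hζ (by exact_mod_cast h3) {((a : GL (Fin 3) F) : Matrix (Fin 3) (Fin 3) F)}
    (fun x hx => by rw [Finset.mem_singleton.1 hx]; exact h3' a)
    (fun x hx y hy => by rw [Finset.mem_singleton.1 hx, Finset.mem_singleton.1 hy])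
  obtain ⟨d, hd⟩ := hP _ (Finset.mem_singleton_self _)
  have hdd : Matrix.diagonal d = (↑P⁻¹ : Matrix (Fin 3) (Fin 3) F) * ((a : GL (Fin 3) F) : Matrix (Fin 3) (Fin 3) F) * P := by
    rw [Matrix.mul_assoc, hd, ← Matrix.mul_assoc, Units.inv_mul, Matrix.one_mul]
  have hd0 : ∀ i, d i ≠ 0 := fun i h => by
    have hdet : (Matrix.diagonal d).det ≠ 0 := by
      rw [hdd, Matrix.det_mul, Matrix.det_mul]
      exact mul_ne_zero (mul_ne_zero ((Matrix.isUnit_iff_isUnit_det _).1 P⁻¹.isUnit).ne_zero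
        ((Matrix.isUnit_iff_isUnit_det _).1 (a : GL (Fin 3) F).isUnit).ne_zero)
        ((Matrix.isUnit_iff_isUnit_det _).1 P.isUnit).ne_zero
    rw [Matrix.det_diagonal] at hdet
    exact hdet (Finset.prod_eq_zero (Finset.mem_univ i) h)
  -- the scalar of the commutator
  obtain ⟨c, hc⟩ := hscal _ (hcomm b)
  have hba : ((b : GL (Fin 3) F) : Matrix (Fin 3) (Fin 3) F) * ((a : GL (Fin 3) F) : Matrix (Fin 3) (Fin 3) F) *
      (((b : GL (Fin 3) F)⁻¹ : GL (Fin 3) F) : Matrix (Fin 3) (Fin 3) F) =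
      c • ((a : GL (Fin 3) F) : Matrix (Fin 3) (Fin 3) F) := by
    have e : (b : GL (Fin 3) F) * a * (b : GL (Fin 3) F)⁻¹ = ((b * a * b⁻¹ * a⁻¹ : R) : GL (Fin 3) F) * a := by simp
    rw [← Units.val_mul, ← Units.val_mul, e, Units.val_mul, hc, Matrix.smul_mul, Matrix.one_mul]
  have hc1 : c ≠ 1 := fun h => hb (by
    have e : ((b * a * b⁻¹ * a⁻¹ : R) : GL (Fin 3) F) = 1 := Units.ext (by rw [hc, h, one_smul, Units.val_one])
    have e' : b * a * b⁻¹ * a⁻¹ = 1 := Subtype.ext e
    calc b * a = b * a * b⁻¹ * a⁻¹ * (a * b) := by group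
      _ = a * b := by rw [e', one_mul])
  have hc3 : c ^ 3 = 1 := by
    have h := h3' (b * a * b⁻¹ * a⁻¹)
    rw [hc, smul_pow, one_pow] at h
    have := congrFun (congrFun h 0) 0
    simpa using this
  obtain ⟨σ, hσ⟩ := Diag.perm_of_conj (d := d) (d' := fun i => c * d i)
    (P⁻¹ * (b : GL (Fin 3) F) * P) (by
      have e : ((P⁻¹ * (b : GL (Fin 3) F) * P)⁻¹ : GL (Fin 3) F) = P⁻¹ * (b : GL (Fin 3) F)⁻¹ * P := by group
      rw [show (Matrix.diagonal fun i => c * d i) = c • Matrix.diagonal d from Matrix.diagonal_smul c d]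
      show ((P⁻¹ * (b : GL (Fin 3) F) * P : GL (Fin 3) F) : Matrix (Fin 3) (Fin 3) F) * _ *
        (((P⁻¹ * (b : GL (Fin 3) F) * P)⁻¹ : GL (Fin 3) F) : Matrix (Fin 3) (Fin 3) F) = _
      rw [e, hdd]
      simp only [Units.val_mul, Matrix.mul_assoc, Units.mul_inv_cancel_left]
      rw [← Matrix.mul_assoc ((a : GL (Fin 3) F) : Matrix (Fin 3) (Fin 3) F), ← Matrix.mul_assoc
        ((b : GL (Fin 3) F) : Matrix (Fin 3) (Fin 3) F), ← Matrix.mul_assoc ((b : GL (Fin 3) F) : Matrix (Fin 3) (Fin 3) F),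
        hba, Matrix.smul_mul, Matrix.mul_smul])
  have hσ' : ∀ i, c * d i = d (σ i) := fun i => congrFun hσ i
  have hinj : Function.Injective d := by
    have hc2 : c * c ≠ 1 := fun h => hc1 (by rw [pow_succ, pow_two, h, one_mul] at hc3; exact hc3)
    have n1 : d (σ 0) ≠ d 0 := fun h => hc1 (by
      rw [← hσ'] at h; exact (mul_eq_right₀ (hd0 0)).1 h)
    have n2 : d (σ (σ 0)) ≠ d 0 := fun h => hc2 (by
      rw [← hσ', ← hσ', ← mul_assoc] at h; exact (mul_eq_right₀ (hd0 0)).1 h)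
    have n3 : d (σ (σ 0)) ≠ d (σ 0) := fun h => hc1 (by
      rw [← hσ' (σ 0)] at h; exact (mul_eq_right₀ (hd0 _)).1 h)
    have hh := not_fixed 0 (σ 0) (σ (σ 0)) ⟨fun h => n1 (congrArg d h).symm, fun h => n2 (congrArg d h).symm,
      fun h => n3 (congrArg d h).symm⟩
    intro i j hij
    rcases hh i with rfl | rfl | rfl <;> rcases hh j with rfl | rfl | rfl <;>
      first | rfl | exact absurd hij.symm n1 | exact absurd hij n1 | exact absurd hij.symm n2 | exact absurd hij n2 |
        exact absurd hij.symm n3 | exact absurd hij n3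
  -- the centraliser of the element is diagonal
  let C : Subgroup R := Subgroup.centralizer {a}
  have hdiag : ∀ x : C, ∀ i, ∃ e : Fin 3, ((↑P⁻¹ : Matrix (Fin 3) (Fin 3) F) *
      (((x : R) : GL (Fin 3) F) : Matrix (Fin 3) (Fin 3) F) * P) i i = l ^ (e : ℕ) ∧
      ∀ j, i ≠ j → ((↑P⁻¹ : Matrix (Fin 3) (Fin 3) F) *
        (((x : R) : GL (Fin 3) F) : Matrix (Fin 3) (Fin 3) F) * P) i j = 0 := by
    intro x i
    set X : Matrix (Fin 3) (Fin 3) F := (↑P⁻¹ : Matrix (Fin 3) (Fin 3) F) *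
      (((x : R) : GL (Fin 3) F) : Matrix (Fin 3) (Fin 3) F) * P with hX
    have hxa : (((x : R) : GL (Fin 3) F) : Matrix (Fin 3) (Fin 3) F) * (a : GL (Fin 3) F) =
        ((a : GL (Fin 3) F) : Matrix (Fin 3) (Fin 3) F) * ((x : R) : GL (Fin 3) F) := by
      have := congrArg (fun u : R => ((u : GL (Fin 3) F) : Matrix (Fin 3) (Fin 3) F))
        (Subgroup.mem_centralizer_iff.1 x.2 a rfl)
      simpa using this.symm
    have hXd : X * Matrix.diagonal d = Matrix.diagonal d * X := by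
      rw [hdd, hX]
      simp only [Matrix.mul_assoc, Units.mul_inv_cancel_left]
      rw [← Matrix.mul_assoc (((x : R) : GL (Fin 3) F) : Matrix (Fin 3) (Fin 3) F), hxa, Matrix.mul_assoc]
    have hoff : ∀ i j, i ≠ j → X i j = 0 := fun i j h => Semi.comm_entry hXd fun e => h (hinj e)
    suffices h : ∃ e : Fin 3, X i i = l ^ (e : ℕ) from h.elim fun k hk => ⟨k, hk, hoff i⟩
    have hX3 : X ^ 3 = 1 := by
      rw [hX, Units.conj_pow', h3', Matrix.mul_one, Units.inv_mul]
    have hXD : X = Matrix.diagonal fun i => X i i := by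
      ext i j
      rw [Matrix.diagonal_apply]
      split_ifs with h
      · rw [h]
      · exact hoff i j h
    have hcube : X i i ^ 3 = 1 := by
      have := congrFun (congrFun hX3 i) i
      rwa [hXD, Matrix.diagonal_pow, Matrix.diagonal_apply_eq, Matrix.one_apply_eq, Pi.pow_apply] at this
    obtain ⟨k, hk, hk'⟩ := hζ.eq_pow_of_pow_eq_one hcube
    exact ⟨⟨k, hk⟩, hk'.symm⟩
  choose e he hoff using hdiag
  have hC : Nat.card C ≤ 27 := by
    calc Nat.card C ≤ Nat.card (Fin 3 → Fin 3) := Nat.card_le_card_of_injective e fun x y hxy => by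
          refine Subtype.ext (Subtype.ext (Units.ext ?_))
          have h : (↑P⁻¹ : Matrix (Fin 3) (Fin 3) F) * (((x : R) : GL (Fin 3) F) : Matrix (Fin 3) (Fin 3) F) * P =
              (↑P⁻¹ : Matrix (Fin 3) (Fin 3) F) * (((y : R) : GL (Fin 3) F) : Matrix (Fin 3) (Fin 3) F) * P := by
            ext i j
            by_cases hij : i = j
            · rw [← hij, he x i, he y i, hxy]
            · rw [hoff x i j hij, hoff y i j hij]
          exact P⁻¹.isUnit.mul_left_cancel (P.isUnit.mul_right_cancel h)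
      _ = 27 := by simp
  -- its index is at most three
  have hidx : Nat.card R ≤ Nat.card C * 3 := by
    refine le_of_le_of_eq ?_ (congrArg (Nat.card C * ·) hZ)
    refine Semi.card_le_of_fibre C (fun r => (⟨r * a * r⁻¹ * a⁻¹, hcomm r⟩ : Subgroup.center R)) fun n k h => ?_
    have h' : n * a * n⁻¹ = k * a * k⁻¹ := mul_right_cancel (congrArg Subtype.val h)
    refine Subgroup.mem_centralizer_singleton_iff.2 ?_
    calc k⁻¹ * n * a = k⁻¹ * (n * a * n⁻¹) * n := by group
      _ = k⁻¹ * (k * a * k⁻¹) * n := by rw [h']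
      _ = a * (k⁻¹ * n) := by group
  have hle : 3 ^ (1 + 2 * m) < 3 ^ 5 := by rw [← hcard]; omega
  have := (Nat.pow_lt_pow_iff_right (by norm_num)).1 hle
  obtain rfl : m = 1 := by omega
  rw [hcard]
  norm_num

end Cfsg.Agent.ClassicalMax.Hessian.Order
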