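import Mathlib
import Cfsg.Agent.ClassicalMax.Hessian.Count
import Cfsg.Agent.ClassicalMax.Hessian.Order
import Cfsg.Agent.ClassicalMax.SL3.Root
import Cfsg.Agent.Extra27.Basic
import Cfsg.Agent.ClassicalMax.SympThree.Full

/-!
The normaliser of an extraspecial group of order 27 is maximal in the special linear group of dimension three over a
prime field.
-/

set_option autoImplicit false
set_option linter.style.haveILetI false

namespace Cfsg.Agent.ClassicalMax.Hessian

open Matrix SympThree Module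
open scoped MatrixGroups

section core

variable {F : Type*} [Field F] {K : Root F} {M : Subgroup (GL Z3 F)} {p : ℕ} [Fact p.Prime] [CharP F p] [Fintype F]
variable [NeZero (2 : F)]

/-- an overgroup without transvections and with small subgroups of characteristic exponent normalises -/
theorem core_five (h5 : 5 ≤ p) (hgood : 7 ≤ p ∨ ∀ g ∈ M, K.Dg 1 * g * (K.Dg 1)⁻¹ ∈ M) (hM : Over K M)
    (hsmall : ∀ S : Subgroup (GL Z3 F), S ≤ M → IsPGroup p S → Nat.card S ≤ p) : ∀ g ∈ M, K.Nor g := by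
  by_cases h : ∀ g ∈ M, g * Root.T * g⁻¹ * Root.T = Root.T * (g * Root.T * g⁻¹) → g * Root.T * g⁻¹ = Root.T
  · exact hM.isolated h
  push Not at h
  obtain ⟨g, hg, hc, hne⟩ := h
  exact (Ctx.false ⟨hM, h5, hgood, hsmall, g, hg, hc, hne⟩).elim

/-- the same in characteristic at least seven -/
theorem core (h7 : 7 ≤ p) (hM : Over K M)
    (hsmall : ∀ S : Subgroup (GL Z3 F), S ≤ M → IsPGroup p S → Nat.card S ≤ p) : ∀ g ∈ M, K.Nor g :=
  core_five (le_trans (by norm_num) h7) (Or.inl h7) hM hsmall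

/-- over the prime field a group without transvections has small subgroups of characteristic exponent -/
theorem small_of_nt (h3 : 3 ≤ p) (hF : Fintype.card F = p)
    (nt : ∀ g ∈ M, ((g : Matrix Z3 Z3 F) - 1) * ((g : Matrix Z3 Z3 F) - 1) = 0 → g = 1) :
    ∀ S : Subgroup (GL Z3 F), S ≤ M → IsPGroup p S → Nat.card S ≤ p := by
  classical
  intro S hSM hS
  have hp := (Fact.out : p.Prime)
  by_contra hgt
  push Not at hgt
  obtain ⟨k, hk⟩ := IsPGroup.iff_card.1 hS
  have hk2 : 2 ≤ k := by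
    by_contra hk2
    have : p ^ k ≤ p ^ 1 := Nat.pow_le_pow_right hp.pos (by omega)
    rw [pow_one] at this
    omega
  obtain ⟨U0, hU0⟩ := Sylow.exists_subgroup_card_pow_prime (G := S) p (n := 2) (hk ▸ pow_dvd_pow p hk2)
  set U := U0.map S.subtype with hUdef
  have hU : Nat.card U = p ^ 2 := by rw [hUdef, Subgroup.card_subtype, hU0]
  have hUM : U ≤ M := (Subgroup.map_subtype_le _).trans hSM
  have hab : ∀ x y : U, x * y = y * x := IsPGroup.commutative_of_card_eq_prime_sq hU
  obtain ⟨y0, hy0⟩ := exists_prime_orderOf_dvd_card' (G := U) p (hU ▸ dvd_pow_self p two_ne_zero)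
  set y : GL Z3 F := (y0 : GL Z3 F) with hy
  have hyo : orderOf y = p := by rw [hy, Subgroup.orderOf_coe, hy0]
  have hN2 : ((y : Matrix Z3 Z3 F) - 1) * ((y : Matrix Z3 Z3 F) - 1) ≠ 0 := fun e => by
    rw [nt y (hUM y0.2) e, orderOf_one] at hyo
    exact hp.one_lt.ne hyo
  obtain ⟨hN3, hpoly⟩ := regular_unip (p := p) (hyo ▸ pow_orderOf_eq_one y) hN2
  set N : Matrix Z3 Z3 F := (y : Matrix Z3 Z3 F) - 1 with hN
  have hxy : ∀ x : U, (x : GL Z3 F) * y = y * x := fun x => congrArg Subtype.val (hab x y0)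
  choose a b c habc using fun x : U => hpoly x (hxy x)
  have hNp : N ^ p = 0 := pow_eq_zero_of_le h3 hN3
  have ha : ∀ x : U, a x = 1 := by
    intro x
    obtain ⟨k, hk⟩ := (IsPGroup.of_card hU) x
    have hk' : (x : GL Z3 F) ^ p ^ k = 1 := by simpa using congrArg Subtype.val hk
    have hgp : ((x : GL Z3 F) : Matrix Z3 Z3 F) ^ p = a x ^ p • 1 := by
      rw [habc]
      have c1 : Commute (a x • (1 : Matrix Z3 Z3 F) + b x • N) (c x • (N * N)) :=
        ((((Commute.one_left (N * N)).smul_left (a x)).add_left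
          (((Commute.refl N).mul_right (Commute.refl N)).smul_left (b x)))).smul_right (c x)
      rw [add_pow_char_of_commute p c1, add_pow_char_of_commute p (((Commute.one_left N).smul_left (a x)).smul_right (b x)),
        smul_pow, smul_pow, smul_pow, one_pow, (Commute.refl N).mul_pow, hNp, zero_mul, smul_zero, smul_zero, add_zero,
        add_zero]
    rw [← hF, FiniteField.pow_card, hF] at hgp
    have e := congrArg (fun u : GL Z3 F => (u : Matrix Z3 Z3 F)) hk'
    simp only [Units.val_pow_eq_pow_val, Units.val_one] at e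
    have hkpos : k = 0 ∨ 1 ≤ k := Nat.eq_zero_or_pos k
    rcases hkpos with rfl | hkpos
    · rw [pow_zero, pow_one, habc] at e
      have h00 : a x • (1 : Matrix Z3 Z3 F) + b x • N + c x • (N * N) = 1 := e
      have h' := congrArg (fun X : Matrix Z3 Z3 F => X * (N * N)) h00
      have hn4 : N * (N * N) = 0 := by rw [← pow_two, ← pow_succ', hN3]
      simp only [Matrix.add_mul, Matrix.smul_mul, Matrix.one_mul, Matrix.mul_assoc, hn4, Matrix.mul_zero, smul_zero,
        add_zero] at h'
      exact (smul_left_injective F hN2) (h'.trans (one_smul F _).symm)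
    · have hap : a x ^ p ^ (k - 1) = 1 := by
        rw [show p ^ k = p * p ^ (k - 1) by rw [← pow_succ', Nat.sub_add_cancel hkpos], pow_mul, hgp, smul_pow,
          one_pow] at e
        have := congrFun (congrFun e 0) 0
        simpa using this
      generalize k - 1 = j at hap
      induction j with
      | zero => simpa using hap
      | succ j ih => exact ih (eq_one_of_pow_char p (by rw [← pow_mul, ← pow_succ]; exact hap))
  have hNN : Commute N N := Commute.refl N
  have hxN : ∀ x : U, Commute ((x : GL Z3 F) : Matrix Z3 Z3 F) N := fun x => by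
    rw [habc]
    exact (((Commute.one_left N).smul_left _).add_left (hNN.smul_left _)).add_left
      ((hNN.mul_left hNN).smul_left _)
  have hle := Nat.card_le_card_of_injective b fun x x' e => by
    have hw : ((x⁻¹ * x' : U) : GL Z3 F) = 1 := by
      refine nt _ (hUM (x⁻¹ * x').2) ?_
      have hd : ((x' : GL Z3 F) : Matrix Z3 Z3 F) - (x : GL Z3 F) = (c x' - c x) • (N * N) := by
        rw [habc, habc, ha, ha, e, sub_smul]
        abel
      have h1 : (((x⁻¹ * x' : U) : GL Z3 F) : Matrix Z3 Z3 F) - 1 =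
          (((x⁻¹ : U) : GL Z3 F) : Matrix Z3 Z3 F) * ((c x' - c x) • (N * N)) := by
        rw [← hd, Matrix.mul_sub, ← Units.val_mul, ← Units.val_mul, ← Subgroup.coe_mul, ← Subgroup.coe_mul,
          inv_mul_cancel, Subgroup.coe_one, Units.val_one]
      rw [h1, Matrix.mul_smul, Matrix.smul_mul, Matrix.mul_smul]
      have hcN : Commute (((x⁻¹ : U) : GL Z3 F) : Matrix Z3 Z3 F) (N * N) := (hxN x⁻¹).mul_right (hxN x⁻¹)
      have h4 : N * N * (N * N) = 0 := by
        rw [show N * N * (N * N) = N ^ 4 by noncomm_ring, pow_eq_zero_of_le (by norm_num) hN3]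
      rw [hcN.eq, Matrix.mul_assoc, ← Matrix.mul_assoc _ (N * N), hcN.eq, Matrix.mul_assoc (N * N), ← Matrix.mul_assoc
        (N * N) (N * N), h4, Matrix.zero_mul, smul_zero, smul_zero]
    calc x = x * (x⁻¹ * x') := by rw [show x⁻¹ * x' = 1 from Subtype.ext hw, mul_one]
      _ = x' := mul_inv_cancel_left x x'
  rw [hU, Nat.card_eq_fintype_card, hF] at hle
  nlinarith [hp.two_le]

end core

section frame

variable {F : Type*} [Field F] [Finite F] [NeZero (2 : F)] (K : Root F)

/-- a normalising element maps the group of order 27 into itself -/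
theorem conj_mem_Rg {n : GL Z3 F} (hn : K.Nor n) {x : GL Z3 F} (hx : x ∈ Rg K) : n * x * n⁻¹ ∈ Rg K := by
  obtain ⟨c, a, b, rfl⟩ := hx
  obtain ⟨d, a', b', e⟩ := hn a b
  have hd3 : ((d : Fˣ) : F) ^ 3 = 1 := by
    have h := congrArg (fun g : GL Z3 F => (g : Matrix Z3 Z3 F).det) e
    rw [det_sc_mul] at h
    simp only [ZMod.card, K.det_W, mul_one] at h
    rw [← h, Units.val_mul, Units.val_mul, Matrix.det_units_conj, K.det_W]
  obtain ⟨d', hd'⟩ := K.exists_e hd3
  exact ⟨c + d', a', b', by rw [conj_sc_mul, e, show d = K.e d' from Units.ext hd', ← mul_assoc, sc_e_mul]⟩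

theorem mem_normalizer_Rg {n : GL Z3 F} : n ∈ Subgroup.normalizer (Rg K : Set (GL Z3 F)) ↔ K.Nor n := by
  constructor
  · exact fun h => nor_of_conj K fun x hx => (Subgroup.mem_normalizer_iff.1 h x).1 hx
  · intro h
    refine Subgroup.mem_normalizer_iff.2 fun x => ⟨conj_mem_Rg K h, fun hx => ?_⟩
    have := conj_mem_Rg K (K.nor_inv h) hx
    rwa [inv_inv, show n⁻¹ * (n * x * n⁻¹) * n = x by group] at this

theorem nor_Dg (x : Z3) (hx : x = 1) : K.Nor (K.Dg x) := by
  subst hx
  exact fun a b => ⟨_, _, _, Dg_conj K a b⟩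

/-- the elementary transvection does not normalise -/
theorem not_nor_shear {t : GL Z3 F} (ht : (t : Matrix Z3 Z3 F) = 1 + Matrix.single 0 1 1) : ¬ K.Nor t := by
  intro h
  obtain ⟨c, a, b, e⟩ := h 1 0
  have e' : ((t * K.W 1 0 : GL Z3 F) : Matrix Z3 Z3 F) = ((sc c * K.W a b * t : GL Z3 F) : Matrix Z3 Z3 F) := by
    rw [← e, inv_mul_cancel_right]
  rw [Units.val_mul, Units.val_mul (sc c * K.W a b), val_sc_mul, ht, Matrix.smul_mul] at e'
  have e00 := congrFun (congrFun e' 0) 0
  have e01 := congrFun (congrFun e' 0) 1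
  have e21 := congrFun (congrFun e' 2) 1
  have e11 := congrFun (congrFun e' 1) 1
  simp only [Matrix.add_mul, Matrix.mul_add, Matrix.one_mul, Matrix.mul_one, Matrix.add_apply, Matrix.smul_apply,
    Matrix.single_mul_apply_same, Matrix.mul_single_apply_same, smul_eq_mul] at e00 e01 e21 e11
  have hl := K.ne_one
  rcases z3_cases b with rfl | rfl | rfl
  · simp +decide [Root.W_val, Matrix.mul_apply, sum_z3, Matrix.single, Root.eval0, Root.eval1] at e00 e01
    exact hl (by linear_combination e01 - e00)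
  · simp +decide [Root.W_val, Matrix.mul_apply, sum_z3, Matrix.single, Root.eval0] at e00
  · simp +decide [Root.W_val, Matrix.mul_apply, sum_z3, Matrix.single, Root.eval0] at e00

/-- the generators act irreducibly -/
theorem irreducible {M : Subgroup (GL Z3 F)} (hW : ∀ a b, K.W a b ∈ M) (U : Submodule F (Z3 → F))
    (hU : ∀ g ∈ M, ∀ u ∈ U, (g : Matrix Z3 Z3 F) *ᵥ u ∈ U) : U = ⊥ ∨ U = ⊤ := by
  classical
  by_cases hb : U = ⊥
  · exact Or.inl hb
  refine Or.inr (eq_top_iff.2 fun v _ => ?_)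
  obtain ⟨u, hu, hu0⟩ := Submodule.exists_mem_ne_zero_of_ne_bot hb
  obtain ⟨z, hz⟩ : ∃ z, u z ≠ 0 := by
    by_contra! h
    exact hu0 (funext h)
  have hWv : ∀ a b (w : Z3 → F) z, ((K.W a b : Matrix Z3 Z3 F) *ᵥ w) z = (K.e (a * z) : F) * w (z - b) := fun a b w z => by
    rw [Matrix.mulVec, dotProduct, Finset.sum_eq_single (z - b) (fun x _ hx => by
      rw [Root.W_val, if_neg (fun h => hx (by rw [h, add_sub_cancel_right])), zero_mul]) (by simp), Root.W_val,
      if_pos (sub_add_cancel z b).symm]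
  have hsum : ∀ d : Z3, (1 : F) + (K.e d : F) + (K.e (d + d) : F) = if d = 0 then 3 else 0 := by
    intro d
    rcases z3_cases d with rfl | rfl | rfl <;>
      simp +decide [Root.eval0, Root.eval1, Root.eval2, show (1 : Z3) + 1 = 2 by decide, show (2 : Z3) + 2 = 1 by decide]
    · norm_num
    · linear_combination K.eqn
    · linear_combination K.eqn
  have hsingle : ∀ w : Z3, Pi.single w (1 : F) ∈ U := by
    intro w
    have hs : (Pi.single z ((3 : F) * u z) : Z3 → F) = u + (K.e (-z) : F) • ((K.W 1 0 : Matrix Z3 Z3 F) *ᵥ u) +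
        (K.e (-z + -z) : F) • ((K.W 2 0 : Matrix Z3 Z3 F) *ᵥ u) := by
      funext x
      simp only [Pi.add_apply, Pi.smul_apply, smul_eq_mul, hWv, sub_zero, one_mul, Pi.single_apply]
      have h := hsum (x - z)
      rw [show x - z + (x - z) = -z + -z + 2 * x by ring, show x - z = -z + x by ring, K.e_add, K.e_add] at h
      push_cast at h
      by_cases hx : x = z
      · subst hx
        rw [if_pos rfl, if_pos (neg_add_cancel x)] at *
        linear_combination -(u x) * h
      · rw [if_neg hx]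
        rw [if_neg (fun e => hx (by linear_combination e))] at h
        linear_combination -(u x) * h
    have hzU : Pi.single z (1 : F) ∈ U := by
      have := U.smul_mem ((3 : F) * u z)⁻¹ (hs.symm ▸ U.add_mem (U.add_mem hu (U.smul_mem _ (hU _ (hW 1 0) _ hu)))
        (U.smul_mem _ (hU _ (hW 2 0) _ hu)) : Pi.single z ((3 : F) * u z) ∈ U)
      rwa [← Pi.single_smul, smul_eq_mul, inv_mul_cancel₀ (mul_ne_zero K.three hz)] at this
    have := hU _ (hW 0 (w - z)) _ hzU
    rwa [show ((K.W 0 (w - z) : Matrix Z3 Z3 F) *ᵥ Pi.single z (1 : F)) = Pi.single w 1 by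
      funext x
      rw [hWv, zero_mul, Root.eval0, one_mul, Pi.single_apply, Pi.single_apply]
      have hiff : x - (w - z) = z ↔ x = w := ⟨fun h => by linear_combination h, fun h => by rw [h]; ring⟩
      by_cases h : x = w
      · rw [if_pos h, if_pos (hiff.2 h)]
      · rw [if_neg h, if_neg (mt hiff.1 h)]] at this
  rw [pi_eq_sum_univ' v]
  exact sum_mem fun w _ => U.smul_mem _ (hsingle w)

end frame

/-- a square zero deviation is a transvection -/
theorem exists_tvec {F : Type*} [Field F] (g : GL Z3 F) (h0 : g ≠ 1)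
    (h2 : ((g : Matrix Z3 Z3 F) - 1) * ((g : Matrix Z3 Z3 F) - 1) = 0) :
    ∃ (φ : Dual F (Z3 → F)) (v : Z3 → F), φ v = 0 ∧ φ ≠ 0 ∧ v ≠ 0 ∧ glEquiv Z3 F g = tvec φ v := by
  set f : (Z3 → F) →ₗ[F] (Z3 → F) := ((g : Matrix Z3 Z3 F) - 1).mulVecLin with hf
  have hff : ∀ x, f (f x) = 0 := fun x => by
    simp only [hf, Matrix.mulVecLin_apply, Matrix.mulVec_mulVec, h2, Matrix.zero_mulVec]
  have hle : LinearMap.range f ≤ LinearMap.ker f := by
    rintro _ ⟨x, rfl⟩
    exact hff x
  have hne : LinearMap.range f ≠ ⊥ := fun e => h0 (Units.ext (sub_eq_zero.1 (Matrix.ext_iff_mulVec.2 fun x => by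
    rw [Matrix.zero_mulVec]
    exact (Submodule.eq_bot_iff _).1 e _ (LinearMap.mem_range_self f x))))
  obtain ⟨v, hv, hv0⟩ := Submodule.exists_mem_ne_zero_of_ne_bot hne
  have hdim : finrank F (LinearMap.range f) ≤ 1 := by
    have h := LinearMap.finrank_range_add_finrank_ker f
    have h' := Submodule.finrank_mono hle
    rw [Module.finrank_fintype_fun_eq_card, ZMod.card] at h
    omega
  have heq : F ∙ v = LinearMap.range f := Submodule.eq_of_le_of_finrank_le
    ((Submodule.span_singleton_le_iff_mem _ _).2 hv) (by rw [finrank_span_singleton hv0]; exact hdim)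
  obtain ⟨ψ, hψ, -⟩ := exists_dual_one (F := F) (⊥ : Submodule F (Z3 → F)) (x := v) (by simpa using hv0)
  have hrep : ∀ x, f x = ψ (f x) • v := fun x => by
    obtain ⟨a, ha⟩ := Submodule.mem_span_singleton.1 (heq.ge (LinearMap.mem_range_self f x))
    rw [← ha, map_smul, hψ, smul_eq_mul, mul_one]
  have hφv : (ψ ∘ₗ f) v = 0 := by
    obtain ⟨x, rfl⟩ := hv
    rw [LinearMap.comp_apply, hff, map_zero]
  refine ⟨ψ ∘ₗ f, v, hφv, fun e => ?_, hv0, LinearEquiv.ext fun x => ?_⟩
  · refine hne ((Submodule.eq_bot_iff _).2 ?_)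
    rintro _ ⟨x, rfl⟩
    rw [hrep x, show ψ (f x) = 0 from LinearMap.congr_fun e x, zero_smul]
  · rw [tvec_apply hφv, LinearMap.comp_apply, ← hrep x, hf, glEquiv_apply, Matrix.mulVecLin_apply, Matrix.sub_mulVec,
      Matrix.one_mulVec, add_sub_cancel]

/-- a transvection in an overgroup gives the special linear group -/
theorem all_of_transvection {F : Type*} [Field F] [Fintype F] [NeZero (2 : F)] (K : Root F) (hp : (Fintype.card F).Prime)
    {M : Subgroup (GL Z3 F)} (hW : ∀ a b, K.W a b ∈ M) {g : GL Z3 F} (hg : g ∈ M) (hne : g ≠ 1)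
    (h2 : ((g : Matrix Z3 Z3 F) - 1) * ((g : Matrix Z3 Z3 F) - 1) = 0) : Cfsg.Geo.specialLinear Z3 F ≤ M := by
  obtain ⟨φ, v, hφv, hφ, hv, he⟩ := exists_tvec g hne h2
  refine specialLinear_le M fun χ u hχ => ?_
  have hm : tvec φ v ∈ M.map (glEquiv Z3 F).toMonoidHom := ⟨g, hg, he⟩
  have hR := SL3.root_of_tvec hp hφv hφ hv hm
  obtain ⟨k, hk, hke⟩ := SL3.all_of_root (by rw [Module.finrank_fintype_fun_eq_card, ZMod.card])
    (fun U hU => irreducible K hW U fun x hx u hu => by
      rw [← glEquiv_apply]; exact hU _ ⟨x, hx, rfl⟩ u hu) hR χ u hχ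
  rw [show (glEquiv Z3 F).symm (tvec χ u) = k by rw [← hke]; exact (glEquiv Z3 F).symm_apply_apply k]
  exact hk

/-- the normaliser of the group of order 27 is maximal -/
theorem isMaximal {F : Type*} [Field F] [Fintype F] (p : ℕ) (R : Subgroup (Matrix.GeneralLinearGroup (Fin 3) F))
    (hp : p.Prime) (hF : Fintype.card F = p) (hp3 : p % 3 = 1) (hd : Cfsg.Geo.IsLinearSymplecticTypeData 3 R) :
    Cfsg.Geo.IsMaximalIn (Cfsg.Geo.specialLinear (Fin 3) F)
      (Cfsg.Geo.subgroupNormalizer R ⊓ Cfsg.Geo.specialLinear (Fin 3) F) := by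
  classical
  haveI : Fact p.Prime := ⟨hp⟩
  haveI : CharP F p := charP_of_card_eq_prime (by rw [Fintype.card_eq_nat_card] at *; exact hF)
  have hp7 : 7 ≤ p := by
    rcases Nat.lt_or_ge p 7 with h | h
    · have := hp.two_le
      interval_cases p <;> first | omega | (norm_num at hp)
    · exact h
  have hc : ∀ k : ℕ, 0 < k → k < 7 → (k : F) ≠ 0 := fun k h0 h7 e => by
    have := Nat.le_of_dvd h0 ((CharP.cast_eq_zero_iff F p k).1 e)
    omega
  have h2 : (2 : F) ≠ 0 := by exact_mod_cast hc 2 (by norm_num) (by norm_num)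
  have h3 : (3 : F) ≠ 0 := by exact_mod_cast hc 3 (by norm_num) (by norm_num)
  -- a cube root of one
  obtain ⟨w, hw⟩ : ∃ w : F, w * w + w + 1 = 0 := by
    haveI : Fact (Nat.Prime 3) := ⟨Nat.prime_three⟩
    obtain ⟨u, hu⟩ := exists_prime_orderOf_dvd_card (G := Fˣ) 3 (by rw [Fintype.card_units, hF]; omega)
    refine ⟨u, ?_⟩
    have h1 : (u : F) ^ 3 = 1 := by rw [← Units.val_pow_eq_pow_val, ← hu, pow_orderOf_eq_one, Units.val_one]
    have hne : (u : F) - 1 ≠ 0 := fun h => by
      rw [show u = 1 from Units.ext (sub_eq_zero.1 h), orderOf_one] at hu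
      norm_num at hu
    exact (mul_eq_zero.1 (show ((u : F) - 1) * ((u : F) * u + u + 1) = 0 by linear_combination h1)).resolve_left hne
  obtain ⟨q, e, -, -, hcase⟩ := hd.field
  obtain ⟨hZ, m, hm, hcard⟩ : Nat.card (Subgroup.center R) = 3 ∧ ∃ m, 1 ≤ m ∧ Nat.card R = 3 ^ (1 + 2 * m) := by
    rcases hcase with ⟨-, -, hZ, hm⟩ | ⟨h, -⟩ | ⟨h, -⟩
    · exact ⟨hZ, hm⟩
    all_goals exact absurd h (by norm_num)
  have hexp : Monoid.exponent R = 3 := hd.symplecticType.exponent_eq.trans (by norm_num)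
  obtain ⟨h27, hna⟩ := Order.card_eq hw h3 R hexp hd.absIrred hZ hm hcard
  obtain ⟨l, a, b, G, hl, ha, hb, hcl, hA, hB, -⟩ := Extra27.exists_frame hw h3 h27 hexp hna
  have hl0 : l ≠ 0 := fun h => by rw [h] at hl; simp at hl
  haveI : NeZero (2 : F) := ⟨h2⟩
  let K : Root F := ⟨Units.mk0 l hl0, hl, h3⟩
  let c : GL (Fin 3) F ≃* GL Z3 F := (MulAut.conj G⁻¹).trans (MulEquiv.refl (GL (Fin 3) F))
  have hcv : ∀ x : GL (Fin 3) F, (c x : Matrix Z3 Z3 F) =
      ((G⁻¹ * x * G : GL (Fin 3) F) : Matrix (Fin 3) (Fin 3) F) := fun x => by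
    show ((G⁻¹ * x * G⁻¹⁻¹ : GL (Fin 3) F) : Matrix (Fin 3) (Fin 3) F) = _
    rw [inv_inv]
  have hdet : ∀ x : GL (Fin 3) F, (c x : Matrix Z3 Z3 F).det = (x : Matrix (Fin 3) (Fin 3) F).det := fun x => by
    rw [hcv]
    show (((G⁻¹ * x * G : GL (Fin 3) F) : Matrix (Fin 3) (Fin 3) F)).det = _
    rw [Units.val_mul, Units.val_mul, Matrix.det_units_conj']
  have hsl : ∀ (ι : Type) [Fintype ι] [DecidableEq ι] (x : GL ι F),
      x ∈ Cfsg.Geo.specialLinear ι F ↔ (x : Matrix ι ι F).det = 1 := fun ι _ _ x => by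
    rw [Cfsg.Geo.specialLinear, MonoidHom.mem_ker, Units.ext_iff]; rfl
  have hca : c a = K.W 1 0 := Units.ext (by
    rw [hcv, Units.val_mul, Units.val_mul, Matrix.mul_assoc, hA, ← Matrix.mul_assoc, ← Units.val_mul, inv_mul_cancel,
      Units.val_one, Matrix.one_mul]
    refine Matrix.ext fun z x => ?_
    refine Eq.trans ?_ (Root.W_val K 1 0 z x).symm
    have hh : ∀ i j : Fin 3, Extra27.modA l i j = if i = j + 0 then (K.l : F) ^ (((1 : Fin 3) * i : Fin 3) : ℕ) else 0 := by
      intro i j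
      fin_cases i <;> fin_cases j <;> simp +decide [Extra27.modA, Matrix.diagonal, K] <;> rfl
    refine (hh z x).trans ?_
    by_cases h1 : z = x + 0
    · exact ((if_pos h1).trans (Units.val_pow_eq_pow_val _ _).symm).trans (if_pos h1).symm
    · exact (if_neg h1).trans (if_neg h1).symm)
  have hcb : c b = K.W 0 1 := Units.ext (by
    rw [hcv, Units.val_mul, Units.val_mul, Matrix.mul_assoc, hB, ← Matrix.mul_assoc, ← Units.val_mul, inv_mul_cancel,
      Units.val_one, Matrix.one_mul]
    refine Matrix.ext fun z x => ?_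
    refine Eq.trans ?_ (Root.W_val K 0 1 z x).symm
    have hh : ∀ i j : Fin 3, (Extra27.modS : Matrix (Fin 3) (Fin 3) F) i j = if i = j + 1 then (K.l : F) ^ (((0 : Fin 3) * i : Fin 3) : ℕ) else 0 := by
      intro i j
      fin_cases i <;> fin_cases j <;> simp +decide [Extra27.modS, K] <;> rfl
    refine (hh z x).trans ?_
    by_cases h1 : z = x + 1
    · exact ((if_pos h1).trans (Units.val_pow_eq_pow_val _ _).symm).trans (if_pos h1).symm
    · exact (if_neg h1).trans (if_neg h1).symm)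
  have hRg : R.map c.toMonoidHom = Rg K := by
    refine Subgroup.eq_of_le_of_card_ge ?_ ?_
    · rw [← hcl, MonoidHom.map_closure, Subgroup.closure_le]
      rintro _ ⟨x, rfl | rfl, rfl⟩
      · show c x ∈ Rg K; rw [hca]; exact W_mem_Rg K 1 0
      · show c x ∈ Rg K; rw [hcb]; exact W_mem_Rg K 0 1
    · rw [card_Rg K, Nat.card_congr (R.equivMapOfInjective c.toMonoidHom c.injective).toEquiv.symm, h27]
  have hnor : ∀ x : GL (Fin 3) F, x ∈ Cfsg.Geo.subgroupNormalizer R ↔ K.Nor (c x) := by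
    intro x
    rw [← mem_normalizer_Rg, ← hRg]
    show x ∈ Subgroup.normalizer (R : Set (GL (Fin 3) F)) ↔ _
    rw [Subgroup.mem_normalizer_iff, Subgroup.mem_normalizer_iff]
    constructor
    · intro h y
      obtain ⟨y', rfl⟩ := c.surjective y
      rw [← map_mul, ← map_inv, ← map_mul, Subgroup.mem_map_equiv, Subgroup.mem_map_equiv, c.symm_apply_apply,
        c.symm_apply_apply]
      exact h y'
    · intro h y
      have := h (c y)
      rwa [← map_mul, ← map_inv, ← map_mul, Subgroup.mem_map_equiv, Subgroup.mem_map_equiv, c.symm_apply_apply,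
        c.symm_apply_apply] at this
  constructor
  · refine lt_of_le_of_ne inf_le_right fun heq => ?_
    let t : GL Z3 F := tv3 (show (0 : Z3) ≠ 1 by decide) 1
    obtain ⟨t', ht'⟩ := c.surjective t
    refine not_nor_shear K (t := t) rfl (ht' ▸ (hnor t').1 (heq.ge ?_).1)
    rw [hsl, ← hdet, ht']
    show (1 + Matrix.single (0 : Z3) (1 : Z3) (1 : F)).det = 1
    exact Matrix.det_transvection_of_ne _ _ (by decide) _
  intro M hM1 hM2
  set M' := M.map c.toMonoidHom with hM'
  have hback : ∀ x : GL Z3 F, K.Nor x → (x : Matrix Z3 Z3 F).det = 1 → x ∈ M' := by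
    intro x hx hx1
    obtain ⟨x', rfl⟩ := c.surjective x
    exact Subgroup.mem_map_of_mem _ (hM1 ⟨(hnor x').2 hx, (hsl _ x').2 ((hdet x').symm.trans hx1)⟩)
  have hsl' : ∀ x ∈ M', (x : Matrix Z3 Z3 F).det = 1 := by
    rintro _ ⟨x, hx, rfl⟩
    exact (hdet x).trans ((hsl _ x).1 (hM2 hx))
  have hW : ∀ a b, K.W a b ∈ M' := fun a b => hback _ (K.nor_W a b) (K.det_W a b)
  by_cases hnt : ∀ g ∈ M', ((g : Matrix Z3 Z3 F) - 1) * ((g : Matrix Z3 Z3 F) - 1) = 0 → g = 1
  · refine Or.inl (le_antisymm (fun x hx => ⟨(hnor x).2 ?_, hM2 hx⟩) hM1)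
    have hO : Over K M' :=
      { sl := hsl'
        hW := hW
        hT := hback _ K.nor_T Root.det_T
        hFr := hback _ K.nor_Fr K.det_Fr
        hF' := hback _ (K.nor_mul (K.nor_mul (nor_Dg K 1 rfl) K.nor_Fr) (K.nor_inv (nor_Dg K 1 rfl))) (by
          rw [Units.val_mul, Units.val_mul, Matrix.det_units_conj, K.det_Fr])
        nt := hnt }
    exact core hp7 hO (small_of_nt (by omega) hF hnt) _ (Subgroup.mem_map_of_mem _ hx)
  · push Not at hnt
    obtain ⟨g, hg, hg2, hg1⟩ := hnt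
    have hall := all_of_transvection K (hF ▸ hp) hW hg hg1 hg2
    refine Or.inr (le_antisymm hM2 fun x hx => ?_)
    obtain ⟨y, hy, e⟩ := hall ((hsl _ (c x)).2 ((hdet x).trans ((hsl _ x).1 hx)))
    rwa [c.injective e] at hy

end Cfsg.Agent.ClassicalMax.Hessian
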